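/-
Odd automorphism groups of 2-groups of normal rank at most two: generalities.
-/
import Mathlib
import Cfsg.Prelude.Def_Transfer
import Cfsg.Agent.Lib.TwoGroups.FourGenerators

set_option autoImplicit false
set_option linter.style.haveILetI false
set_option linter.unusedSectionVars false

namespace Cfsg.Agent.NormalTwo

open scoped commutatorElement

variable {T : Type*} [Group T]

/-- Invariance under a group of automorphisms. -/
def Inv (A : Subgroup (MulAut T)) (N : Subgroup T) : Prop := ∀ φ ∈ A, ∀ x ∈ N, φ x ∈ N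

/-- The commutator with a group of automorphisms. -/
def moved (A : Subgroup (MulAut T)) : Subgroup T :=
  Subgroup.closure {g : T | ∃ φ ∈ A, ∃ x : T, g = x⁻¹ * φ x}

/-- The fixed elements of a group of automorphisms. -/
def fixed (A : Subgroup (MulAut T)) : Subgroup T where
  carrier := {c | ∀ φ ∈ A, φ c = c}
  one_mem' := fun φ _ => map_one φ
  mul_mem' := fun {a b} ha hb φ hφ => by rw [map_mul, ha φ hφ, hb φ hφ]
  inv_mem' := fun {a} ha φ hφ => by rw [map_inv, ha φ hφ]

/-- The standing hypothesis. -/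
structure Setup (T : Type*) [Group T] where
  A : Subgroup (MulAut T)
  hT : IsPGroup 2 T
  hA : Odd (Nat.card A)
  hN : ∀ B : Subgroup T, B.Normal → IsMulCommutative B → ∃ a b : T, Subgroup.closure {a, b} = B
  hdec : ∀ t : T, ∃ c ∈ fixed A, c⁻¹ * t ∈ moved A

namespace Setup

variable (S : Setup T)

/-- The moved part. -/
def X : Subgroup T := moved S.A

/-- The fixed part. -/
def C : Subgroup T := fixed S.A

include S in
theorem hN8 (U : Subgroup T) (hUn : U.Normal) (hU : Cfsg.IsElementaryAbelian 2 U) : Nat.card U ≤ 4 := by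
  classical
  haveI := hU.1
  obtain ⟨a, b, hab⟩ := S.hN U hUn hU.1
  have ha : a ∈ U := hab ▸ Subgroup.subset_closure (Or.inl rfl)
  have hb : b ∈ U := hab ▸ Subgroup.subset_closure (Or.inr rfl)
  have hsub : ∀ u ∈ U, u = 1 ∨ u = a ∨ u = b ∨ u = a * b := by
    intro u hu
    rw [← hab] at hu
    have hc : a * b = b * a := congrArg Subtype.val (mul_comm' (⟨a, ha⟩ : U) ⟨b, hb⟩)
    have a2 : a * a = 1 := by rw [← pow_two]; exact hU.2 a ha
    have b2 : b * b = 1 := by rw [← pow_two]; exact hU.2 b hb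
    have a2' : ∀ r : T, a * (a * r) = r := fun r => by rw [← mul_assoc, a2, one_mul]
    have b2' : ∀ r : T, b * (b * r) = r := fun r => by rw [← mul_assoc, b2, one_mul]
    have hc' : ∀ r : T, b * (a * r) = a * (b * r) := fun r => by rw [← mul_assoc, ← hc, mul_assoc]
    induction hu using Subgroup.closure_induction with
    | mem u hu => rcases hu with rfl | rfl <;> simp
    | one => simp
    | mul u v _ _ hu hv =>
      rcases hu with rfl | rfl | rfl | rfl <;> rcases hv with rfl | rfl | rfl | rfl <;>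
        simp [mul_assoc, a2, b2, a2', b2', hc', hc.symm]
    | inv u _ hu =>
      rcases hu with rfl | rfl | rfl | rfl
      · simp
      · simp [inv_eq_of_mul_eq_one_right a2]
      · simp [inv_eq_of_mul_eq_one_right b2]
      · simp [inv_eq_of_mul_eq_one_right a2, inv_eq_of_mul_eq_one_right b2, hc]
  have hle : (U : Set T) ⊆ ({1, a, b, a * b} : Finset T) := fun u hu => by simpa using hsub u hu
  calc Nat.card U = Set.ncard (U : Set T) := (Nat.card_coe_set_eq _)
    _ ≤ Set.ncard (({1, a, b, a * b} : Finset T) : Set T) := Set.ncard_le_ncard hle (Finset.finite_toSet _)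
    _ ≤ 4 := by rw [Set.ncard_coe_finset]; exact Finset.card_le_four

include S in
theorem sectional [Finite T] : Cfsg.SectionalPRankLE 2 4 T :=
  FourGen.sectional S.hT fun E hE hEc hE2 => S.hN8 E hE ⟨hEc, hE2⟩

theorem X_normal : S.X.Normal := by
  refine ⟨fun n hn g => ?_⟩
  unfold X moved at hn ⊢
  induction hn using Subgroup.closure_induction with
  | mem n hn =>
    obtain ⟨φ, hφ, x, rfl⟩ := hn
    have e : g * (x⁻¹ * φ x) * g⁻¹ = ((x * g⁻¹)⁻¹ * φ (x * g⁻¹)) * ((g⁻¹)⁻¹ * φ g⁻¹)⁻¹ := by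
      simp [mul_assoc]
    rw [e]
    exact mul_mem (Subgroup.subset_closure ⟨φ, hφ, _, rfl⟩)
      (inv_mem (Subgroup.subset_closure ⟨φ, hφ, _, rfl⟩))
  | one => simp
  | mul a b _ _ iha ihb =>
    rw [show g * (a * b) * g⁻¹ = (g * a * g⁻¹) * (g * b * g⁻¹) by simp [mul_assoc]]
    exact mul_mem iha ihb
  | inv a _ iha =>
    rw [show g * a⁻¹ * g⁻¹ = (g * a * g⁻¹)⁻¹ by simp [mul_assoc]]
    exact inv_mem iha

theorem X_inv : Inv S.A S.X := by
  intro ψ hψ n hn
  unfold X moved at hn ⊢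
  induction hn using Subgroup.closure_induction with
  | mem n hn =>
    obtain ⟨φ, hφ, x, rfl⟩ := hn
    have e : ψ (x⁻¹ * φ x) = (x⁻¹ * ψ x)⁻¹ * (x⁻¹ * (ψ * φ) x) := by simp [mul_assoc]
    rw [e]
    exact mul_mem (inv_mem (Subgroup.subset_closure ⟨ψ, hψ, _, rfl⟩))
      (Subgroup.subset_closure ⟨ψ * φ, mul_mem hψ hφ, _, rfl⟩)
  | one => simp
  | mul a b _ _ iha ihb => rw [map_mul]; exact mul_mem iha ihb
  | inv a _ iha => rw [map_inv]; exact inv_mem iha

theorem exists_dec (t : T) : ∃ c ∈ S.C, ∃ x ∈ S.X, t = x * c := by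
  obtain ⟨c, hc, hx⟩ := S.hdec t
  exact ⟨c, hc, c * (c⁻¹ * t) * c⁻¹, S.X_normal.conj_mem _ hx c, by simp [mul_assoc]⟩

/-- The moved part is moved within itself. -/
theorem X_moved : S.X ≤ Subgroup.closure {g : T | ∃ φ ∈ S.A, ∃ x ∈ S.X, g = x⁻¹ * φ x} := by
  set Y := Subgroup.closure {g : T | ∃ φ ∈ S.A, ∃ x ∈ S.X, g = x⁻¹ * φ x} with hY
  unfold X moved
  rw [Subgroup.closure_le]
  rintro _ ⟨φ, hφ, t, rfl⟩
  obtain ⟨c, hc, x, hx, rfl⟩ := S.exists_dec t
  refine Subgroup.subset_closure ⟨φ, hφ, c⁻¹ * x * c, ?_, ?_⟩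
  · simpa using S.X_normal.conj_mem x hx c⁻¹
  · simp [map_mul, hc φ hφ, mul_assoc]

theorem hom_kill {M : Type*} [Group M] (f : S.X →* M)
    (h : ∀ φ (hφ : φ ∈ S.A) (x : S.X), f ⟨φ x, S.X_inv φ hφ x x.2⟩ = f x) (x : S.X) : f x = 1 := by
  have hle : S.X ≤ f.ker.map S.X.subtype := by
    refine S.X_moved.trans ((Subgroup.closure_le _).2 ?_)
    rintro _ ⟨φ, hφ, y, hy, rfl⟩
    refine ⟨⟨y, hy⟩⁻¹ * ⟨φ y, S.X_inv φ hφ y hy⟩, ?_, rfl⟩
    rw [SetLike.mem_coe, MonoidHom.mem_ker, map_mul, map_inv, h φ hφ ⟨y, hy⟩, inv_mul_cancel]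
  obtain ⟨y, hy, e⟩ := hle x.2
  rw [← Subtype.ext (a1 := y) (a2 := x) e]
  exact MonoidHom.mem_ker.1 hy

theorem centralized_of_fixed {N : Subgroup T} (hN : N.Normal) (hfix : ∀ φ ∈ S.A, ∀ n ∈ N, φ n = n) :
    ∀ n ∈ N, ∀ x ∈ S.X, n * x = x * n := by
  intro n hn
  have hle : S.X ≤ Subgroup.centralizer (N : Set T) := by
    unfold X moved
    rw [Subgroup.closure_le]
    rintro _ ⟨φ, hφ, x, rfl⟩
    refine Subgroup.mem_centralizer_iff.2 fun m hm => ?_
    have h1 : φ x * m * (φ x)⁻¹ = x * m * x⁻¹ := by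
      have := hfix φ hφ _ (hN.conj_mem m hm x)
      rwa [map_mul, map_mul, map_inv, hfix φ hφ m hm] at this
    calc m * (x⁻¹ * φ x) = x⁻¹ * (x * m * x⁻¹) * φ x := by simp [mul_assoc]
      _ = x⁻¹ * φ x * m := by rw [← h1]; simp [mul_assoc]
  exact fun x hx => (Subgroup.mem_centralizer_iff.1 (hle hx)) n hn

end Setup

variable [Finite T] (S : Setup T)

theorem odd_orderOf {φ : MulAut T} (hφ : φ ∈ S.A) : Odd (orderOf φ) := by
  have h : orderOf (⟨φ, hφ⟩ : S.A) ∣ Nat.card S.A := orderOf_dvd_natCard _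
  rw [Subgroup.orderOf_mk] at h
  exact S.hA.of_dvd_nat h

theorem mul_comm_elem {U : Subgroup T} (hU : Cfsg.IsElementaryAbelian 2 U) {a b : T} (ha : a ∈ U) (hb : b ∈ U) :
    a * b = b * a := by
  haveI := hU.1
  exact congrArg Subtype.val (mul_comm' (⟨a, ha⟩ : U) ⟨b, hb⟩)

/-- An odd automorphism fixing an element and swapping cannot occur. -/
theorem no_swap {φ : MulAut T} (hφ : φ ∈ S.A) {e : T} (h : φ (φ e) = e) : φ e = e := by
  obtain ⟨m, hm⟩ := odd_orderOf S hφ
  have h2 : ∀ n : ℕ, (φ ^ (2 * n)) e = e := fun n => by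
    induction n with
    | zero => simp
    | succ n ih => rw [show 2 * (n + 1) = 2 * n + 2 by ring, pow_add, pow_two, MulAut.mul_apply, MulAut.mul_apply, h, ih]
  have := DFunLike.congr_fun (pow_orderOf_eq_one φ) e
  rw [hm, pow_succ', MulAut.mul_apply, h2] at this
  simpa using this

theorem trivial_of_omega {B : Subgroup T} (hBc : ∀ a ∈ B, ∀ b ∈ B, a * b = b * a) {φ : MulAut T}
    (hφ : φ ∈ S.A) (hBi : ∀ b ∈ B, φ b ∈ B) (hfix : ∀ b ∈ B, b ^ 2 = 1 → φ b = b) :
    ∀ b ∈ B, φ b = b := by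
  have key : ∀ k : ℕ, ∀ b ∈ B, b ^ 2 ^ k = 1 → φ b = b := by
    intro k
    induction k with
    | zero => intro b _ h; rw [pow_zero, pow_one] at h; rw [h, map_one]
    | succ k ih =>
      intro b hb h
      have hb2 : φ (b ^ 2) = b ^ 2 := ih _ (pow_mem hb 2) (by rw [← pow_mul, ← pow_succ']; exact h)
      set w := b⁻¹ * φ b with hw
      have hwB : w ∈ B := mul_mem (inv_mem hb) (hBi b hb)
      have hw2 : w ^ 2 = 1 := by
        rw [hw, (show Commute b⁻¹ (φ b) from hBc _ (inv_mem hb) _ (hBi b hb)).mul_pow, inv_pow, ← map_pow, hb2,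
          inv_mul_cancel]
      have hbw : φ b = b * w := by rw [hw, mul_inv_cancel_left]
      have hn : ∀ n : ℕ, (φ ^ n) b = b * w ^ n := fun n => by
        induction n with
        | zero => simp
        | succ n ihn =>
          rw [pow_succ', MulAut.mul_apply, ihn, map_mul, map_pow, hfix w hwB hw2, hbw, pow_succ', mul_assoc]
      obtain ⟨m, hm⟩ := odd_orderOf S hφ
      have := hn (orderOf φ)
      rw [pow_orderOf_eq_one, MulAut.one_apply, hm, pow_succ, pow_mul, hw2, one_pow, one_mul] at this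
      rw [hbw, ← this]
  intro b hb
  obtain ⟨k, hk⟩ := S.hT b
  exact key k b hb hk

/-- The shape of an elementary abelian group of order at most 4 moved by an odd automorphism. -/
theorem three {U : Subgroup T} (hU : Cfsg.IsElementaryAbelian 2 U) (h4 : Nat.card U ≤ 4) (hUi : Inv S.A U)
    {φ : MulAut T} (hφ : φ ∈ S.A) {e : T} (he : e ∈ U) (hm : φ e ≠ e) :
    φ (φ e) = e * φ e ∧ φ (φ (φ e)) = e ∧ Nat.card U = 4 ∧
      (∀ u ∈ U, u = 1 ∨ u = e ∨ u = φ e ∨ u = e * φ e) ∧ e ≠ 1 ∧ e * φ e ≠ 1 := by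
  have sq : ∀ u ∈ U, u * u = 1 := fun u hu => by rw [← pow_two]; exact hU.2 u hu
  have he1 : e ≠ 1 := fun h => hm (by rw [h, map_one])
  have hf : φ e ∈ U := hUi φ hφ e he
  have hf1 : φ e ≠ 1 := fun h => he1 (φ.map_eq_one_iff.1 h)
  have hef : e * φ e ≠ 1 := fun h => hm (mul_left_cancel (a := e) (h.trans (sq e he).symm))
  have h1 : e * φ e ≠ e := fun h => hf1 (mul_eq_left.1 h)
  have h2 : e * φ e ≠ φ e := fun h => he1 (mul_eq_right.1 h)
  classical
  haveI : Fintype U := Fintype.ofFinite U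
  have h4' : Fintype.card U ≤ 4 := by rw [← Nat.card_eq_fintype_card]; exact h4
  let T : Finset U := {⟨1, one_mem U⟩, ⟨e, he⟩, ⟨φ e, hf⟩, ⟨e * φ e, mul_mem he hf⟩}
  have hT : T.card = 4 := by
    simp [T, Finset.card_insert_of_notMem, Ne.symm he1, Ne.symm hf1, Ne.symm hef, Ne.symm hm, Ne.symm h1, Ne.symm h2]
  have hall : ∀ u ∈ U, u = 1 ∨ u = e ∨ u = φ e ∨ u = e * φ e := by
    intro u hu
    have : T = Finset.univ := Finset.eq_univ_of_card T (le_antisymm (Finset.card_le_univ T) (hT ▸ h4'))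
    have h := Finset.mem_univ (⟨u, hu⟩ : U)
    rw [← this] at h
    simpa [T] using h
  have hc : Nat.card U = 4 := le_antisymm h4 (by
    rw [Nat.card_eq_fintype_card, ← hT]; exact Finset.card_le_univ T)
  have hff : φ (φ e) = e * φ e := by
    rcases hall _ (hUi φ hφ _ hf) with h | h | h | h
    · exact absurd (φ.map_eq_one_iff.1 h) hf1
    · exact absurd (no_swap S hφ h) hm
    · exact absurd (φ.injective h) hm
    · exact h
  refine ⟨hff, ?_, hc, hall, he1, hef⟩
  rw [hff, map_mul, hff]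
  have hcm : φ e * e = e * φ e := mul_comm_elem hU hf he
  rw [← mul_assoc, hcm, mul_assoc, sq _ hf, mul_one]

theorem eq_one_of_fixed {U : Subgroup T} (hU : Cfsg.IsElementaryAbelian 2 U) (h4 : Nat.card U ≤ 4) (hUi : Inv S.A U)
    {φ : MulAut T} (hφ : φ ∈ S.A) {e : T} (he : e ∈ U) (hm : φ e ≠ e) {u : T} (hu : u ∈ U) (huf : φ u = u) :
    u = 1 := by
  obtain ⟨hff, h3, -, hall, he1, -⟩ := three S hU h4 hUi hφ he hm
  rcases hall u hu with h | h | h | h
  · exact h
  · exact absurd (h ▸ huf) hm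
  · rw [h] at huf
    exact absurd (φ.injective huf) hm
  · rw [h, map_mul, hff] at huf
    have hcm : φ e * e = e * φ e := mul_comm_elem hU (hUi φ hφ e he) he
    rw [← mul_assoc, hcm, mul_eq_left] at huf
    exact absurd (φ.map_eq_one_iff.1 huf) he1

/-- A nontrivial invariant subgroup inside is the whole. -/
theorem le_of_inv {U W : Subgroup T} (hU : Cfsg.IsElementaryAbelian 2 U) (h4 : Nat.card U ≤ 4) (hUi : Inv S.A U)
    {φ : MulAut T} (hφ : φ ∈ S.A) {e : T} (he : e ∈ U) (hm : φ e ≠ e) (hTU : W ≤ U) (hTi : Inv S.A W)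
    (hT : W ≠ ⊥) : U ≤ W := by
  obtain ⟨t, ht, ht1⟩ := (Subgroup.bot_or_exists_ne_one W).resolve_left hT
  have htm : φ t ≠ t := fun h => ht1 (eq_one_of_fixed S hU h4 hUi hφ he hm (hTU ht) h)
  obtain ⟨-, -, -, hall, -, -⟩ := three S hU h4 hUi hφ (hTU ht) htm
  intro u hu
  rcases hall u hu with h | h | h | h <;> rw [h]
  · exact one_mem _
  · exact ht
  · exact hTi φ hφ t ht
  · exact mul_mem ht (hTi φ hφ t ht)

/-- The powers of a moving automorphism give all actions. -/
theorem act_power {U : Subgroup T} (hU : Cfsg.IsElementaryAbelian 2 U) (h4 : Nat.card U ≤ 4) (hUi : Inv S.A U)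
    {φ : MulAut T} (hφ : φ ∈ S.A) {e : T} (he : e ∈ U) (hm : φ e ≠ e) {ψ : MulAut T} (hψ : ψ ∈ S.A) :
    (∀ u ∈ U, ψ u = u) ∨ (∀ u ∈ U, ψ u = φ u) ∨ (∀ u ∈ U, ψ u = φ (φ u)) := by
  obtain ⟨hff, -, -, hall, he1, -⟩ := three S hU h4 hUi hφ he hm
  have fixall : ∀ χ ∈ S.A, χ e = e → ∀ u ∈ U, χ u = u := fun χ hχ h u hu => by
    by_contra hu'
    exact he1 (eq_one_of_fixed S hU h4 hUi hχ hu hu' he h)
  rcases hall _ (hUi ψ hψ e he) with h | h | h | h
  · exact absurd (ψ.map_eq_one_iff.1 h) he1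
  · exact Or.inl (fixall ψ hψ h)
  · refine Or.inr (Or.inl fun u hu => ?_)
    have := fixall (φ⁻¹ * ψ) (mul_mem (inv_mem hφ) hψ) (by rw [MulAut.mul_apply, h, MulAut.inv_apply_self]) u hu
    rw [MulAut.mul_apply] at this
    conv_rhs => rw [← this, MulAut.apply_inv_self]
  · refine Or.inr (Or.inr fun u hu => ?_)
    have := fixall (φ⁻¹ * φ⁻¹ * ψ) (mul_mem (mul_mem (inv_mem hφ) (inv_mem hφ)) hψ)
      (by rw [MulAut.mul_apply, h, ← hff, MulAut.mul_apply, MulAut.inv_apply_self, MulAut.inv_apply_self]) u hu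
    rw [MulAut.mul_apply, MulAut.mul_apply] at this
    conv_rhs => rw [← this, MulAut.apply_inv_self, MulAut.apply_inv_self]

/-- Small invariant normal elementary abelian subgroups are central. -/
theorem central_small {U : Subgroup T} (hN : U.Normal) (hU : Cfsg.IsElementaryAbelian 2 U) (h4 : Nat.card U ≤ 4)
    (hUi : Inv S.A U) (hmv : ∃ φ ∈ S.A, ∃ e ∈ U, φ e ≠ e) : U ≤ Subgroup.center T := by
  obtain ⟨φ, hφ, e, he, hm⟩ := hmv
  have sq : ∀ u ∈ U, u * u = 1 := fun u hu => by rw [← pow_two]; exact hU.2 u hu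
  have key : ∀ x : T, ∃ u ∈ U, u ≠ 1 ∧ x * u * x⁻¹ = u := by
    intro x
    by_contra hno
    push Not at hno
    obtain ⟨hff, -, -, hall, he1, hef⟩ := three S hU h4 hUi hφ he hm
    set c : T → T := fun u => x * u * x⁻¹ with hc
    have hcm : ∀ u v, c (u * v) = c u * c v := fun u v => by simp [hc, mul_assoc]
    have hcU : ∀ u ∈ U, c u ∈ U := fun u hu => hN.conj_mem u hu x
    have hc3 : ∀ u ∈ U, u ≠ 1 → c (c (c u)) = u := by
      intro u hu hu1
      have hm' : φ u ≠ u := fun h => hu1 (eq_one_of_fixed S hU h4 hUi hφ he hm hu h)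
      obtain ⟨-, -, -, hall', -, -⟩ := three S hU h4 hUi hφ hu hm'
      have hv : c u ∈ U := hcU u hu
      have hv1 : c u ≠ 1 := fun h => hu1 (conj_eq_one_iff.1 h)
      have hvu : c u ≠ u := hno u hu hu1
      have hww : c (c u) ≠ c u := hno _ hv hv1
      -- the third element
      have hw : c (c u) = u * c u ∨ c (c u) = u := by
        have hv' : c u = φ u ∨ c u = u * φ u := by
          rcases hall' _ hv with h | h | h | h
          · exact absurd h hv1
          · exact absurd h hvu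
          · exact Or.inl h
          · exact Or.inr h
        rcases hall' _ (hcU _ hv) with h | h | h | h
        · exact absurd (conj_eq_one_iff.1 h) hv1
        · exact Or.inr h
        · rcases hv' with h' | h'
          · exact absurd (h.trans h'.symm) hww
          · left; rw [h, h', ← mul_assoc, sq u hu, one_mul]
        · rcases hv' with h' | h'
          · left; rw [h, h']
          · exact absurd (h.trans h'.symm) hww
      rcases hw with h | h
      · rw [h, hcm, h, mul_comm_elem hU hv (mul_mem hu hv), mul_assoc, sq _ hv, mul_one]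
      · exfalso
        have huv : u * c u ≠ 1 := fun h' => hvu (mul_left_cancel (a := u) (h'.trans (sq u hu).symm))
        refine hno _ (mul_mem hu hv) huv ?_
        show c (u * c u) = u * c u
        rw [hcm, h]
        exact mul_comm_elem hU hv hu
    obtain ⟨k, hk⟩ := S.hT x
    have hco : Nat.Coprime (2 ^ k) 3 := Nat.Coprime.pow_left k (by norm_num)
    have h3 : ∀ u ∈ U, u ≠ 1 → x ^ 3 * u * (x ^ 3)⁻¹ = u := fun u hu hu1 => by
      have := hc3 u hu hu1
      simp only [hc] at this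
      rw [pow_three]
      simpa [mul_assoc] using this
    have hx3 : x ^ 3 ∈ Subgroup.centralizer ({e} : Set T) :=
      Subgroup.mem_centralizer_singleton_iff.2 (mul_inv_eq_iff_eq_mul.1 (h3 e he he1))
    have hord : Nat.Coprime (orderOf x) 3 := hco.coprime_dvd_left (orderOf_dvd_of_pow_eq_one hk)
    obtain ⟨j, hj⟩ := exists_pow_eq_self_of_coprime hord.symm
    have hx : x ∈ Subgroup.centralizer ({e} : Set T) := hj ▸ pow_mem hx3 j
    exact hno e he he1 (by rw [Subgroup.mem_centralizer_singleton_iff.1 hx, mul_inv_cancel_right])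
  intro v hv
  refine Subgroup.mem_center_iff.2 fun g => ?_
  by_contra hgv
  have hgv' : g * v * g⁻¹ ≠ v := fun h => hgv (mul_inv_eq_iff_eq_mul.1 h)
  obtain ⟨u, hu, hu1, hgu⟩ := key g
  obtain ⟨hff, h3, -, hall, -, hef⟩ := three S hU h4 hUi hφ hu
    (fun h => hu1 (eq_one_of_fixed S hU h4 hUi hφ he hm hu h))
  have hfu : φ u ∈ U := hUi φ hφ u hu
  have hc1 : g * φ u * g⁻¹ = u * φ u := by
    rcases hall _ (hN.conj_mem _ hfu g) with h | h | h | h
    · exact absurd (φ.map_eq_one_iff.1 (conj_eq_one_iff.1 h)) hu1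
    · have h' : φ u = u := mul_left_cancel (mul_right_cancel (h.trans hgu.symm))
      exact absurd h' (fun h => hu1 (eq_one_of_fixed S hU h4 hUi hφ he hm hu h))
    · exfalso
      refine hgv' ?_
      rcases hall v hv with h' | h' | h' | h' <;> rw [h']
      · simp
      · exact hgu
      · exact h
      · rw [show g * (u * φ u) * g⁻¹ = (g * u * g⁻¹) * (g * φ u * g⁻¹) by simp [mul_assoc], hgu, h]
    · exact h
  have hy : φ g * φ u * (φ g)⁻¹ = φ u := by
    have := congrArg φ hgu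
    simpa using this
  have hy2 : φ g * (u * φ u) * (φ g)⁻¹ = u := by
    have := congrArg φ hc1
    rw [map_mul, map_mul, map_inv, map_mul, hff, ← mul_assoc (φ u) u (φ u), mul_comm_elem hU hfu hu,
      mul_assoc u, sq _ hfu, mul_one] at this
    exact this
  have hy3 : φ g * u * (φ g)⁻¹ = u * φ u := by
    have h : φ g * u * (φ g)⁻¹ = (φ g * (u * φ u) * (φ g)⁻¹) * (φ g * φ u * (φ g)⁻¹)⁻¹ := by simp [mul_assoc]
    rw [h, hy, hy2, inv_eq_of_mul_eq_one_right (sq _ hfu)]
  obtain ⟨t, ht, ht1, hxt⟩ := key (g * φ g)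
  have hxt' : g * (φ g * t * (φ g)⁻¹) * g⁻¹ = t := by simpa [mul_assoc] using hxt
  rcases hall t ht with h | h | h | h <;> rw [h] at hxt'
  · exact ht1 h
  · rw [hy3, show g * (u * φ u) * g⁻¹ = (g * u * g⁻¹) * (g * φ u * g⁻¹) by simp [mul_assoc], hgu, hc1,
      ← mul_assoc, sq u hu, one_mul] at hxt'
    exact hu1 (eq_one_of_fixed S hU h4 hUi hφ he hm hu hxt')
  · rw [hy, hc1] at hxt'
    exact hu1 (mul_eq_right.1 hxt')
  · rw [hy2, hgu] at hxt'
    exact hu1 (φ.map_eq_one_iff.1 (mul_eq_left.1 hxt'.symm))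

/-- The involutions and identity of an abelian subgroup. -/
def Om (B : Subgroup T) (hBc : ∀ a ∈ B, ∀ b ∈ B, a * b = b * a) : Subgroup T where
  carrier := {b | b ∈ B ∧ b ^ 2 = 1}
  one_mem' := ⟨one_mem _, one_pow _⟩
  mul_mem' := fun {a b} ha hb => ⟨mul_mem ha.1 hb.1, by
    rw [(show Commute a b from hBc a ha.1 b hb.1).mul_pow, ha.2, hb.2, one_mul]⟩
  inv_mem' := fun {a} ha => ⟨inv_mem ha.1, by rw [inv_pow, ha.2, inv_one]⟩

theorem Om_facts {B : Subgroup T} (hBc : ∀ a ∈ B, ∀ b ∈ B, a * b = b * a) (hN : B.Normal) (hBi : Inv S.A B) :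
    (Om B hBc).Normal ∧ Inv S.A (Om B hBc) ∧ Cfsg.IsElementaryAbelian 2 (Om B hBc) ∧ Nat.card (Om B hBc) ≤ 4 := by
  have h1 : (Om B hBc).Normal := ⟨fun b hb g => ⟨hN.conj_mem b hb.1 g, by rw [conj_pow, hb.2]; simp⟩⟩
  have h3 : Cfsg.IsElementaryAbelian 2 (Om B hBc) :=
    ⟨.of_setLike_mul_comm fun a ha b hb => hBc a ha.1 b hb.1, fun a ha => ha.2⟩
  exact ⟨h1, fun φ hφ b hb => ⟨hBi φ hφ b hb.1, by rw [← map_pow, hb.2, map_one]⟩, h3, S.hN8 _ h1 h3⟩

include S in
/-- A central four-group and a further involution central modulo it give a normal `E₈`. -/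
theorem small_ext {U : Subgroup T} (hU : ∀ u ∈ U, u ^ 2 = 1) (hUc : U ≤ Subgroup.center T) (h4 : Nat.card U = 4)
    {x : T} (hx : x ^ 2 = 1) (hxU : x ∉ U) (hcomm : ∀ z : T, ⁅z, x⁆ ∈ U) : False := by
  set W := Subgroup.closure ((U : Set T) ∪ {x}) with hW
  have hcm : IsMulCommutative W := Subgroup.isMulCommutative_closure (by
    rintro a (ha | ha) b (hb | hb)
    · exact (Subgroup.mem_center_iff.1 (hUc ha) b).symm
    · exact (Subgroup.mem_center_iff.1 (hUc ha) b).symm
    · exact Subgroup.mem_center_iff.1 (hUc hb) a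
    · rw [Set.mem_singleton_iff] at ha hb; rw [ha, hb])
  have hsq : ∀ a ∈ W, a ^ 2 = 1 := by
    intro a ha
    induction ha using Subgroup.closure_induction with
    | mem a ha =>
      rcases ha with ha | ha
      · exact hU a ha
      · rw [Set.mem_singleton_iff.1 ha]; exact hx
    | one => exact one_pow _
    | mul a b ha hb iha ihb =>
      have hc : a * b = b * a := by
        haveI := hcm
        exact congrArg Subtype.val (mul_comm' (⟨a, ha⟩ : W) ⟨b, hb⟩)
      rw [(show Commute a b from hc).mul_pow, iha, ihb, one_mul]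
    | inv a _ iha => rw [inv_pow, iha, inv_one]
  have hn : W.Normal := ⟨fun a ha g => by
    induction ha using Subgroup.closure_induction with
    | mem a ha =>
      rcases ha with ha | ha
      · rw [Subgroup.mem_center_iff.1 (hUc ha) g, mul_inv_cancel_right]
        exact Subgroup.subset_closure (Or.inl ha)
      · rw [Set.mem_singleton_iff.1 ha,
          show g * x * g⁻¹ = ⁅g, x⁆ * x by simp [commutatorElement_def]]
        exact mul_mem (Subgroup.subset_closure (Or.inl (hcomm g))) (Subgroup.subset_closure (Or.inr rfl))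
    | one => simp
    | mul a b _ _ iha ihb =>
      rw [show g * (a * b) * g⁻¹ = g * a * g⁻¹ * (g * b * g⁻¹) by simp [mul_assoc]]
      exact mul_mem iha ihb
    | inv a _ iha =>
      rw [show g * a⁻¹ * g⁻¹ = (g * a * g⁻¹)⁻¹ by simp [mul_assoc]]
      exact inv_mem iha⟩
  have hlt : U < W := lt_of_le_of_ne (fun a ha => Subgroup.subset_closure (Or.inl ha))
    fun h => hxU (h ▸ Subgroup.subset_closure (Or.inr rfl))
  have h5 : Nat.card U < Nat.card W := Set.ncard_lt_ncard hlt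
  have := S.hN8 W hn ⟨hcm, hsq⟩
  omega

end Cfsg.Agent.NormalTwo
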