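/-
A maximal invariant abelian normal subgroup moved by the automorphisms is self-centralizing.
-/
import Mathlib
import Cfsg.Agent.Lib.NormalTwo.Basic
import Cfsg.Agent.Lib.Solvable.Structure

set_option autoImplicit false
set_option linter.style.haveILetI false
set_option linter.unusedSectionVars false

namespace Cfsg.Agent.NormalTwo

open scoped commutatorElement

variable {T : Type*} [Group T] [Finite T]

/-- A moved maximal invariant abelian normal subgroup of exponent at least four. -/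
structure Moved (S : Setup T) where
  D : Subgroup T
  normal : D.Normal
  inv : Inv S.A D
  leX : D ≤ S.X
  comm : ∀ a ∈ D, ∀ b ∈ D, a * b = b * a
  max : ∀ N : Subgroup T, N.Normal → N ≤ S.X → Inv S.A N → (∀ a ∈ N, ∀ b ∈ N, a * b = b * a) → D ≤ N → N ≤ D
  φ : MulAut T
  hφ : φ ∈ S.A
  e : T
  he : e ∈ D
  he2 : e ^ 2 = 1
  hm : φ e ≠ e
  big : ∃ d ∈ D, d ^ 2 ≠ 1

variable {S : Setup T} (M : Moved S)

/-- The involutions of `D`. -/
def Moved.E : Subgroup T := Om M.D M.comm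

theorem Moved.E_facts : M.E.Normal ∧ Inv S.A M.E ∧ Cfsg.IsElementaryAbelian 2 M.E ∧ Nat.card M.E ≤ 4 :=
  Om_facts S M.comm M.normal M.inv

theorem Moved.mem_E {x : T} (hx : x ∈ M.D) (h2 : x ^ 2 = 1) : x ∈ M.E := ⟨hx, h2⟩

theorem Moved.eE : M.e ∈ M.E := ⟨M.he, M.he2⟩

theorem Moved.three' : M.φ (M.φ M.e) = M.e * M.φ M.e ∧ M.φ (M.φ (M.φ M.e)) = M.e ∧ Nat.card M.E = 4 ∧
    (∀ u ∈ M.E, u = 1 ∨ u = M.e ∨ u = M.φ M.e ∨ u = M.e * M.φ M.e) ∧ M.e ≠ 1 ∧ M.e * M.φ M.e ≠ 1 :=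
  three S M.E_facts.2.2.1 M.E_facts.2.2.2 M.E_facts.2.1 M.hφ M.eE M.hm

theorem Moved.E_le_X : M.E ≤ S.X := fun _ h => M.leX h.1

theorem Moved.E_central : M.E ≤ Subgroup.center T :=
  central_small S M.E_facts.1 M.E_facts.2.2.1 M.E_facts.2.2.2 M.E_facts.2.1 ⟨M.φ, M.hφ, M.e, M.eE, M.hm⟩

theorem Moved.E_card : Nat.card M.E = 4 := M.three'.2.2.1

theorem Moved.fpf {u : T} (hu : u ∈ M.E) (h : M.φ u = u) : u = 1 :=
  eq_one_of_fixed S M.E_facts.2.2.1 M.E_facts.2.2.2 M.E_facts.2.1 M.hφ M.eE M.hm hu h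

/-- The exponent of `D` and a root of `e`. -/
theorem Moved.exists_root : ∃ a : ℕ, 2 ≤ a ∧ (∀ d ∈ M.D, d ^ 2 ^ a = 1) ∧ ∃ d ∈ M.D, d ^ 2 ^ (a - 1) = M.e := by
  classical
  have hex : ∃ k : ℕ, ∀ d ∈ M.D, d ^ 2 ^ k = 1 := by
    obtain ⟨n, hn⟩ := IsPGroup.iff_card.1 S.hT
    exact ⟨n, fun d _ => by rw [← hn]; exact pow_card_eq_one'⟩
  set a := Nat.find hex
  have ha : ∀ d ∈ M.D, d ^ 2 ^ a = 1 := Nat.find_spec hex
  have ha2 : 2 ≤ a := by
    by_contra h
    obtain ⟨d, hd, hd2⟩ := M.big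
    have := ha d hd
    interval_cases a
    · rw [pow_zero, pow_one] at this; exact hd2 (by rw [this, one_pow])
    · rw [pow_one] at this; exact hd2 this
  let R : Subgroup T :=
    { carrier := {x | ∃ d ∈ M.D, d ^ 2 ^ (a - 1) = x}
      one_mem' := ⟨1, one_mem _, one_pow _⟩
      mul_mem' := by
        rintro _ _ ⟨d, hd, rfl⟩ ⟨d', hd', rfl⟩
        exact ⟨d * d', mul_mem hd hd', (show Commute d d' from M.comm d hd d' hd').mul_pow _⟩
      inv_mem' := by rintro _ ⟨d, hd, rfl⟩; exact ⟨d⁻¹, inv_mem hd, inv_pow d _⟩ }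
  have hRE : R ≤ M.E := by
    rintro _ ⟨d, hd, rfl⟩
    refine M.mem_E (pow_mem hd _) ?_
    rw [← pow_mul, ← pow_succ, Nat.sub_add_cancel (by omega)]; exact ha d hd
  have hRi : Inv S.A R := by
    rintro ψ hψ _ ⟨d, hd, rfl⟩
    exact ⟨ψ d, M.inv ψ hψ d hd, (map_pow ψ d _).symm⟩
  have hR : R ≠ ⊥ := by
    intro h
    have := Nat.find_min hex (show a - 1 < a by omega)
    apply this
    intro d hd
    exact Subgroup.mem_bot.1 (h ▸ (⟨d, hd, rfl⟩ : d ^ 2 ^ (a - 1) ∈ R))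
  exact ⟨a, ha2, ha, le_of_inv S M.E_facts.2.2.1 M.E_facts.2.2.2 M.E_facts.2.1 M.hφ M.eE M.hm hRE hRi hR M.eE⟩

/-- The exponent. -/
noncomputable def Moved.a : ℕ := M.exists_root.choose

theorem Moved.two_le : 2 ≤ M.a := M.exists_root.choose_spec.1

theorem Moved.pow_eq {d : T} (hd : d ∈ M.D) : d ^ 2 ^ M.a = 1 := M.exists_root.choose_spec.2.1 d hd

/-- A root of `e`. -/
noncomputable def Moved.d₀ : T := M.exists_root.choose_spec.2.2.choose

theorem Moved.d₀_mem : M.d₀ ∈ M.D := M.exists_root.choose_spec.2.2.choose_spec.1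

theorem Moved.d₀_pow : M.d₀ ^ 2 ^ (M.a - 1) = M.e := M.exists_root.choose_spec.2.2.choose_spec.2

theorem Moved.N_E {d : T} (hd : d ∈ M.D) : d ^ 2 ^ (M.a - 1) ∈ M.E := by
  refine M.mem_E (pow_mem hd _) ?_
  rw [← pow_mul, ← pow_succ, Nat.sub_add_cancel (by have := M.two_le; omega)]; exact M.pow_eq hd

/-- Every element of `D` is a product of powers of the two roots. -/
theorem Moved.span {x : T} (hx : x ∈ M.D) : ∃ i j : ℕ, x = M.d₀ ^ i * (M.φ M.d₀) ^ j := by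
  have hd1 : M.φ M.d₀ ∈ M.D := M.inv M.φ M.hφ _ M.d₀_mem
  have hc : Commute M.d₀ (M.φ M.d₀) := M.comm _ M.d₀_mem _ hd1
  have key : ∀ k, k ≤ M.a → ∀ x ∈ M.D, x ^ 2 ^ k = 1 →
      ∃ i j : ℕ, x = M.d₀ ^ (2 ^ (M.a - k) * i) * (M.φ M.d₀) ^ (2 ^ (M.a - k) * j) := by
    intro k
    induction k with
    | zero =>
      intro _ x _ h
      rw [pow_zero, pow_one] at h
      exact ⟨0, 0, by simp [h]⟩
    | succ k ih =>
      intro hk x hx h
      obtain ⟨i, j, hij⟩ := ih (by omega) (x ^ 2) (pow_mem hx 2) (by rw [← pow_mul, ← pow_succ']; exact h)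
      set t := M.a - (k + 1) with ht
      have htk : M.a - k = t + 1 := by omega
      rw [htk] at hij
      set y := M.d₀ ^ (2 ^ t * i) * (M.φ M.d₀) ^ (2 ^ t * j) with hy
      have hyD : y ∈ M.D := mul_mem (pow_mem M.d₀_mem _) (pow_mem hd1 _)
      have hy2 : y ^ 2 = x ^ 2 := by
        rw [hy, (hc.pow_pow _ _).mul_pow, ← pow_mul, ← pow_mul, hij, pow_succ]; ring_nf
      have hu : y⁻¹ * x ∈ M.E := M.mem_E (mul_mem (inv_mem hyD) hx) (by
        rw [(show Commute y⁻¹ x from M.comm _ (inv_mem hyD) _ hx).mul_pow, inv_pow, hy2, inv_mul_cancel])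
      have hN : 2 ^ (M.a - 1) = 2 ^ t * 2 ^ k := by rw [← pow_add]; congr 1; omega
      have e1 : M.φ M.e = (M.φ M.d₀) ^ 2 ^ (M.a - 1) := by rw [← map_pow, M.d₀_pow]
      have hx' : x = y * (y⁻¹ * x) := by simp
      rcases M.three'.2.2.2.1 _ hu with h' | h' | h' | h' <;> rw [h'] at hx'
      · exact ⟨i, j, by rw [hx', mul_one]⟩
      · refine ⟨i + 2 ^ k, j, ?_⟩
        rw [hx', hy, ← M.d₀_pow, hN, mul_assoc, (hc.pow_pow _ _).symm.eq, ← mul_assoc, ← pow_add, mul_add]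
      · refine ⟨i, j + 2 ^ k, ?_⟩
        rw [hx', hy, e1, hN, mul_assoc, ← pow_add, mul_add]
      · refine ⟨i + 2 ^ k, j + 2 ^ k, ?_⟩
        rw [hx', hy, e1, ← M.d₀_pow, hN, mul_add, mul_add, pow_add M.d₀, pow_add (M.φ M.d₀)]
        exact (hc.pow_pow _ _).symm.mul_mul_mul_comm _ _
  obtain ⟨i, j, h⟩ := key M.a le_rfl x hx (M.pow_eq hx)
  exact ⟨_, _, h⟩

/-- Elements killed by the top power are squares. -/
theorem Moved.sq_root {d : T} (hd : d ∈ M.D) (h : d ^ 2 ^ (M.a - 1) = 1) : ∃ r ∈ M.D, r ^ 2 = d := by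
  obtain ⟨i, j, rfl⟩ := M.span hd
  have hd1 : M.φ M.d₀ ∈ M.D := M.inv M.φ M.hφ _ M.d₀_mem
  have hc : Commute M.d₀ (M.φ M.d₀) := M.comm _ M.d₀_mem _ hd1
  have e1 : M.φ M.e = (M.φ M.d₀) ^ 2 ^ (M.a - 1) := by rw [← map_pow, M.d₀_pow]
  rw [(hc.pow_pow _ _).mul_pow, ← pow_mul, ← pow_mul, mul_comm i, mul_comm j, pow_mul, pow_mul, M.d₀_pow, ← e1] at h
  obtain ⟨-, -, -, -, he1, hef⟩ := M.three'
  have f2 : (M.φ M.e) ^ 2 = 1 := by rw [← map_pow, M.he2, map_one]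
  have f1 : M.φ M.e ≠ 1 := fun h => he1 (M.φ.map_eq_one_iff.1 h)
  rcases Nat.even_or_odd i with ⟨i', rfl⟩ | ⟨i', rfl⟩ <;> rcases Nat.even_or_odd j with ⟨j', rfl⟩ | ⟨j', rfl⟩ <;>
    simp only [← two_mul, pow_succ, pow_mul, M.he2, f2, one_pow, one_mul, mul_one] at h
  · refine ⟨M.d₀ ^ i' * (M.φ M.d₀) ^ j', mul_mem (pow_mem M.d₀_mem _) (pow_mem hd1 _), ?_⟩
    rw [(hc.pow_pow _ _).mul_pow, ← pow_mul, ← pow_mul]; ring_nf
  · exact absurd h f1
  · exact absurd h he1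
  · exact absurd h hef

theorem Moved.centralizer_le : Subgroup.centralizer (M.D : Set T) ⊓ S.X ≤ M.D := by
  classical
  haveI := M.normal
  haveI : Fact (Nat.Prime 2) := ⟨Nat.prime_two⟩
  haveI := S.X_normal
  set C := Subgroup.centralizer (M.D : Set T) ⊓ S.X with hC
  by_contra hCD
  haveI hCn : C.Normal := Subgroup.normal_inf_normal _ _
  set q := QuotientGroup.mk' M.D with hq
  haveI : Group.IsNilpotent (T ⧸ M.D) := (S.hT.to_quotient M.D).isNilpotent
  haveI : (C.map q).Normal := hCn.map _ (QuotientGroup.mk'_surjective _)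
  have hne : C.map q ≠ ⊥ := fun h => hCD fun c hc =>
    (QuotientGroup.eq_one_iff c).1 (Subgroup.mem_bot.1 (h ▸ Subgroup.mem_map_of_mem q hc))
  haveI := (Subgroup.nontrivial_iff_ne_bot _).2 (SolvStruct.inf_center_ne_bot hne)
  obtain ⟨m, hm0, hm⟩ := (IsPGroup.nontrivial_iff_card
    ((S.hT.to_quotient M.D).to_subgroup (C.map q ⊓ Subgroup.center _))).1 inferInstance
  obtain ⟨w, hw⟩ := exists_prime_orderOf_dvd_card'
    (G := ↥(C.map q ⊓ Subgroup.center (T ⧸ M.D))) 2 (hm ▸ dvd_pow_self 2 hm0.ne')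
  obtain ⟨⟨n₀, hn₀C, hn₀w⟩, hwc⟩ := w.2
  have hw1 : (w : T ⧸ M.D) ≠ 1 := fun h => by
    rw [← Subgroup.orderOf_coe, h, orderOf_one] at hw; omega
  have hw2 : (w : T ⧸ M.D) ^ 2 = 1 := by
    rw [← hw, ← Subgroup.orderOf_coe]; exact pow_orderOf_eq_one _
  let N : Subgroup T :=
    { carrier := {n | n ∈ C ∧ q n ^ 2 = 1 ∧ q n ∈ Subgroup.center (T ⧸ M.D)}
      one_mem' := ⟨one_mem _, by simp, by simp⟩
      mul_mem' := fun {x y} hx hy => ⟨mul_mem hx.1 hy.1, by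
        rw [map_mul, (show Commute (q x) (q y) from (Subgroup.mem_center_iff.1 hy.2.2 (q x))).mul_pow,
          hx.2.1, hy.2.1, one_mul], by rw [map_mul]; exact mul_mem hx.2.2 hy.2.2⟩
      inv_mem' := fun {x} hx => ⟨inv_mem hx.1, by rw [map_inv, inv_pow, hx.2.1, inv_one],
        by rw [map_inv]; exact inv_mem hx.2.2⟩ }
  have hn₀N : n₀ ∈ N := ⟨hn₀C, by rw [hn₀w]; exact hw2, by rw [hn₀w]; exact hwc⟩
  have hn₀D : n₀ ∉ M.D := fun h => hw1 (by rw [← hn₀w, hq, QuotientGroup.mk'_apply, QuotientGroup.eq_one_iff]; exact h)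
  have hDN : M.D ≤ N := fun d hd => by
    have h1 : q d = 1 := (QuotientGroup.eq_one_iff d).2 hd
    exact ⟨⟨Subgroup.mem_centralizer_iff.2 fun x hx => M.comm x hx d hd, M.leX hd⟩, by rw [h1, one_pow], by rw [h1]; exact one_mem _⟩
  have hNcd : ∀ n ∈ N, ∀ d ∈ M.D, n * d = d * n := fun n hn d hd =>
    (Subgroup.mem_centralizer_iff.1 hn.1.1 d hd).symm
  have hNcomm : ∀ n ∈ N, ∀ x : T, ⁅x, n⁆ ∈ M.D := fun n hn x => by
    rw [← QuotientGroup.eq_one_iff, ← QuotientGroup.mk'_apply, map_commutatorElement]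
    exact commutatorElement_eq_one_iff_mul_comm.2 (Subgroup.mem_center_iff.1 hn.2.2 (q x))
  have hNsq : ∀ n ∈ N, n ^ 2 ∈ M.D := fun n hn => by
    rw [← QuotientGroup.eq_one_iff, ← QuotientGroup.mk'_apply, map_pow]; exact hn.2.1
  have hNn : N.Normal := ⟨fun n hn g => ⟨hCn.conj_mem n hn.1 g, by
    rw [map_mul, map_mul, map_inv, Subgroup.mem_center_iff.1 hn.2.2 (q g), mul_inv_cancel_right]; exact hn.2.1, by
    rw [map_mul, map_mul, map_inv, Subgroup.mem_center_iff.1 hn.2.2 (q g), mul_inv_cancel_right]; exact hn.2.2⟩⟩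
  have hNi : Inv S.A N := fun ψ hψ n hn => by
    have hback : ∀ d ∈ M.D, ψ⁻¹ d ∈ M.D := fun d hd => M.inv ψ⁻¹ (inv_mem hψ) d hd
    refine ⟨⟨Subgroup.mem_centralizer_iff.2 fun d hd => ?_, S.X_inv ψ hψ n hn.1.2⟩, ?_, Subgroup.mem_center_iff.2 fun g => ?_⟩
    · have h := congrArg ψ (hNcd n hn _ (hback d hd))
      rw [map_mul, map_mul, MulAut.apply_inv_self] at h
      exact h.symm
    · rw [← map_pow, ← map_pow, hq, QuotientGroup.mk'_apply, QuotientGroup.eq_one_iff]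
      exact M.inv ψ hψ _ (hNsq n hn)
    · induction g using QuotientGroup.induction_on with | _ g => ?_
      refine commutatorElement_eq_one_iff_mul_comm.1 ?_
      rw [show (g : T ⧸ M.D) = q g from rfl, ← map_commutatorElement, hq, QuotientGroup.mk'_apply,
        QuotientGroup.eq_one_iff, ← ψ.apply_symm_apply g, ← map_commutatorElement]
      exact M.inv ψ hψ _ (hNcomm n hn _)
  -- conjugation by members of N
  have hpair : ∀ n ∈ N, ∀ m ∈ N, ⁅m, n⁆ ∈ M.E := fun n hn m hm => by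
    refine M.mem_E (hNcomm n hn m) ?_
    have h1 : m * n ^ 2 * m⁻¹ = n ^ 2 := by rw [hNcd m hm _ (hNsq n hn), mul_inv_cancel_right]
    have h2 : m * n * m⁻¹ = ⁅m, n⁆ * n := by simp [commutatorElement_def]
    have h3 : Commute ⁅m, n⁆ n := (hNcd n hn _ (hNcomm n hn m)).symm
    rw [← conj_pow, h2, h3.mul_pow] at h1
    exact mul_eq_right.1 h1
  let t : T → T := fun n => (n ^ 2) ^ 2 ^ (M.a - 1)
  have htE : ∀ n ∈ N, t n ∈ M.E := fun n hn => M.N_E (hNsq n hn)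
  have heven : ∀ u ∈ M.E, u ^ 2 ^ (M.a - 1) = 1 := fun u hu => by
    rw [show M.a - 1 = 1 + (M.a - 2) by have := M.two_le; omega, pow_add, pow_one, pow_mul, hu.2, one_pow]
  have htmul : ∀ n ∈ N, ∀ m ∈ N, t (n * m) = t n * t m := by
    intro n hn m hm
    have hcomm : ⁅m, n⁆ ∈ M.E := hpair n hn m hm
    have hexp : (n * m) ^ 2 = n ^ 2 * m ^ 2 * ⁅m, n⁆ := by
      have hz := Subgroup.mem_center_iff.1 (M.E_central hcomm)
      have : m * n = n * m * ⁅m, n⁆ := by rw [hz (n * m)]; simp [commutatorElement_def, mul_assoc]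
      rw [pow_two, pow_two, pow_two]
      calc n * m * (n * m) = n * (m * n) * m := by simp [mul_assoc]
        _ = n * (n * m * ⁅m, n⁆) * m := by rw [this]
        _ = n * n * m * (⁅m, n⁆ * m) := by simp [mul_assoc]
        _ = n * n * m * (m * ⁅m, n⁆) := by rw [hz m]
        _ = _ := by simp [mul_assoc]
    show ((n * m) ^ 2) ^ _ = (n ^ 2) ^ _ * (m ^ 2) ^ _
    rw [hexp, (show Commute (n ^ 2 * m ^ 2) ⁅m, n⁆ from Subgroup.mem_center_iff.1 (M.E_central hcomm) _).mul_pow,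
      (show Commute (n ^ 2) (m ^ 2) from M.comm _ (hNsq n hn) _ (hNsq m hm)).mul_pow, heven _ hcomm, mul_one]
  have htker : ∀ n ∈ N, t n = 1 → n ∈ M.D := by
    intro n hn ht
    by_contra hnD
    obtain ⟨r, hr, hr2⟩ := M.sq_root (hNsq n hn) ht
    set x := n * r⁻¹ with hx
    have hxN : x ∈ N := mul_mem hn (inv_mem (hDN hr))
    have hx2 : x ^ 2 = 1 := by
      rw [hx, (show Commute n r⁻¹ from hNcd n hn _ (inv_mem hr)).mul_pow, inv_pow, hr2, mul_inv_cancel]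
    have hxE : x ∉ M.E := fun h => hnD (by
      have := mul_mem h.1 hr
      rwa [hx, inv_mul_cancel_right] at this)
    refine small_ext S (fun u (hu : u ∈ M.E) => M.E_facts.2.2.1.2 u hu) M.E_central M.E_card hx2 hxE fun z => M.mem_E (hNcomm x hxN z) ?_
    have h1 : (z * x * z⁻¹) ^ 2 = 1 := by rw [conj_pow, hx2]; simp
    have h3 : Commute ⁅z, x⁆ x := (hNcd x hxN _ (hNcomm x hxN z)).symm
    rw [show z * x * z⁻¹ = ⁅z, x⁆ * x by simp [commutatorElement_def], h3.mul_pow, hx2, mul_one] at h1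
    exact h1
  have hφt : ∀ n, t (M.φ n) = M.φ (t n) := fun n => by simp [t]
  set n := n₀
  have hn := hn₀N
  set m := M.φ n with hmdef
  have hmN : m ∈ N := hNi M.φ M.hφ n hn
  have hu1 : t n ≠ 1 := fun h => hn₀D (htker n hn h)
  have hum : M.φ (t n) ≠ t n := fun h => hu1 (M.fpf (htE n hn) h)
  obtain ⟨hff, -, -, hall, -, -⟩ := three S M.E_facts.2.2.1 M.E_facts.2.2.2 M.E_facts.2.1 M.hφ (htE n hn) hum
  -- φ m is n m modulo D
  have hk : (n * m)⁻¹ * M.φ m ∈ M.D := by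
    have h2 : t (M.φ m) = t (n * m) := by rw [hφt, hmdef, hφt, hff, htmul n hn m hmN, hmdef, hφt]
    have hz : (n * m) * ((n * m)⁻¹ * M.φ m) = M.φ m := by simp [mul_assoc]
    have hin : (n * m)⁻¹ * M.φ m ∈ N := mul_mem (inv_mem (mul_mem hn hmN)) (hNi M.φ M.hφ m hmN)
    refine htker _ hin ?_
    have := htmul (n * m) (mul_mem hn hmN) _ hin
    rw [hz, h2] at this
    exact mul_eq_left.1 this.symm
  have hcnm : n * m = m * n := by
    have hε : ⁅m, n⁆ ∈ M.E := hpair n hn m hmN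
    have h1 : M.φ ⁅m, n⁆ = ⁅m, n⁆ := by
      rw [map_commutatorElement, ← hmdef]
      obtain ⟨d, hd, hdd⟩ : ∃ d ∈ M.D, M.φ m = n * m * d := ⟨_, hk, by simp [mul_assoc]⟩
      have hdm : d * m * d⁻¹ = m := by rw [← hNcd m hmN d hd, mul_inv_cancel_right]
      have hz := Subgroup.mem_center_iff.1 (M.E_central hε)
      have hinv : ⁅n, m⁆ = ⁅m, n⁆⁻¹ := (commutatorElement_inv m n).symm
      have hsq : ⁅m, n⁆⁻¹ = ⁅m, n⁆ := inv_eq_of_mul_eq_one_right (by rw [← pow_two]; exact hε.2)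
      calc ⁅M.φ m, m⁆ = n * m * (d * m * d⁻¹) * m⁻¹ * n⁻¹ * m⁻¹ := by
            rw [hdd]; simp [commutatorElement_def, mul_assoc]
        _ = ⁅n, m⁆ := by rw [hdm]; simp [commutatorElement_def, mul_assoc]
        _ = ⁅m, n⁆ := by rw [hinv, hsq]
    exact (commutatorElement_eq_one_iff_mul_comm.1 (M.fpf hε h1)).symm
  -- N is abelian
  set W := Subgroup.closure ((M.D : Set T) ∪ {n, m}) with hW
  have hWc : IsMulCommutative W := Subgroup.isMulCommutative_closure (by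
    rintro u (hu | hu | hu) v (hv | hv | hv)
    all_goals first
      | exact M.comm u hu v hv
      | (subst hv; first | exact (hNcd _ hn u hu).symm | exact (hNcd _ hmN u hu).symm)
      | (subst hu; first | exact hNcd _ hn v hv | exact hNcd _ hmN v hv)
      | (subst hu; subst hv; rfl)
      | (subst hu; subst hv; exact hcnm)
      | (subst hu; subst hv; exact hcnm.symm)
      | skip)
  have hNW : N ≤ W := by
    have hnW : n ∈ W := Subgroup.subset_closure (Or.inr (Or.inl rfl))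
    have hmW : m ∈ W := Subgroup.subset_closure (Or.inr (Or.inr rfl))
    have hDW : M.D ≤ W := fun d hd => Subgroup.subset_closure (Or.inl hd)
    intro x hx
    have key : ∀ y ∈ N, y ∈ W → t y = t x → x ∈ W := by
      intro y hy hyW h
      have hin : y⁻¹ * x ∈ N := mul_mem (inv_mem hy) hx
      have hh := htmul y hy _ hin
      rw [mul_inv_cancel_left, h] at hh
      have := mul_mem hyW (hDW (htker _ hin (mul_eq_left.1 hh.symm)))
      rwa [mul_inv_cancel_left] at this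
    rcases hall _ (htE x hx) with h | h | h | h
    · exact hDW (htker x hx h)
    · exact key n hn hnW h.symm
    · exact key m hmN hmW (by rw [hmdef, hφt, h])
    · exact key _ (mul_mem hn hmN) (mul_mem hnW hmW) (by rw [htmul n hn m hmN, hmdef, hφt, h])
  have hNab : ∀ u ∈ N, ∀ v ∈ N, u * v = v * u := fun u hu v hv => by
    haveI := hWc
    exact congrArg Subtype.val (mul_comm' (⟨u, hNW hu⟩ : W) ⟨v, hNW hv⟩)
  exact hn₀D (M.max N hNn (fun x hx => hx.1.2) hNi hNab hDN hn₀N)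

end Cfsg.Agent.NormalTwo
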