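/-
Extensions of a central four-group by fixed elements.
-/
import Mathlib
import Cfsg.Agent.Lib.NormalTwo.Basic
import Cfsg.Agent.Lib.Solvable.Structure

set_option autoImplicit false
set_option linter.style.haveILetI false
set_option linter.unusedSectionVars false

namespace Cfsg.Agent.NormalTwo

open scoped commutatorElement

variable {T : Type*} [Group T] [Finite T] (S : Setup T)

include S in
/-- A normal elementary abelian extension of a central four-group is trivial. -/
theorem central_ext {U : Subgroup T} (hU : ∀ u ∈ U, u ^ 2 = 1) (hUc : U ≤ Subgroup.center T) (h4 : Nat.card U = 4)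
    {K : Subgroup T} (hK : ∀ k ∈ K, k ^ 2 = 1) (hconj : ∀ t, ∀ k ∈ K, t * k * t⁻¹ ∈ U ⊔ K) : K ≤ U := by
  have hinv : ∀ k ∈ K, k⁻¹ = k := fun k hk =>
    inv_eq_of_mul_eq_one_right (by rw [← pow_two]; exact hK k hk)
  have hKc : ∀ a ∈ K, ∀ b ∈ K, a * b = b * a := fun a ha b hb => by
    calc a * b = (a * b)⁻¹ := (hinv _ (mul_mem ha hb)).symm
      _ = b * a := by rw [mul_inv_rev, hinv a ha, hinv b hb]
  have hn : (U ⊔ K).Normal := ⟨fun w hw g => by
    have hle : U ⊔ K ≤ (U ⊔ K).comap (MulAut.conj g).toMonoidHom := by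
      refine sup_le (fun u hu => ?_) (fun k hk => ?_)
      · show g * u * g⁻¹ ∈ U ⊔ K
        rw [Subgroup.mem_center_iff.1 (hUc hu) g, mul_inv_cancel_right]
        exact Subgroup.mem_sup_left hu
      · exact hconj g k hk
    exact hle hw⟩
  have hcl : U ⊔ K = Subgroup.closure ((U : Set T) ∪ K) := by
    rw [Subgroup.closure_union, Subgroup.closure_eq, Subgroup.closure_eq]
  haveI hc : IsMulCommutative (U ⊔ K : Subgroup T) := by
    rw [hcl]
    refine Subgroup.isMulCommutative_closure ?_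
    rintro a (ha | ha) b (hb | hb)
    · exact (Subgroup.mem_center_iff.1 (hUc ha) b).symm
    · exact (Subgroup.mem_center_iff.1 (hUc ha) b).symm
    · exact Subgroup.mem_center_iff.1 (hUc hb) a
    · exact hKc a ha b hb
  have hsq : ∀ w ∈ U ⊔ K, w ^ 2 = 1 := by
    intro w hw
    rw [hcl] at hw
    induction hw using Subgroup.closure_induction with
    | mem w hw => exact hw.elim (hU w) (hK w)
    | one => exact one_pow _
    | mul a b ha hb iha ihb =>
      rw [← hcl] at ha hb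
      rw [(show Commute a b from congrArg Subtype.val (mul_comm' (⟨a, ha⟩ : (U ⊔ K : Subgroup T)) ⟨b, hb⟩)).mul_pow,
        iha, ihb, one_mul]
    | inv a _ iha => rw [inv_pow, iha, inv_one]
  have hle := S.hN8 (U ⊔ K) hn ⟨hc, hsq⟩
  exact le_sup_right.trans (Subgroup.eq_of_le_of_card_ge (le_sup_left : U ≤ U ⊔ K) (by omega)).ge

/-- A fixed element centralizing the moved part is trivial. -/
theorem fixed_centralizing {U : Subgroup T} (hU : Cfsg.IsElementaryAbelian 2 U) (hUi : Inv S.A U)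
    (hUc : U ≤ Subgroup.center T) (h4 : Nat.card U = 4) {φ : MulAut T} (hφ : φ ∈ S.A) {e : T} (he : e ∈ U)
    (hm : φ e ≠ e) {c : T} (hc : c ∈ S.C) (hcX : ∀ x ∈ S.X, x * c = c * x) : c = 1 := by
  classical
  haveI : Fact (Nat.Prime 2) := ⟨Nat.prime_two⟩
  haveI : Group.IsNilpotent T := S.hT.isNilpotent
  haveI := S.X_normal
  set K := S.C ⊓ Subgroup.centralizer (S.X : Set T) with hK
  have hKn : K.Normal := ⟨fun k hk g => by
    obtain ⟨c', hc', x, hx, rfl⟩ := S.exists_dec g
    have h1 : c' * k * c'⁻¹ ∈ K := Subgroup.mem_inf.2 ⟨mul_mem (mul_mem hc' hk.1) (inv_mem hc'),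
      (inferInstance : (Subgroup.centralizer (S.X : Set T)).Normal).conj_mem k hk.2 c'⟩
    have h2 : x * (c' * k * c'⁻¹) = c' * k * c'⁻¹ * x := Subgroup.mem_centralizer_iff.1 h1.2 x hx
    have e : x * c' * k * (x * c')⁻¹ = x * (c' * k * c'⁻¹) * x⁻¹ := by simp [mul_assoc]
    rw [e, h2, mul_inv_cancel_right]
    exact h1⟩
  by_contra hne
  have hKb : K ≠ ⊥ := fun h => hne (Subgroup.mem_bot.1 (h ▸ ⟨hc, Subgroup.mem_centralizer_iff.2 hcX⟩))
  haveI := hKn
  haveI := (Subgroup.nontrivial_iff_ne_bot _).2 (SolvStruct.inf_center_ne_bot hKb)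
  obtain ⟨m, hm0, hm'⟩ := (IsPGroup.nontrivial_iff_card
    (S.hT.to_subgroup (K ⊓ Subgroup.center T))).1 inferInstance
  obtain ⟨w, hw⟩ := exists_prime_orderOf_dvd_card'
    (G := ↥(K ⊓ Subgroup.center T)) 2 (hm' ▸ dvd_pow_self 2 hm0.ne')
  rw [← Subgroup.orderOf_coe] at hw
  obtain ⟨hwK, hwc⟩ := w.2
  have hw2 : (w : T) ^ 2 = 1 := by rw [← hw]; exact pow_orderOf_eq_one _
  have hw1 : (w : T) ≠ 1 := fun h => by rw [h, orderOf_one] at hw; omega
  have hwU : (w : T) ∈ U := by
    by_contra h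
    refine small_ext S hU.2 hUc h4 hw2 h fun z => ?_
    rw [commutatorElement_eq_one_iff_mul_comm.2 (Subgroup.mem_center_iff.1 hwc z)]
    exact one_mem _
  exact hw1 (eq_one_of_fixed S hU h4.le hUi hφ he hm hwU (hwK.1 φ hφ))

end Cfsg.Agent.NormalTwo
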