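/-
The fixed part in the presence of a moved homocyclic subgroup.
-/
import Mathlib
import Cfsg.Agent.Lib.NormalTwo.Big
import Cfsg.Agent.Lib.NormalTwo.Extend

set_option autoImplicit false
set_option linter.style.haveILetI false
set_option linter.unusedSectionVars false

namespace Cfsg.Agent.NormalTwo

open scoped commutatorElement
open Matrix
open ScnThreeTwo (wmat wmat_cube layer_dichotomy mat_two_nsmul red red_natCast exists_two_mul
  smul_eq_zero_root red_of_smul_eq_zero two_pow_smul Red Red_two exists_two_mat Red_of_smul_eq_zero vec_root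
  exists_inverse)

theorem idem_centralizer : ∀ a b c d : ZMod 2,
    wmat * !![a, b; c, d] * (wmat * wmat) = !![a, b; c, d] → !![a, b; c, d] * !![a, b; c, d] = !![a, b; c, d] →
    !![a, b; c, d] = 0 ∨ !![a, b; c, d] = 1 := by decide +kernel

theorem anti_span_aux : ∀ a b c d p q r s : ZMod 2,
    !![a, b; c, d] + wmat * !![a, b; c, d] * (wmat * wmat) + wmat * wmat * !![a, b; c, d] * wmat = 0 →
    !![p, q; r, s] + wmat * !![p, q; r, s] * (wmat * wmat) + wmat * wmat * !![p, q; r, s] * wmat = 0 →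
    !![a, b; c, d] = 0 ∨ !![p, q; r, s] = 0 ∨ !![p, q; r, s] = !![a, b; c, d] ∨
      !![p, q; r, s] = wmat * !![a, b; c, d] * (wmat * wmat) ∨
      !![p, q; r, s] = !![a, b; c, d] + wmat * !![a, b; c, d] * (wmat * wmat) := by decide +kernel

theorem anti_kernel_aux : ∀ a b c d x y z w : ZMod 2,
    !![a, b; c, d] + wmat * !![a, b; c, d] * (wmat * wmat) + wmat * wmat * !![a, b; c, d] * wmat = 0 →
    a * d + b * c = 1 → a * x + b * y + x = 0 → c * x + d * y + y = 0 →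
    a * z + b * w + z = 0 → c * z + d * w + w = 0 →
    (x = 0 ∧ y = 0) ∨ (z = 0 ∧ w = 0) ∨ (x = z ∧ y = w) := by decide +kernel

theorem anti_moved_aux : ∀ a b c d : ZMod 2,
    !![a, b; c, d] + wmat * !![a, b; c, d] * (wmat * wmat) + wmat * wmat * !![a, b; c, d] * wmat = 0 →
    !![a, b; c, d] ≠ 0 → wmat * !![a, b; c, d] * (wmat * wmat) ≠ !![a, b; c, d] := by decide +kernel

variable {T : Type*} [Group T] [Finite T] {S : Setup T} (M : Moved S)

theorem Moved.card_D : Nat.card M.D = 2 ^ (2 * M.a) := by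
  haveI : NeZero (2 ^ M.a) := ⟨by positivity⟩
  rw [← Nat.card_congr (Equiv.ofBijective (fun v => (⟨M.f v, M.f_mem v⟩ : M.D))
    ⟨fun u v h => M.f_inj (congrArg Subtype.val h), fun ⟨x, hx⟩ => by
      obtain ⟨v, hv⟩ := M.f_surj hx; exact ⟨v, Subtype.ext hv⟩⟩), Nat.card_fun, Nat.card_zmod,
    Nat.card_fin, ← pow_mul, mul_comm]

include M in
theorem Moved.fixed_centralizing' {c : T} (hc : c ∈ S.C) (hcX : ∀ x ∈ S.X, x * c = c * x) : c = 1 :=
  fixed_centralizing S M.E_facts.2.2.1 M.E_facts.2.1 M.E_central M.E_card M.hφ M.eE M.hm hc hcX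

/-- No fixed element acts trivially modulo the four-group. -/
theorem Moved.fixed_mod {c : T} (hc : c ∈ S.C) (h : ∀ x ∈ S.X, ⁅x, c⁆ ∈ M.E) : c = 1 := by
  have hz : ∀ {u : T}, u ∈ M.E → ∀ g : T, g * u * g⁻¹ = u := fun {u} hu g => by
    rw [Subgroup.mem_center_iff.1 (M.E_central hu) g, mul_inv_cancel_right]
  let K : Subgroup T :=
    { carrier := {k | k ∈ S.C ∧ ∀ x ∈ S.X, ⁅x, k⁆ ∈ M.E}
      one_mem' := ⟨one_mem _, fun x _ => by rw [commutatorElement_one_right]; exact one_mem _⟩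
      mul_mem' := fun {a b} ha hb => ⟨mul_mem ha.1 hb.1, fun x hx => by
        rw [show ⁅x, a * b⁆ = ⁅x, a⁆ * (a * ⁅x, b⁆ * a⁻¹) by simp [commutatorElement_def, mul_assoc],
          hz (hb.2 x hx)]
        exact mul_mem (ha.2 x hx) (hb.2 x hx)⟩
      inv_mem' := fun {a} ha => ⟨inv_mem ha.1, fun x hx => by
        rw [show ⁅x, a⁻¹⁆ = a⁻¹ * ⁅x, a⁆⁻¹ * (a⁻¹)⁻¹ by simp [commutatorElement_def, mul_assoc],
          hz (inv_mem (ha.2 x hx))]
        exact inv_mem (ha.2 x hx)⟩ }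
  have hK2 : ∀ k ∈ K, k ^ 2 = 1 := by
    intro k hk
    refine M.fixed_centralizing' (pow_mem hk.1 2) fun x hx => commutatorElement_eq_one_iff_mul_comm.1 ?_
    rw [pow_two, show ⁅x, k * k⁆ = ⁅x, k⁆ * (k * ⁅x, k⁆ * k⁻¹) by simp [commutatorElement_def, mul_assoc],
      hz (hk.2 x hx), ← pow_two]
    exact (hk.2 x hx).2
  have hKU : K ≤ M.E := by
    refine central_ext S (fun u (hu : u ∈ M.E) => hu.2) M.E_central M.E_card hK2 fun t k hk => ?_
    obtain ⟨c', hc', x, hx, rfl⟩ := S.exists_dec t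
    have h1 : c' * k * c'⁻¹ ∈ K := ⟨mul_mem (mul_mem hc' hk.1) (inv_mem hc'), fun y hy => by
      have h2 := hk.2 _ (by simpa using S.X_normal.conj_mem y hy c'⁻¹ : c'⁻¹ * y * c' ∈ S.X)
      rw [show ⁅y, c' * k * c'⁻¹⁆ = c' * ⁅c'⁻¹ * y * c', k⁆ * c'⁻¹ by simp [commutatorElement_def, mul_assoc],
        hz h2]
      exact h2⟩
    rw [show x * c' * k * (x * c')⁻¹ = ⁅x, c' * k * c'⁻¹⁆ * (c' * k * c'⁻¹) by
      simp [commutatorElement_def, mul_assoc]]
    exact mul_mem (Subgroup.mem_sup_left (h1.2 x hx)) (Subgroup.mem_sup_right h1)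
  exact M.fpf (hKU ⟨hc, h⟩) (hc M.φ M.hφ)

theorem Moved.lev_two_imp {c : T} {V : Matrix (Fin 2) (Fin 2) (ZMod (2 ^ M.a))}
    (hV : M.ρ c = 1 + (2 : ℕ) • V) (h : Red M.a_ne V = 0) : M.Lev 2 c := by
  obtain ⟨V', rfl⟩ := exists_two_mat M.a_ne h
  exact ⟨V', by rw [hV, smul_smul]; norm_num⟩

theorem Moved.sq_form {c : T} {k : ℕ} (hk : 1 ≤ k) {V : Matrix (Fin 2) (Fin 2) (ZMod (2 ^ M.a))}
    (hV : M.ρ c = 1 + (2 ^ k) • V) : M.ρ (c ^ 2) = 1 + (2 ^ (k + 1)) • (V + (2 ^ (k - 1)) • (V * V)) := by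
  rw [map_pow, hV, pow_two]
  simp only [add_mul, mul_add, one_mul, mul_one, smul_mul_assoc, mul_smul_comm, smul_add, smul_smul, ← pow_add]
  rw [show k + 1 + (k - 1) = k + k by omega, pow_succ, mul_two, add_nsmul]
  abel

theorem Moved.conj_comm {c : T} (v : Fin 2 → ZMod (2 ^ M.a)) {k : ℕ}
    {V : Matrix (Fin 2) (Fin 2) (ZMod (2 ^ M.a))} (hV : M.ρ c = 1 + (2 ^ k) • V) :
    ⁅c, M.f v⁆ = M.f ((2 ^ k) • (V *ᵥ v)) := by
  rw [commutatorElement_def, ← M.ρ_spec, hV, Matrix.add_mulVec, Matrix.one_mulVec, Matrix.smul_mulVec, M.f_add]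
  have h := M.comm _ (M.f_mem v) _ (M.f_mem ((2 ^ k) • (V *ᵥ v)))
  rw [h, mul_inv_cancel_right]

/-- Deep fixed elements are trivial when the moved part is homocyclic. -/
theorem Moved.deep (hXD : S.X ≤ M.D) : ∀ n k, M.a ≤ k + 1 + n → 2 ≤ k → ∀ c ∈ S.C, M.Lev k c → c = 1 := by
  intro n
  induction n with
  | zero =>
    intro k hk _ c hc ⟨V, hV⟩
    refine M.fixed_mod hc fun x hx => ?_
    obtain ⟨v, rfl⟩ := M.f_surj (hXD hx)
    rw [← commutatorElement_inv, M.conj_comm v hV]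
    refine inv_mem (M.mem_E (M.f_mem _) ?_)
    rw [← M.f_nsmul, smul_smul, ← pow_succ', two_pow_smul (a := M.a) (by omega), M.f_zero]
  | succ n ih =>
    intro k hk hk2 c hc ⟨V, hV⟩
    by_cases hk' : M.a ≤ k + 1
    · exact ih k (by omega) hk2 c hc ⟨V, hV⟩
    have h2 : c ^ 2 = 1 := ih (k + 1) (by omega) (by omega) _ (pow_mem hc 2) ⟨_, M.sq_form (by omega) hV⟩
    have h0 := M.sq_form (show 1 ≤ k by omega) hV
    rw [h2, map_one] at h0
    have h3 := Red_of_smul_eq_zero M.a_ne (show k + 1 < M.a by omega) (add_eq_left.1 h0.symm)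
    rw [map_add, Red_two M.a_ne _ (by omega), add_zero] at h3
    obtain ⟨V', rfl⟩ := exists_two_mat M.a_ne h3
    exact ih (k + 1) (by omega) (by omega) c hc ⟨V', by rw [hV, smul_smul, pow_succ]⟩

theorem Moved.deep_two (hXD : S.X ≤ M.D) {c : T} (hc : c ∈ S.C) (h : M.Lev 2 c) : c = 1 :=
  M.deep hXD M.a 2 (by omega) le_rfl c hc h

/-- The nontrivial fixed elements. -/
theorem Moved.fixed_form (hXD : S.X ≤ M.D) {c : T} (hc : c ∈ S.C) (hc1 : c ≠ 1) :
    c ^ 2 = 1 ∧ 3 ≤ M.a ∧ ∃ V : Matrix (Fin 2) (Fin 2) (ZMod (2 ^ M.a)),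
      M.ρ c = 1 + (2 : ℕ) • V ∧ Red M.a_ne V = 1 := by
  obtain ⟨V, hV⟩ := M.lev_one c
  have hsq := M.sq_form le_rfl hV
  have h2 : c ^ 2 = 1 := M.deep_two hXD (pow_mem hc 2) ⟨_, hsq⟩
  have ha : 3 ≤ M.a := by
    by_contra ha
    refine hc1 (M.fixed_mod hc fun x hx => ?_)
    obtain ⟨v, rfl⟩ := M.f_surj (hXD hx)
    rw [← commutatorElement_inv, M.conj_comm v hV]
    refine inv_mem (M.mem_E (M.f_mem _) ?_)
    rw [← M.f_nsmul, smul_smul, ← pow_succ', two_pow_smul (a := M.a) (by omega), M.f_zero]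
  rw [h2, map_one] at hsq
  have h3 := Red_of_smul_eq_zero M.a_ne (show 1 + 1 < M.a by omega) (add_eq_left.1 hsq.symm)
  rw [map_add, Nat.sub_self, pow_zero, one_smul, map_mul] at h3
  set s : S.A := ⟨M.φ, M.hφ⟩
  have hcs : (s : MulAut T) c = c := hc M.φ M.hφ
  have hcom : Red M.a_ne (M.σ s * V * M.σ s⁻¹) = Red M.a_ne V := by
    refine M.lev_unique (k := 1) (by omega) (Eq.trans ?_ hV)
    conv_rhs => rw [← hcs, M.ρ_equiv, hV]
    rw [mul_add, add_mul, mul_one, M.σ_mul_inv, mul_smul_comm, smul_mul_assoc]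
  have hw : Red M.a_ne (M.σ s) = wmat ∧ Red M.a_ne (M.σ s⁻¹) = wmat * wmat := by
    rcases M.Red_σ_inv s with ⟨e1, -⟩ | h | ⟨e1, -⟩
    · rw [M.Red_φ] at e1
      exact absurd e1 (by decide +kernel)
    · exact h
    · rw [M.Red_φ] at e1
      exact absurd e1 (by decide +kernel)
  rw [map_mul, map_mul, hw.1, hw.2] at hcom
  rw [pow_one] at hV
  refine ⟨h2, ha, V, hV, ?_⟩
  have hne : Red M.a_ne V ≠ 0 := fun h => hc1 (M.deep_two hXD hc (M.lev_two_imp hV h))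
  have hidem : Red M.a_ne V * Red M.a_ne V = Red M.a_ne V := by
    calc Red M.a_ne V * Red M.a_ne V
        = Red M.a_ne V + Red M.a_ne V * Red M.a_ne V + Red M.a_ne V := by
          rw [add_right_comm, ← two_nsmul, mat_two_nsmul, zero_add]
      _ = _ := by rw [h3, zero_add]
  have e := Matrix.eta_fin_two (Red M.a_ne V)
  rw [e] at hcom hidem hne ⊢
  exact (idem_centralizer _ _ _ _ hcom hidem).resolve_left hne

theorem Moved.fixed_unique (hXD : S.X ≤ M.D) {c c' : T} (hc : c ∈ S.C) (hc' : c' ∈ S.C) (h : c ≠ 1) (h' : c' ≠ 1) :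
    c = c' := by
  obtain ⟨h2, -, V, hV, hR⟩ := M.fixed_form hXD hc h
  obtain ⟨h2', -, V', hV', hR'⟩ := M.fixed_form hXD hc' h'
  have : c * c' = 1 := M.deep_two hXD (mul_mem hc hc') (M.lev_two_imp (V := V + V' + (2 : ℕ) • (V * V')) (by
    rw [map_mul, hV, hV']
    simp only [add_mul, mul_add, one_mul, mul_one, smul_mul_assoc, mul_smul_comm, smul_add]
    abel) (by rw [map_add, map_add, map_nsmul, mat_two_nsmul, hR, hR', add_zero, ← two_nsmul, mat_two_nsmul]))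
  calc c = c * (c' * c') := by rw [← pow_two, h2', mul_one]
    _ = c' := by rw [← mul_assoc, this, one_mul]

end Cfsg.Agent.NormalTwo
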