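/-
The case of a nonhomocyclic moved part.
-/
import Mathlib
import Cfsg.Agent.Lib.NormalTwo.CaseOne

set_option autoImplicit false
set_option linter.style.haveILetI false
set_option linter.unusedSectionVars false

namespace Cfsg.Agent.NormalTwo

open scoped commutatorElement
open Matrix
open ScnThreeTwo (wmat wmat_cube layer_dichotomy mat_two_nsmul red red_natCast exists_two_mul
  smul_eq_zero_root red_of_smul_eq_zero two_pow_smul Red Red_two exists_two_mat Red_of_smul_eq_zero vec_root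
  exists_inverse)

variable {T : Type*} [Group T] [Finite T] {S : Setup T} (M : Moved S)

theorem Moved.mem_E_iff_red {v : Fin 2 → ZMod (2 ^ M.a)} (ha : M.a = 2) :
    M.f v ∈ M.E ↔ red M.a_ne (v 0) = 0 ∧ red M.a_ne (v 1) = 0 := by
  have h : ∀ r : ZMod (2 ^ M.a), red M.a_ne r = 0 → (2 : ℕ) • r = 0 := fun r hr => by
    obtain ⟨r', rfl⟩ := exists_two_mul M.a_ne hr
    rw [smul_smul, show 2 * 2 = 2 ^ 2 from rfl, two_pow_smul (a := M.a) (by omega)]
  constructor
  · intro hv
    have h2 : (2 : ℕ) • v = 0 := M.f_inj (by rw [M.f_nsmul, hv.2, M.f_zero])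
    exact ⟨red_of_smul_eq_zero M.a_ne (k := 1) (by omega) (by rw [pow_one]; exact congrFun h2 0),
      red_of_smul_eq_zero M.a_ne (k := 1) (by omega) (by rw [pow_one]; exact congrFun h2 1)⟩
  · rintro ⟨h0, h1⟩
    refine M.mem_E (M.f_mem v) ?_
    have h2 : (2 : ℕ) • v = 0 := funext fun i => by fin_cases i; exacts [h _ h0, h _ h1]
    rw [← M.f_nsmul, h2, M.f_zero]

theorem Moved.special (hne : ¬ S.X ≤ M.D) :
    Nat.card T = 64 ∨ Nat.card T = 128 := by
  classical
  have ha := M.a_eq_two hne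
  have h4 : ∀ U : Matrix (Fin 2) (Fin 2) (ZMod (2 ^ M.a)), (4 : ℕ) • U = 0 := fun U =>
    (show (4 : ℕ) = 2 ^ 2 from rfl) ▸ two_pow_smul (a := M.a) (by omega) U
  choose W hW using M.lev_one
  have hlam : ∀ (y : T) (U : Matrix (Fin 2) (Fin 2) (ZMod (2 ^ M.a))), M.ρ y = 1 + (2 ^ 1) • U →
      Red M.a_ne (W y) = Red M.a_ne U := fun y U h => M.lev_unique (by omega) ((hW y).symm.trans h)
  let L : T →* Multiplicative (Matrix (Fin 2) (Fin 2) (ZMod 2)) :=
    MonoidHom.mk' (fun y => Multiplicative.ofAdd (Red M.a_ne (W y))) (fun y z => by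
      rw [← ofAdd_add]
      congr 1
      rw [hlam (y * z) (W y + W z + (2 ^ 1) • (W y * W z)), map_add, map_add, Red_two M.a_ne _ (by omega), add_zero]
      rw [map_mul, hW y, hW z]
      simp only [add_mul, mul_add, one_mul, mul_one, smul_mul_assoc, mul_smul_comm, smul_add]
      abel)
  have hL : ∀ y, L y = Multiplicative.ofAdd (Red M.a_ne (W y)) := fun y => rfl
  have hker : ∀ x ∈ S.X, L x = 1 → x ∈ M.D := by
    intro x hx h
    refine M.ρ_eq_one hx ?_
    obtain ⟨V', hV'⟩ := exists_two_mat M.a_ne (Multiplicative.ofAdd.injective h : Red M.a_ne (W x) = 0)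
    rw [hW x, hV', smul_smul, show 2 ^ 1 * 2 = 4 from rfl, h4, add_zero]
  have hLD : ∀ d ∈ M.D, L d = 1 := fun d hd => by
    rw [hL, hlam d 0 (by rw [M.ρ_of_mem hd, smul_zero, add_zero]), map_zero]; rfl
  obtain ⟨x0, hx0, hx0D⟩ := SetLike.not_le_iff_exists.1 hne
  have hanti : ∀ x ∈ S.X, Red M.a_ne (W x) + wmat * Red M.a_ne (W x) * (wmat * wmat) +
      wmat * wmat * Red M.a_ne (W x) * wmat = 0 := fun x hx =>
    M.layer_anti le_rfl (by omega) (fun y _ => M.lev_one y) hx (hW x)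
  have hj0 : Red M.a_ne (W x0) ≠ 0 := fun h => hx0D (hker x0 hx0 (by rw [hL, h]; rfl))
  obtain ⟨hdet, -, -⟩ := (M.layer le_rfl (by omega) (fun y _ => M.lev_one y) hx0 (hW x0)).resolve_left hj0
  set x1 := M.φ x0 with hx1
  have hx1X : x1 ∈ S.X := S.X_inv M.φ M.hφ x0 hx0
  set s : S.A := ⟨M.φ, M.hφ⟩
  have hw : Red M.a_ne (M.σ s) = wmat ∧ Red M.a_ne (M.σ s⁻¹) = wmat * wmat := by
    rcases M.Red_σ_inv s with ⟨e1, -⟩ | h | ⟨e1, -⟩
    · rw [M.Red_φ] at e1
      exact absurd e1 (by decide +kernel)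
    · exact h
    · rw [M.Red_φ] at e1
      exact absurd e1 (by decide +kernel)
  have hj1 : Red M.a_ne (W x1) = wmat * Red M.a_ne (W x0) * (wmat * wmat) := by
    conv_rhs => rw [← hw.2]; arg 1; arg 1; rw [← hw.1]
    rw [← map_mul, ← map_mul]
    refine hlam _ _ ?_
    rw [hx1, show M.φ x0 = (s : MulAut T) x0 from rfl, M.ρ_equiv, hW x0, mul_add, add_mul, mul_one, M.σ_mul_inv,
      mul_smul_comm, smul_mul_assoc]
  have hspan : ∀ x ∈ S.X, ∃ y, (y = 1 ∨ y = x0 ∨ y = x1 ∨ y = x0 * x1) ∧ y⁻¹ * x ∈ M.D := by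
    intro x hx
    have key : ∀ y ∈ S.X, L y = L x → y⁻¹ * x ∈ M.D := fun y hy h =>
      hker _ (mul_mem (inv_mem hy) hx) (by rw [map_mul, map_inv, h, inv_mul_cancel])
    have h1 := hanti x0 hx0
    have h2 := hanti x hx
    have e := Matrix.eta_fin_two (Red M.a_ne (W x0))
    have e' := Matrix.eta_fin_two (Red M.a_ne (W x))
    rw [e] at h1
    rw [e'] at h2
    rcases anti_span_aux _ _ _ _ _ _ _ _ h1 h2 with h | h | h | h | h
    · exact absurd (e.trans h) hj0
    · exact ⟨1, Or.inl rfl, key 1 (one_mem _) (by rw [map_one, hL, e', h]; rfl)⟩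
    · exact ⟨x0, Or.inr (Or.inl rfl), key x0 hx0 (by rw [hL, hL, e', h, ← e])⟩
    · exact ⟨x1, Or.inr (Or.inr (Or.inl rfl)), key x1 hx1X (by rw [hL, hL, e', h, ← e, hj1])⟩
    · refine ⟨x0 * x1, Or.inr (Or.inr (Or.inr rfl)), key _ (mul_mem hx0 hx1X) ?_⟩
      rw [map_mul, hL, hL, hL, e', h, ← e, hj1, ← ofAdd_add]
  -- the order of the moved part
  have hX : Nat.card S.X = 64 := by
    let Lx : S.X →* Multiplicative (Matrix (Fin 2) (Fin 2) (ZMod 2)) := L.comp S.X.subtype
    have hk : Lx.ker = M.D.subgroupOf S.X := by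
      ext ⟨x, hx⟩
      rw [MonoidHom.mem_ker, Subgroup.mem_subgroupOf]
      exact ⟨hker x hx, hLD x⟩
    set j := Red M.a_ne (W x0)
    set j' := wmat * j * (wmat * wmat)
    have hr : (Lx.range : Set (Multiplicative (Matrix (Fin 2) (Fin 2) (ZMod 2)))) =
        ↑({Multiplicative.ofAdd 0, Multiplicative.ofAdd j, Multiplicative.ofAdd j',
          Multiplicative.ofAdd (j + j')} : Finset (Multiplicative (Matrix (Fin 2) (Fin 2) (ZMod 2)))) := by
      ext m
      simp only [Finset.coe_insert, Finset.coe_singleton, Set.mem_insert_iff, Set.mem_singleton_iff,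
        SetLike.mem_coe, MonoidHom.mem_range]
      constructor
      · rintro ⟨⟨x, hx⟩, rfl⟩
        obtain ⟨y, hy, hyd⟩ := hspan x hx
        have h := hLD _ hyd
        rw [map_mul, map_inv, inv_mul_eq_one] at h
        show L x = _ ∨ L x = _ ∨ L x = _ ∨ L x = _
        rw [← h]
        rcases hy with rfl | rfl | rfl | rfl
        · exact Or.inl (map_one L)
        · exact Or.inr (Or.inl (hL _))
        · exact Or.inr (Or.inr (Or.inl (by rw [hL, hj1])))
        · exact Or.inr (Or.inr (Or.inr (by rw [map_mul, hL, hL, hj1, ← ofAdd_add])))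
      · rintro (rfl | rfl | rfl | rfl)
        · exact ⟨1, map_one _⟩
        · exact ⟨⟨x0, hx0⟩, hL _⟩
        · exact ⟨⟨x1, hx1X⟩, by show L x1 = _; rw [hL, hj1]⟩
        · exact ⟨⟨x0 * x1, mul_mem hx0 hx1X⟩, by show L (x0 * x1) = _; rw [map_mul, hL, hL, hj1, ← ofAdd_add]⟩
    have hne' : j' ≠ j := by
      have h1 := hanti x0 hx0
      have e := Matrix.eta_fin_two (Red M.a_ne (W x0))
      rw [e] at h1
      intro h
      refine anti_moved_aux _ _ _ _ h1 (by rw [← e]; exact hj0) ?_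
      rw [← e]; exact h
    have hj'0 : j' ≠ 0 := fun h => hj0 (by
      have h5 := congrArg (fun z => (wmat * wmat) * z * wmat) h
      simp only [j', ← mul_assoc, mul_zero, zero_mul, wmat_cube, one_mul] at h5
      simpa only [mul_assoc, show wmat * (wmat * wmat) = 1 by rw [← mul_assoc]; exact wmat_cube, mul_one] using h5)
    have hjj : j + j' ≠ 0 := fun h => hne' (by
      have h5 := congrArg (fun z => j + z) h
      simp only [← add_assoc, ← two_nsmul, mat_two_nsmul, zero_add, add_zero] at h5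
      exact h5)
    have hc : Nat.card Lx.range = 4 := by
      rw [← SetLike.coe_sort_coe, Nat.card_coe_set_eq, hr, Set.ncard_coe_finset,
        show ({Multiplicative.ofAdd 0, Multiplicative.ofAdd j, Multiplicative.ofAdd j', Multiplicative.ofAdd (j + j')} :
          Finset (Multiplicative (Matrix (Fin 2) (Fin 2) (ZMod 2)))) = Finset.image Multiplicative.ofAdd {0, j, j', j + j'} by
          simp only [Finset.image_insert, Finset.image_singleton],
        Finset.card_image_of_injective _ Multiplicative.ofAdd.injective]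
      have g1 : j + j' ≠ j := fun h => hj'0 (add_eq_left.1 h)
      have g2 : j + j' ≠ j' := fun h => hj0 (add_eq_right.1 h)
      simp [Finset.card_insert_of_notMem, Ne.symm hj0, Ne.symm hj'0, Ne.symm hjj, Ne.symm hne', Ne.symm g1, Ne.symm g2]
    rw [← Lx.ker.index_mul_card, Subgroup.index_ker, hc, hk,
      Nat.card_congr (Subgroup.subgroupOfEquivOfLe M.leX).toEquiv, M.card_D, ha]
    norm_num
  -- squares of outer elements
  obtain ⟨V', hV'V, -⟩ := exists_inverse M.a_ne hdet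
  have hxsq : x0 ^ 2 ∈ M.E := by
    have hxD : x0 ^ 2 ∈ M.D := M.ρ_eq_one (pow_mem hx0 2) (by
      rw [M.sq_form le_rfl (hW x0), show 2 ^ (1 + 1) = 4 from rfl, h4, add_zero])
    obtain ⟨v, hv⟩ := M.f_surj hxD
    have hxd : x0 * M.f v * x0⁻¹ = M.f v := by rw [hv]; simp [pow_two, mul_assoc]
    rw [← M.ρ_spec] at hxd
    have h1 := M.f_inj hxd
    rw [hW x0, Matrix.add_mulVec, Matrix.one_mulVec, add_eq_left, Matrix.smul_mulVec] at h1
    have := congrArg (fun z => V' *ᵥ z) h1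
    simp only [Matrix.mulVec_smul, Matrix.mulVec_mulVec, hV'V, Matrix.one_mulVec, Matrix.mulVec_zero, pow_one] at this
    refine M.mem_E hxD ?_
    rw [← hv, ← M.f_nsmul, this, M.f_zero]
  have hzE : ∀ {u : T}, u ∈ M.E → ∀ g : T, g * u * g⁻¹ = u := fun {u} hu g => by
    rw [Subgroup.mem_center_iff.1 (M.E_central hu) g, mul_inv_cancel_right]
  -- the fixed part
  have hfix : ∀ c ∈ S.C, ⁅x0, c⁆ ∈ M.E → c = 1 := by
    intro c hc h0
    refine M.fixed_mod hc fun x hx => ?_
    have hmul : ∀ p q, ⁅p, c⁆ ∈ M.E → ⁅q, c⁆ ∈ M.E → ⁅p * q, c⁆ ∈ M.E := fun p q hp hq => by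
      rw [show ⁅p * q, c⁆ = p * ⁅q, c⁆ * p⁻¹ * ⁅p, c⁆ by simp [commutatorElement_def, mul_assoc], hzE hq]
      exact mul_mem hq hp
    have hD : ∀ d ∈ M.D, ⁅d, c⁆ ∈ M.E := fun d hd => by
      obtain ⟨v, rfl⟩ := M.f_surj hd
      rw [← commutatorElement_inv, M.conj_comm v (hW c)]
      refine inv_mem (M.mem_E (M.f_mem _) ?_)
      rw [← M.f_nsmul, smul_smul, ← pow_succ', two_pow_smul (a := M.a) (by omega), M.f_zero]
    have h1 : ⁅x1, c⁆ ∈ M.E := by
      rw [hx1, show ⁅M.φ x0, c⁆ = M.φ ⁅x0, c⁆ by rw [map_commutatorElement, hc M.φ M.hφ]]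
      exact M.E_facts.2.1 M.φ M.hφ _ h0
    obtain ⟨y, hy, hyd⟩ := hspan x hx
    rw [show x = y * (y⁻¹ * x) by simp]
    refine hmul _ _ ?_ (hD _ hyd)
    rcases hy with rfl | rfl | rfl | rfl
    · rw [commutatorElement_one_left]; exact one_mem _
    · exact h0
    · exact h1
    · exact hmul _ _ h0 h1
  -- the parameter of a fixed element
  have hpar : ∀ c ∈ S.C, ∃ v, c⁻¹ * x0 * c = x0 * M.f v ∧
      (Red M.a_ne (W x0) + 1) *ᵥ ![red M.a_ne (v 0), red M.a_ne (v 1)] = 0 := by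
    intro c hc
    have hcx : c⁻¹ * x0 * c ∈ S.X := by simpa using S.X_normal.conj_mem x0 hx0 c⁻¹
    obtain ⟨v, hv⟩ := M.f_surj (hker (x0⁻¹ * (c⁻¹ * x0 * c)) (mul_mem (inv_mem hx0) hcx) (by
      rw [map_mul, map_inv, map_mul, map_mul, map_inv, mul_comm _ (L c), mul_inv_cancel_left, inv_mul_cancel]))
    refine ⟨v, by rw [hv, mul_inv_cancel_left], ?_⟩
    have hd : c⁻¹ * x0 * c = x0 * M.f v := by rw [hv, mul_inv_cancel_left]
    have h2 : (x0 * M.f v) ^ 2 = x0 ^ 2 := by
      rw [← hd, show c⁻¹ * x0 * c = c⁻¹ * x0 * (c⁻¹)⁻¹ by rw [inv_inv], conj_pow, hzE hxsq]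
    have h3 : x0 * M.f v * x0⁻¹ = (M.f v)⁻¹ := by
      have h6 : M.f v * x0 * M.f v = x0 := mul_left_cancel (a := x0) (by
        rw [← pow_two, ← h2, pow_two]; simp [mul_assoc])
      calc x0 * M.f v * x0⁻¹ = (M.f v)⁻¹ * (M.f v * x0 * M.f v) * x0⁻¹ := by simp [mul_assoc]
        _ = (M.f v)⁻¹ := by rw [h6, mul_inv_cancel_right]
    rw [← M.ρ_spec, eq_inv_iff_mul_eq_one, ← M.f_add, ← M.f_zero] at h3
    have h4' := M.f_inj h3
    rw [hW x0, pow_one, Matrix.add_mulVec, Matrix.one_mulVec, Matrix.smul_mulVec,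
      show v + (2 : ℕ) • (W x0 *ᵥ v) + v = (2 : ℕ) • (W x0 *ᵥ v + v) by rw [smul_add, two_nsmul v]; abel] at h4'
    have h5 : ∀ i, red M.a_ne ((W x0 *ᵥ v + v) i) = 0 := fun i =>
      red_of_smul_eq_zero M.a_ne (k := 1) (by omega) (by rw [pow_one]; exact congrFun h4' i)
    funext i
    have h6 := h5 i
    fin_cases i <;>
      simpa [Matrix.mulVec, dotProduct, Fin.sum_univ_two, Red, add_mul, Matrix.one_apply, add_assoc, add_comm,
        add_left_comm] using h6
  have hC : Nat.card S.C ≤ 2 := by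
    have key : ∀ c ∈ S.C, ∀ c' ∈ S.C, c ≠ 1 → c' ≠ 1 → c = c' := by
      intro c hc c' hc' h h'
      obtain ⟨v, hv, hvk⟩ := hpar c hc
      obtain ⟨v', hv', hvk'⟩ := hpar c' hc'
      have hnot : ∀ {u : T}, u ∈ S.C → u ≠ 1 → ∀ {t}, u⁻¹ * x0 * u = x0 * M.f t → M.f t ∉ M.E := by
        intro u hu hu1 t ht htE
        refine hu1 (hfix u hu ?_)
        have e : ⁅x0, u⁆ = x0 * (u * M.f t * u⁻¹) * x0⁻¹ := by
          have e2 : M.f t = x0⁻¹ * (u⁻¹ * x0 * u) := by rw [ht, inv_mul_cancel_left]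
          rw [e2]; simp [commutatorElement_def, mul_assoc]
        rw [e, hzE htE, hzE htE]
        exact htE
      have hn1 := hnot hc h hv
      have hn2 := hnot hc' h' hv'
      rw [M.mem_E_iff_red ha] at hn1 hn2
      have e := Matrix.eta_fin_two (Red M.a_ne (W x0))
      have h1 := hanti x0 hx0
      have hd2 : (Red M.a_ne (W x0)).det = 1 := hdet
      rw [e] at h1 hd2 hvk hvk'
      rw [Matrix.det_fin_two_of, CharTwo.sub_eq_add] at hd2
      have k0 := congrFun hvk 0
      have k1 := congrFun hvk 1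
      have k0' := congrFun hvk' 0
      have k1' := congrFun hvk' 1
      simp [Matrix.mulVec, dotProduct, Fin.sum_univ_two, Matrix.one_apply, add_mul] at k0 k1 k0' k1'
      have hh := anti_kernel_aux _ _ _ _ (red M.a_ne (v 0)) (red M.a_ne (v 1)) (red M.a_ne (v' 0)) (red M.a_ne (v' 1))
        h1 hd2 (by linear_combination k0) (by linear_combination k1) (by linear_combination k0')
        (by linear_combination k1')
      obtain ⟨g1, g2⟩ := (hh.resolve_left hn1).resolve_left hn2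
      have hE : M.f (v' - v) ∈ M.E := by
        rw [M.mem_E_iff_red ha]
        simp [g1, g2]
      have hu : c * c'⁻¹ ∈ S.C := mul_mem hc (inv_mem hc')
      by_contra hcc
      refine hnot hu (fun h1 => hcc (mul_inv_eq_one.1 h1)) (t := v - v') ?_ ?_
      · have e1 : c⁻¹ * x0 * c = c'⁻¹ * x0 * c' * M.f (v - v') := by
          rw [hv, hv', mul_assoc, ← M.f_add, add_sub_cancel]
        have hE' : M.f (v - v') ∈ M.E := by
          rw [M.mem_E_iff_red ha]
          simp [g1, g2]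
        rw [show (c * c'⁻¹)⁻¹ * x0 * (c * c'⁻¹) = c' * (c⁻¹ * x0 * c) * c'⁻¹ by simp [mul_assoc], e1]
        conv_rhs => rw [← hzE hE' c']
        simp [mul_assoc]
      · rw [M.mem_E_iff_red ha]
        simp [g1, g2]
    by_cases hb : ∃ c ∈ S.C, c ≠ 1
    · obtain ⟨c, hc, hc1⟩ := hb
      have : (S.C : Set T) ⊆ ↑({1, c} : Finset T) := fun u hu => by
        by_cases hu1 : u = 1
        · simp [hu1]
        · simp [key u hu c hc hu1 hc1]
      rw [← SetLike.coe_sort_coe, Nat.card_coe_set_eq]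
      exact (Set.ncard_le_ncard this (Finset.finite_toSet _)).trans (by
        rw [Set.ncard_coe_finset]; exact Finset.card_le_two)
    · push Not at hb
      rw [(Subgroup.eq_bot_iff_forall _).2 hb, Subgroup.card_bot]; norm_num
  have hT : Nat.card T ≤ 128 := by
    refine (Nat.card_le_card_of_surjective (fun p : S.X × S.C => (p.1 : T) * p.2) fun t => ?_).trans ?_
    · obtain ⟨c, hc, x, hx, rfl⟩ := S.exists_dec t
      exact ⟨(⟨x, hx⟩, ⟨c, hc⟩), rfl⟩
    · rw [Nat.card_prod, hX]; omega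
  have hT' : 64 ≤ Nat.card T := hX ▸ Subgroup.card_le_card_group _
  haveI : Fact (Nat.Prime 2) := ⟨Nat.prime_two⟩
  obtain ⟨n, hn⟩ := IsPGroup.iff_card.1 S.hT
  rw [hn] at hT hT' ⊢
  have h1 : 6 ≤ n := (Nat.pow_le_pow_iff_right (a := 2) (by norm_num)).1 (by simpa using hT')
  have h2 : n ≤ 7 := (Nat.pow_le_pow_iff_right (a := 2) (by norm_num)).1 (by simpa using hT)
  interval_cases n <;> norm_num

end Cfsg.Agent.NormalTwo
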