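/-
When invariant abelian normal subgroups are central, the moved part has class two.
-/
import Mathlib
import Cfsg.Agent.Lib.NormalTwo.Basic
import Cfsg.Agent.Lib.ScnThreeTwo.Small
import Cfsg.Agent.Lib.Solvable.Structure

set_option autoImplicit false
set_option linter.style.haveILetI false
set_option linter.unusedSectionVars false

namespace Cfsg.Agent.NormalTwo

open scoped commutatorElement

variable {T : Type*} [Group T] [Finite T]

/-- The restriction to the moved part. -/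
def Setup.res (S : Setup T) (φ : MulAut T) (hφ : φ ∈ S.A) : MulAut S.X where
  toFun x := ⟨φ x, S.X_inv φ hφ x x.2⟩
  invFun x := ⟨φ⁻¹ x, S.X_inv φ⁻¹ (inv_mem hφ) x x.2⟩
  left_inv x := Subtype.ext (MulAut.inv_apply_self _ φ x)
  right_inv x := Subtype.ext (MulAut.apply_inv_self _ φ x)
  map_mul' x y := Subtype.ext (map_mul φ (x : T) y)

@[simp] theorem Setup.res_coe (S : Setup T) (φ : MulAut T) (hφ : φ ∈ S.A) (x : S.X) :
    (S.res φ hφ x : T) = φ x := rfl

theorem char_central (S : Setup T)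
    (hcentral : ∀ B : Subgroup T, B.Normal → B ≤ S.X → Inv S.A B → (∀ a ∈ B, ∀ b ∈ B, a * b = b * a) →
      ∀ b ∈ B, ∀ x ∈ S.X, b * x = x * b)
    (B : Subgroup S.X) (_ : B.Normal) (hB : ∀ ψ : MulAut S.X, ∀ x ∈ B, ψ x ∈ B)
    (hc : ∀ a ∈ B, ∀ b ∈ B, a * b = b * a) : B ≤ Subgroup.center S.X := by
  haveI := S.X_normal
  intro b hb
  refine Subgroup.mem_center_iff.2 fun x => Subtype.ext (hcentral (B.map S.X.subtype) ⟨?_⟩ (Subgroup.map_subtype_le _)
    ?_ ?_ b ⟨b, hb, rfl⟩ x x.2).symm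
  · rintro _ ⟨y, hy, rfl⟩ g
    exact ⟨MulAut.conjNormal g y, hB _ y hy, MulAut.conjNormal_apply g y⟩
  · rintro ψ hψ _ ⟨y, hy, rfl⟩
    exact ⟨S.res ψ hψ y, hB _ y hy, rfl⟩
  · rintro _ ⟨y, hy, rfl⟩ _ ⟨y', hy', rfl⟩
    exact congrArg Subtype.val (hc y hy y' hy')

theorem two_of_central (S : Setup T) (hna : ∃ a b : S.X, a * b ≠ b * a)
    (hcentral : ∀ B : Subgroup T, B.Normal → B ≤ S.X → Inv S.A B → (∀ a ∈ B, ∀ b ∈ B, a * b = b * a) →
      ∀ b ∈ B, ∀ x ∈ S.X, b * x = x * b)
    (hsmall : ∀ B : Subgroup T, B.Normal → B ≤ S.X → Inv S.A B → (∀ a ∈ B, ∀ b ∈ B, a * b = b * a) →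
      (∃ φ ∈ S.A, ∃ b ∈ B, φ b ≠ b) → ∀ b ∈ B, b ^ 2 = 1) : ScnThreeTwo.Two S.X := by
  classical
  haveI : Group.IsNilpotent ↥S.X := (S.hT.to_subgroup S.X).isNilpotent
  haveI : Fact (Nat.Prime 2) := ⟨Nat.prime_two⟩
  set Z := Subgroup.center S.X with hZ
  have hchar : ∀ B : Subgroup S.X, B.Normal → (∀ ψ : MulAut S.X, ∀ x ∈ B, ψ x ∈ B) →
      (∀ a ∈ B, ∀ b ∈ B, a * b = b * a) → B ≤ Z := char_central S hcentral
  have hKi : ∀ ψ : MulAut S.X, ∀ x ∈ commutator S.X, ψ x ∈ commutator S.X := by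
    intro ψ x hx
    have : (commutator ↥S.X).map ψ.toMonoidHom ≤ commutator ↥S.X := by
      rw [commutator_def, Subgroup.map_commutator]; exact Subgroup.commutator_mono le_top le_top
    exact this ⟨x, hx, rfl⟩
  -- class two
  have hKZ : commutator ↥S.X ≤ Z := by
    by_contra hK
    set q := QuotientGroup.mk' Z with hq
    haveI : Group.IsNilpotent (↥S.X ⧸ Z) := ((S.hT.to_subgroup S.X).to_quotient Z).isNilpotent
    haveI : ((commutator ↥S.X).map q).Normal :=
      Subgroup.Normal.map inferInstance _ (QuotientGroup.mk'_surjective _)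
    have hne : (commutator ↥S.X).map q ≠ ⊥ := fun h => hK fun c hc =>
      (QuotientGroup.eq_one_iff c).1 (Subgroup.mem_bot.1 (h ▸ Subgroup.mem_map_of_mem q hc))
    obtain ⟨w, hw, hw1⟩ := (Subgroup.bot_or_exists_ne_one _).resolve_left (SolvStruct.inf_center_ne_bot hne)
    obtain ⟨⟨z, hzK, rfl⟩, hwc⟩ := hw
    let Z2 : Subgroup S.X := (Subgroup.center (↥S.X ⧸ Z)).comap q
    set B := commutator ↥S.X ⊓ Z2 with hB
    have hZ2comm : ∀ u ∈ Z2, ∀ x : ↥S.X, ⁅x, u⁆ ∈ Z := fun u hu x => by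
      rw [← QuotientGroup.eq_one_iff, ← QuotientGroup.mk'_apply, map_commutatorElement]
      exact commutatorElement_eq_one_iff_mul_comm.2 (Subgroup.mem_center_iff.1 hu (q x))
    have hcm : ∀ u ∈ Z2, ∀ k ∈ commutator ↥S.X, k * u = u * k := by
      intro u hu k hk
      let f : ↥S.X →* Z :=
        { toFun := fun x => ⟨⁅x, u⁆, hZ2comm u hu x⟩
          map_one' := Subtype.ext (by simp)
          map_mul' := fun a b => Subtype.ext (by
            show ⁅a * b, u⁆ = ⁅a, u⁆ * ⁅b, u⁆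
            have h := Subgroup.mem_center_iff.1 (hZ2comm u hu b)
            calc ⁅a * b, u⁆ = (a * ⁅b, u⁆ * a⁻¹) * ⁅a, u⁆ := by simp [commutatorElement_def, mul_assoc]
              _ = _ := by rw [h a, mul_inv_cancel_right, (h _).symm]) }
      have hle : commutator ↥S.X ≤ f.ker := by
        rw [commutator_def, Subgroup.commutator_le]
        intro a _ b _
        rw [MonoidHom.mem_ker, map_commutatorElement, commutatorElement_eq_one_iff_mul_comm]
        exact Subtype.ext (Subgroup.mem_center_iff.1 (f b).2 (f a))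
      exact commutatorElement_eq_one_iff_mul_comm.1 (congrArg Subtype.val (MonoidHom.mem_ker.1 (hle hk)))
    have hBi : ∀ ψ : MulAut S.X, ∀ x ∈ B, ψ x ∈ B := by
      rintro ψ u ⟨hu1, hu2⟩
      refine ⟨hKi ψ u hu1, Subgroup.mem_center_iff.2 fun g => ?_⟩
      induction g using QuotientGroup.induction_on with | _ g => ?_
      refine commutatorElement_eq_one_iff_mul_comm.1 ?_
      rw [show (g : ↥S.X ⧸ Z) = q g from rfl, ← map_commutatorElement, hq, QuotientGroup.mk'_apply,
        QuotientGroup.eq_one_iff, ← ψ.apply_symm_apply g, ← map_commutatorElement]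
      exact ScnThreeTwo.map_center ψ (hZ2comm u hu2 _)
    have hBn : B.Normal := Subgroup.normal_inf_normal _ _
    have := hchar B hBn hBi (fun u hu v hv => hcm v hv.2 u hu.1) ⟨hzK, hwc⟩
    exact hw1 ((QuotientGroup.eq_one_iff z).2 this)
  have hcZ : ∀ x y : ↥S.X, ⁅x, y⁆ ∈ Z := fun x y => hKZ (by
    rw [commutator_def]; exact Subgroup.commutator_mem_commutator trivial trivial)
  have mulL : ∀ a b u : ↥S.X, ⁅a * b, u⁆ = ⁅a, u⁆ * ⁅b, u⁆ := fun a b u => by
    have h := Subgroup.mem_center_iff.1 (hcZ b u)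
    calc ⁅a * b, u⁆ = (a * ⁅b, u⁆ * a⁻¹) * ⁅a, u⁆ := by simp [commutatorElement_def, mul_assoc]
      _ = _ := by rw [h a, mul_inv_cancel_right, (h _).symm]
  have powL : ∀ (a u : ↥S.X) (n : ℕ), ⁅a ^ n, u⁆ = ⁅a, u⁆ ^ n := fun a u n => by
    induction n with
    | zero => simp
    | succ n ih => rw [pow_succ, mulL, ih, pow_succ]
  have powR : ∀ (a u : ↥S.X) (n : ℕ), ⁅a, u ^ n⁆ = ⁅a, u⁆ ^ n := fun a u n => by
    rw [← commutatorElement_inv, powL, ← inv_pow, commutatorElement_inv]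
  have hsq1 : ∀ x y : ↥S.X, ⁅x, y⁆ ^ 2 = 1 := by
    have key : ∀ k, (∀ x y : ↥S.X, ⁅x, y⁆ ^ 2 ^ k = 1) → ∀ x y : ↥S.X, ⁅x, y⁆ ^ 2 = 1 := by
      intro k
      induction k with
      | zero =>
        intro h x y
        have := h x y
        rw [pow_zero, pow_one] at this
        rw [this, one_pow]
      | succ k ih =>
        intro h
        rcases Nat.eq_zero_or_pos k with rfl | hk
        · simpa using h
        refine ih fun x y => ?_
        set W := Subgroup.closure ((Z : Set ↥S.X) ∪ {u : ↥S.X | ∃ x : ↥S.X, u = x ^ 2 ^ k}) with hW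
        haveI hWc : IsMulCommutative W := Subgroup.isMulCommutative_closure (by
          rintro u (hu | ⟨a, rfl⟩) v (hv | ⟨b, rfl⟩)
          · exact (Subgroup.mem_center_iff.1 hu v).symm
          · exact (Subgroup.mem_center_iff.1 hu _).symm
          · exact Subgroup.mem_center_iff.1 hv _
          · refine commutatorElement_eq_one_iff_mul_comm.1 ?_
            rw [powL, powR, ← pow_mul, ← pow_add, show k + k = (k + 1) + (k - 1) by omega, pow_add, pow_mul, h,
              one_pow])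
        have hWn : W.Normal := ⟨fun w hw g => by
          rw [show g * w * g⁻¹ = ⁅g, w⁆ * w by simp [commutatorElement_def]]
          exact mul_mem (Subgroup.subset_closure (Or.inl (hcZ g w))) hw⟩
        have hWi : ∀ ψ : MulAut S.X, ∀ x ∈ W, ψ x ∈ W := by
          intro ψ w hw
          induction hw using Subgroup.closure_induction with
          | mem w hw =>
            rcases hw with hw | ⟨a, rfl⟩
            · exact Subgroup.subset_closure (Or.inl (ScnThreeTwo.map_center ψ hw))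
            · exact Subgroup.subset_closure (Or.inr ⟨ψ a, map_pow ψ a _⟩)
          | one => rw [map_one]; exact one_mem _
          | mul a b _ _ iha ihb => rw [map_mul]; exact mul_mem iha ihb
          | inv a _ iha => rw [map_inv]; exact inv_mem iha
        have hc := hchar W hWn hWi (fun u hu v hv => congrArg Subtype.val (mul_comm' (⟨u, hu⟩ : W) ⟨v, hv⟩))
          (Subgroup.subset_closure (Or.inr ⟨x, rfl⟩))
        rw [← powL]
        exact commutatorElement_eq_one_iff_mul_comm.2 (Subgroup.mem_center_iff.1 hc y).symm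
    obtain ⟨n, hn⟩ := IsPGroup.iff_card.1 (S.hT.to_subgroup S.X)
    exact key n fun x y => by rw [← hn]; exact pow_card_eq_one'
  have hsq : ∀ x : ↥S.X, x ^ 2 ∈ Z := fun x => Subgroup.mem_center_iff.2 fun y =>
    (commutatorElement_eq_one_iff_mul_comm.1 (by rw [powL, hsq1])).symm
  obtain ⟨p, q, hpq⟩ := hna
  have hpqK : ⁅p, q⁆ ∈ commutator ↥S.X := by
    rw [commutator_def]; exact Subgroup.commutator_mem_commutator trivial trivial
  have hK2 : ∀ k ∈ commutator ↥S.X, k ^ 2 = 1 := by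
    intro k hk
    rw [commutator_eq_closure] at hk
    have : k ^ 2 = 1 ∧ k ∈ Z := by
      induction hk using Subgroup.closure_induction with
      | mem k hk => obtain ⟨a, b, rfl⟩ := hk; exact ⟨hsq1 a b, hcZ a b⟩
      | one => exact ⟨one_pow _, one_mem _⟩
      | mul a b _ _ iha ihb =>
        exact ⟨by rw [(show Commute a b from (Subgroup.mem_center_iff.1 iha.2 b).symm).mul_pow, iha.1, ihb.1, one_mul],
          mul_mem iha.2 ihb.2⟩
      | inv a _ iha => exact ⟨by rw [inv_pow, iha.1, inv_one], inv_mem iha.2⟩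
    exact this.1
  by_cases hmv : ∀ φ, ∀ hφ : φ ∈ S.A, ∀ z ∈ Z, S.res φ hφ z = z
  · -- trivial action on the centre
    letI : CommGroup (↥S.X ⧸ commutator ↥S.X) :=
      { (inferInstance : Group (↥S.X ⧸ commutator ↥S.X)) with
        mul_comm := fun a b => by
          induction a using QuotientGroup.induction_on with | _ a => ?_
          induction b using QuotientGroup.induction_on with | _ b => ?_
          refine (QuotientGroup.eq).2 ?_
          have : ⁅b⁻¹, a⁻¹⁆ ∈ commutator ↥S.X := by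
            rw [commutator_def]; exact Subgroup.commutator_mem_commutator trivial trivial
          simpa [commutatorElement_def, mul_assoc] using this }
    let f : ↥S.X →* ↥S.X ⧸ commutator ↥S.X :=
      (powMonoidHom 2).comp (QuotientGroup.mk' (commutator ↥S.X))
    have hf : ∀ x, f x = ((x ^ 2 : ↥S.X) : ↥S.X ⧸ commutator ↥S.X) := fun x => rfl
    have hsqK : ∀ x : ↥S.X, x ^ 2 ∈ commutator ↥S.X := fun x => by
      have := S.hom_kill f (fun φ hφ y => by
        show f (S.res φ hφ y) = f y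
        rw [hf, hf, ← map_pow, hmv φ hφ _ (hsq y)]) x
      rwa [hf, QuotientGroup.eq_one_iff] at this
    have hZK : Z ≤ commutator ↥S.X := by
      haveI : Finite S.A := Nat.finite_of_card_ne_zero (fun h => by have := S.hA; rw [h] at this; simp at this)
      haveI := Fintype.ofFinite S.A
      intro z hz
      let R : S.X →* S.X ⧸ commutator S.X :=
        ∏ φ : S.A, (QuotientGroup.mk' (commutator S.X)).comp (S.res φ φ.2).toMonoidHom
      have hT : ∀ y, R y = ∏ φ : S.A, ((S.res φ φ.2 y : S.X) : S.X ⧸ commutator S.X) := fun y => by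
        simp [R, MonoidHom.finsetProd_apply]
      have h1 := S.hom_kill R (fun φ hφ y => by
        rw [hT, hT]
        exact Fintype.prod_equiv (Equiv.mulRight ⟨φ, hφ⟩) _ _ fun _ => rfl) z
      rw [hT, Finset.prod_congr rfl (fun (φ : S.A) _ => by rw [hmv φ φ.2 z hz]), Finset.prod_const,
        Finset.card_univ, ← Nat.card_eq_fintype_card] at h1
      obtain ⟨m, hm⟩ := S.hA
      have h3 : (z : ↥S.X ⧸ commutator ↥S.X) ^ 2 = 1 := by
        rw [← QuotientGroup.mk_pow, QuotientGroup.eq_one_iff]; exact hsqK z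
      rw [hm, pow_succ, pow_mul, h3, one_pow, one_mul] at h1
      exact (QuotientGroup.eq_one_iff z).1 h1
    exact ⟨⟨p, q, hpq⟩, fun z hz => hK2 z (hZK hz), hsq, le_antisymm hKZ hZK⟩
  · push Not at hmv
    obtain ⟨φ, hφ, z, hz, hm⟩ := hmv
    set ι := S.X.subtype
    haveI := S.X_normal
    have hnorm : ∀ B : Subgroup S.X, (∀ ψ : MulAut S.X, ∀ x ∈ B, ψ x ∈ B) → (B.map ι).Normal := fun B h => ⟨by
      rintro _ ⟨x, hx, rfl⟩ g
      exact ⟨MulAut.conjNormal g x, h _ x hx, MulAut.conjNormal_apply g x⟩⟩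
    have hinv : ∀ B : Subgroup S.X, (∀ ψ : MulAut S.X, ∀ x ∈ B, ψ x ∈ B) → Inv S.A (B.map ι) := fun B h => by
      rintro ψ hψ _ ⟨x, hx, rfl⟩
      exact ⟨S.res ψ hψ x, h _ x hx, rfl⟩
    have hZc : ∀ ψ : MulAut S.X, ∀ x ∈ Z, ψ x ∈ Z := fun ψ x hx => ScnThreeTwo.map_center ψ hx
    have hZm : φ (z : T) ≠ z := fun h => hm (Subtype.ext h)
    have hZab : ∀ a ∈ Z.map ι, ∀ b ∈ Z.map ι, a * b = b * a := by
      rintro _ ⟨a, ha, rfl⟩ _ ⟨b, -, rfl⟩
      exact (congrArg Subtype.val (Subgroup.mem_center_iff.1 ha b)).symm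
    have h2 := hsmall (Z.map ι) (hnorm Z hZc) (Subgroup.map_subtype_le _) (hinv Z hZc) hZab ⟨φ, hφ, z, ⟨z, hz, rfl⟩, hZm⟩
    have hz2 : ∀ w ∈ Z, w ^ 2 = 1 := fun w hw => Subtype.ext (h2 w ⟨w, hw, rfl⟩)
    have hEl : Cfsg.IsElementaryAbelian 2 (Z.map ι) := ⟨.of_setLike_mul_comm hZab, h2⟩
    have h4 := S.hN8 _ (hnorm Z hZc) hEl
    refine ⟨⟨p, q, hpq⟩, hz2, hsq, le_antisymm hKZ (fun w hw => ?_)⟩
    obtain ⟨w', hw', e⟩ := le_of_inv S hEl h4 (hinv Z hZc) hφ ⟨z, hz, rfl⟩ hZm (Subgroup.map_mono hKZ)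
      (hinv _ hKi) (fun h => hpq (commutatorElement_eq_one_iff_mul_comm.1 (Subtype.ext
        (Subgroup.mem_bot.1 (h ▸ Subgroup.mem_map_of_mem ι hpqK))))) ⟨w, hw, rfl⟩
    rw [← Subtype.ext (a1 := w') (a2 := w) e]
    exact hw'

end Cfsg.Agent.NormalTwo
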