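/-
The classes of the moved part modulo its centre.
-/
import Mathlib
import Cfsg.Agent.Lib.NormalTwo.Two

set_option autoImplicit false
set_option linter.style.haveILetI false
set_option linter.unusedSectionVars false

namespace Cfsg.Agent.NormalTwo

open scoped commutatorElement

variable {T : Type*} [Group T] [Finite T] (S : Setup T) (Q : ScnThreeTwo.Two S.X)
include Q

/-- An element fixed by all the automorphisms modulo the centre is central. -/
theorem fixed_class {x : S.X} (h : ∀ φ, ∀ hφ : φ ∈ S.A, x⁻¹ * S.res φ hφ x ∈ Subgroup.center S.X) :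
    x ∈ Subgroup.center ↥S.X := by
  classical
  letI : CommGroup (↥S.X ⧸ Subgroup.center ↥S.X) :=
    { (inferInstance : Group (↥S.X ⧸ Subgroup.center ↥S.X)) with
      mul_comm := fun a b => by
        induction a using QuotientGroup.induction_on with | _ a => ?_
        induction b using QuotientGroup.induction_on with | _ b => ?_
        refine (QuotientGroup.eq).2 ?_
        have := Q.mem b⁻¹ a⁻¹
        simpa [commutatorElement_def, mul_assoc] using this }
  haveI : Finite S.A := Nat.finite_of_card_ne_zero (fun h => by have := S.hA; rw [h] at this; simp at this)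
  haveI := Fintype.ofFinite S.A
  let f : ↥S.X →* ↥S.X ⧸ Subgroup.center ↥S.X :=
    ∏ φ : S.A, (QuotientGroup.mk' (Subgroup.center ↥S.X)).comp (S.res φ φ.2).toMonoidHom
  have hf : ∀ y, f y = ∏ φ : S.A, ((S.res φ φ.2 y : ↥S.X) : ↥S.X ⧸ Subgroup.center ↥S.X) := fun y => by
    simp [f, MonoidHom.finsetProd_apply]
  have h1 := S.hom_kill f (fun φ hφ y => by
    rw [hf, hf]
    exact Fintype.prod_equiv (Equiv.mulRight ⟨φ, hφ⟩) _ _ fun _ => rfl) x
  rw [hf] at h1
  have h2 : ∀ φ : S.A, ((S.res φ φ.2 x : ↥S.X) : ↥S.X ⧸ Subgroup.center ↥S.X) = x :=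
    fun φ => (QuotientGroup.eq.2 (h φ φ.2)).symm
  rw [Finset.prod_congr rfl fun φ _ => h2 φ, Finset.prod_const, Finset.card_univ, ← Nat.card_eq_fintype_card] at h1
  obtain ⟨m, hm⟩ := S.hA
  have h3 : (x : ↥S.X ⧸ Subgroup.center ↥S.X) ^ 2 = 1 := by
    rw [← QuotientGroup.mk_pow, QuotientGroup.eq_one_iff]; exact Q.sq x
  rw [hm, pow_succ, pow_mul, h3, one_pow, one_mul] at h1
  exact (QuotientGroup.eq_one_iff x).1 h1

/-- With at most eight cosets of the centre the automorphisms are transitive on the nontrivial ones. -/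
theorem transitive (h8 : Nat.card (↥S.X ⧸ Subgroup.center ↥S.X) ≤ 8)
    {x y : ↥S.X} (hx : x ∉ Subgroup.center ↥S.X) (hy : y ∉ Subgroup.center ↥S.X) :
    ∃ φ, ∃ hφ : φ ∈ S.A, (S.res φ hφ x)⁻¹ * y ∈ Subgroup.center ↥S.X := by
  classical
  letI : MulAction S.A (↥S.X ⧸ Subgroup.center ↥S.X) :=
    { smul := fun φ v => ((S.res φ φ.2 v.out : ↥S.X) : ↥S.X ⧸ Subgroup.center ↥S.X)
      one_smul := fun v => QuotientGroup.out_eq' v
      mul_smul := fun φ ψ v =>
        (Q.mk_congr (S.res φ φ.2) (QuotientGroup.out_eq' ((S.res ψ ψ.2 v.out : S.X) : S.X ⧸ Subgroup.center S.X))).symm }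
  have hsmul : ∀ (φ : S.A) (a : ↥S.X), φ • (a : ↥S.X ⧸ Subgroup.center ↥S.X) = ((S.res φ φ.2 a : ↥S.X) : ↥S.X ⧸ Subgroup.center ↥S.X) :=
    fun φ a => Q.mk_congr (S.res φ φ.2) (QuotientGroup.out_eq' _)
  set N : Set (↥S.X ⧸ Subgroup.center ↥S.X) := {v | v ≠ 1} with hN
  have hNc : N.ncard ≤ 7 := by
    have : N = (Set.univ : Set (↥S.X ⧸ Subgroup.center ↥S.X)) \ {1} := by ext; simp [hN]
    rw [this, Set.ncard_sdiff_singleton_of_mem (Set.mem_univ _), Set.ncard_univ]; omega
  have horb : ∀ v : ↥S.X ⧸ Subgroup.center ↥S.X, v ≠ 1 →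
      MulAction.orbit S.A v ⊆ N ∧ 3 ≤ (MulAction.orbit S.A v).ncard ∧ Odd (MulAction.orbit S.A v).ncard := by
    intro v hv
    have hodd : Odd (MulAction.orbit S.A v).ncard := by
      rw [← MulAction.index_stabilizer]
      exact S.hA.of_dvd_nat (Subgroup.index_dvd_card _)
    refine ⟨?_, ?_, hodd⟩
    · rintro _ ⟨φ, rfl⟩ h
      apply hv
      calc v = φ⁻¹ • (φ • v) := (inv_smul_smul φ v).symm
        _ = φ⁻¹ • 1 := by rw [show φ • v = 1 from h]
        _ = 1 := by rw [← QuotientGroup.mk_one, hsmul, map_one]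
    · rcases hodd with ⟨k, hk⟩
      rcases Nat.eq_zero_or_pos k with hk0 | hk0
      · exfalso
        rw [hk0] at hk
        obtain ⟨w, hw⟩ := Set.ncard_eq_one.1 hk
        apply hv
        induction v using QuotientGroup.induction_on with | _ a => ?_
        refine (QuotientGroup.eq_one_iff a).2 (fixed_class S Q fun φ hφ => QuotientGroup.eq.1 ?_)
        rw [← hsmul ⟨φ, hφ⟩]
        have h1 := MulAction.mem_orbit_self (M := S.A) (a : ↥S.X ⧸ Subgroup.center ↥S.X)
        have h2 : (⟨φ, hφ⟩ : S.A) • (a : ↥S.X ⧸ Subgroup.center ↥S.X) ∈ MulAction.orbit S.A (a : ↥S.X ⧸ Subgroup.center ↥S.X) :=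
          MulAction.mem_orbit _ _
        rw [hw, Set.mem_singleton_iff] at h1 h2
        exact h1.trans h2.symm
      · omega
  have hvne : ∀ a : ↥S.X, a ∉ Subgroup.center ↥S.X → (a : ↥S.X ⧸ Subgroup.center ↥S.X) ≠ 1 := fun a ha h =>
    ha ((QuotientGroup.eq_one_iff a).1 h)
  have key : (y : ↥S.X ⧸ Subgroup.center ↥S.X) ∈ MulAction.orbit S.A (x : ↥S.X ⧸ Subgroup.center ↥S.X) := by
    by_contra hne
    obtain ⟨a1, a2, ⟨ka, a3⟩⟩ := horb _ (hvne x hx)
    obtain ⟨b1, b2, ⟨kb, b3⟩⟩ := horb _ (hvne y hy)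
    have hdis : Disjoint (MulAction.orbit S.A (x : ↥S.X ⧸ Subgroup.center ↥S.X)) (MulAction.orbit S.A (y : ↥S.X ⧸ Subgroup.center ↥S.X)) := by
      rw [Set.disjoint_left]
      intro w hw hw'
      exact hne ((MulAction.orbit_eq_iff.2 hw).symm.trans (MulAction.orbit_eq_iff.2 hw') ▸ MulAction.mem_orbit_self _)
    have hu := Set.ncard_union_eq hdis
    have hsub := Set.ncard_le_ncard (Set.union_subset a1 b1)
    -- the remaining point would be fixed
    set R := N \ (MulAction.orbit S.A (x : ↥S.X ⧸ Subgroup.center ↥S.X) ∪ MulAction.orbit S.A (y : ↥S.X ⧸ Subgroup.center ↥S.X)) with hR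
    have hRc : R.ncard + (MulAction.orbit S.A (x : ↥S.X ⧸ Subgroup.center ↥S.X) ∪
        MulAction.orbit S.A (y : ↥S.X ⧸ Subgroup.center ↥S.X)).ncard = N.ncard :=
      Set.ncard_sdiff_add_ncard_of_subset (Set.union_subset a1 b1)
    rcases R.eq_empty_or_nonempty with hRe | ⟨w, hw⟩
    · rw [hRe, Set.ncard_empty] at hRc
      have hall : Nat.card (↥S.X ⧸ Subgroup.center ↥S.X) = N.ncard + 1 := by
        have : N = (Set.univ : Set (↥S.X ⧸ Subgroup.center ↥S.X)) \ {1} := by ext; simp [hN]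
        have hpos : 0 < Nat.card (↥S.X ⧸ Subgroup.center ↥S.X) := Nat.card_pos
        rw [this, Set.ncard_sdiff_singleton_of_mem (Set.mem_univ _), Set.ncard_univ]; omega
      obtain ⟨d, hd⟩ := IsPGroup.iff_card.1 ((S.hT.to_subgroup S.X).to_quotient (Subgroup.center ↥S.X))
      have hd3 : d ≤ 3 := (Nat.pow_le_pow_iff_right (a := 2) (by norm_num)).1 (by rw [← hd]; exact h8)
      interval_cases d <;> omega
    · obtain ⟨c1, c2, -⟩ := horb w hw.1
      have : MulAction.orbit S.A w ⊆ R := by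
        intro u hu'
        refine ⟨c1 hu', ?_⟩
        have e := MulAction.orbit_eq_iff.2 hu'
        rintro (h | h)
        · exact hw.2 (Or.inl ((e.symm.trans (MulAction.orbit_eq_iff.2 h)) ▸ MulAction.mem_orbit_self w))
        · exact hw.2 (Or.inr ((e.symm.trans (MulAction.orbit_eq_iff.2 h)) ▸ MulAction.mem_orbit_self w))
      have := Set.ncard_le_ncard this
      omega
  obtain ⟨φ, hφ⟩ := key
  exact ⟨φ, φ.2, QuotientGroup.eq.1 ((hsmul φ x).symm.trans hφ)⟩

end Cfsg.Agent.NormalTwo
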