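/-
The action of the fixed part on the classes of the moved part.
-/
import Mathlib
import Cfsg.Agent.Lib.NormalTwo.Classes

set_option autoImplicit false
set_option linter.style.haveILetI false
set_option linter.unusedSectionVars false

namespace Cfsg.Agent.NormalTwo

open scoped commutatorElement

variable {T : Type*} [Group T] [Finite T] (S : Setup T)

/-- A fixed element which maps a class to the image of it under an automorphism fixes the class. -/
theorem conj_class {N : Subgroup T} (hN : N.Normal) (hNi : Inv S.A N) {c : T} (hc : c ∈ S.C) {x : T}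
    {ψ : MulAut T} (hψ : ψ ∈ S.A) (h : (ψ x)⁻¹ * (c * x * c⁻¹) ∈ N) :
    x⁻¹ * ψ x ∈ N ∧ x⁻¹ * (c * x * c⁻¹) ∈ N := by
  have hn : ∀ n : ℕ, ((ψ ^ n) x)⁻¹ * (c ^ n * x * (c ^ n)⁻¹) ∈ N := by
    intro n
    induction n with
    | zero => simp
    | succ n ih =>
      have hcn : ∀ m : ℕ, (ψ ^ m) c = c := fun m => hc _ (pow_mem hψ m)
      have h1 : (c ^ n * (ψ x) * (c ^ n)⁻¹)⁻¹ * (c ^ (n + 1) * x * (c ^ (n + 1))⁻¹) ∈ N := by
        have := hN.conj_mem _ h (c ^ n)
        simpa [pow_succ, mul_assoc] using this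
      have h2 : ((ψ ^ (n + 1)) x)⁻¹ * (c ^ n * (ψ x) * (c ^ n)⁻¹) ∈ N := by
        have := hNi ψ hψ _ ih
        rw [map_mul, map_inv, map_mul, map_mul, map_inv, map_pow, hc ψ hψ] at this
        rwa [pow_succ' ψ n, MulAut.mul_apply]
      have := mul_mem h2 h1
      rwa [mul_assoc, mul_inv_cancel_left] at this
  obtain ⟨k, hk⟩ := S.hT c
  have h2 : x⁻¹ * (ψ ^ 2 ^ k) x ∈ N := by
    have := hn (2 ^ k)
    rw [hk, one_mul, inv_one, mul_one] at this
    have h' := inv_mem this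
    rwa [mul_inv_rev, inv_inv] at h'
  obtain ⟨j, hj⟩ := exists_pow_eq_self_of_coprime (x := ψ) (n := 2 ^ k)
    (Nat.Coprime.pow_left k (Nat.coprime_two_left.2 (odd_orderOf S hψ)))
  have hjn : ∀ i : ℕ, x⁻¹ * ((ψ ^ 2 ^ k) ^ i) x ∈ N := by
    intro i
    induction i with
    | zero => simp
    | succ i ih =>
      have := hNi _ (pow_mem hψ (2 ^ k)) _ ih
      rw [map_mul, map_inv] at this
      have h' := mul_mem h2 this
      rw [mul_assoc, mul_inv_cancel_left] at h'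
      rwa [pow_succ', MulAut.mul_apply]
  have hψx : x⁻¹ * ψ x ∈ N := by
    have := hjn j
    rwa [hj] at this
  refine ⟨hψx, ?_⟩
  have := mul_mem hψx h
  rwa [mul_assoc, mul_inv_cancel_left] at this

/-- No invariant subgroup of index two in the moved part. -/
theorem no_half {N : Subgroup T} (hN : N.Normal) (hNi : Inv S.A N)
    {a : T} (ha : a ∈ S.X) (haN : a ∉ N) (hall : ∀ x ∈ S.X, x ∈ N ∨ a⁻¹ * x ∈ N) : False := by
  haveI := hN
  let f : S.X →* T ⧸ N := (QuotientGroup.mk' N).comp S.X.subtype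
  have hf : ∀ (x : S.X), f x = ((x : T) : T ⧸ N) := fun x => rfl
  have h := S.hom_kill f (fun φ hφ x => by
    rw [hf, hf, QuotientGroup.eq]
    have hx' := S.X_inv φ hφ x x.2
    have hinj : ∀ y : T, φ y ∈ N → y ∈ N := fun y hy => by simpa using hNi φ⁻¹ (inv_mem hφ) _ hy
    rcases hall x x.2 with h | h
    · exact mul_mem (inv_mem (hNi φ hφ x h)) h
    · rcases hall _ hx' with h' | h'
      · exact absurd (hinj _ h') fun hx => haN (by
          have := mul_mem hx (inv_mem h)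
          simpa using this)
      · have := mul_mem (inv_mem h') h
        simpa [mul_assoc] using this) ⟨a, ha⟩
  exact haN ((QuotientGroup.eq_one_iff a).1 h)

/-- A fixed element acts trivially on a quotient of order four of the moved part. -/
theorem four_quot {N : Subgroup T} (hN : N.Normal) (hNi : Inv S.A N) (hsqN : ∀ x ∈ S.X, x ^ 2 ∈ N) (h4 : N.relIndex S.X = 4) :
    (∃ x ∈ S.X, x ∉ N ∧ ∃ φ ∈ S.A, ∀ y ∈ S.X, y ∈ N ∨ x⁻¹ * y ∈ N ∨ (φ x)⁻¹ * y ∈ N ∨ (x * φ x)⁻¹ * y ∈ N) ∧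
    ∀ c ∈ S.C, ∀ x ∈ S.X, x⁻¹ * (c * x * c⁻¹) ∈ N := by
  classical
  haveI := hN
  set q := QuotientGroup.mk' N with hq
  have hqe : ∀ u v : T, q u = q v ↔ u⁻¹ * v ∈ N := fun u v => QuotientGroup.eq
  have hmove : ∃ x ∈ S.X, ∃ φ ∈ S.A, x⁻¹ * φ x ∉ N := by
    by_contra hno
    push Not at hno
    let f : S.X →* T ⧸ N := q.comp S.X.subtype
    have h := fun x => S.hom_kill f (fun φ hφ y => by
      show q (φ y) = q y
      exact ((hqe _ _).2 (hno y y.2 φ hφ)).symm) x
    have : S.X ≤ N := fun x hx => (QuotientGroup.eq_one_iff x).1 (h ⟨x, hx⟩)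
    rw [Subgroup.relIndex_eq_one.2 this] at h4
    omega
  obtain ⟨x, hx, φ, hφ, hxφ⟩ := hmove
  have hx1 : x ∉ N := fun h => hxφ (mul_mem (inv_mem h) (hNi φ hφ x h))
  have hφX := S.X_inv φ hφ x hx
  have hne : ∀ y, y ∉ N → φ y ∉ N := fun y hy h => hy (by simpa using hNi φ⁻¹ (inv_mem hφ) _ h)
  -- the four classes
  set Y := S.X.map q with hY
  have hY4 : Nat.card Y = 4 := by
    let f : S.X →* T ⧸ N := q.comp S.X.subtype
    have hr : f.range = Y := by rw [hY, MonoidHom.range_comp, Subgroup.range_subtype]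
    rw [← hr, ← Subgroup.index_ker, show f.ker = N.subgroupOf S.X by ext y; exact QuotientGroup.eq_one_iff _]
    exact h4
  haveI : Fintype Y := Fintype.ofFinite Y
  have m1 : q x ∈ Y := ⟨x, hx, rfl⟩
  have m2 : q (φ x) ∈ Y := ⟨φ x, hφX, rfl⟩
  have d1 : q x ≠ 1 := fun h => hx1 ((QuotientGroup.eq_one_iff x).1 h)
  have d2 : q (φ x) ≠ 1 := fun h => hne x hx1 ((QuotientGroup.eq_one_iff _).1 h)
  have d3 : q x ≠ q (φ x) := fun h => hxφ ((hqe _ _).1 h)
  have hx2 : q x * q x = 1 := by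
    rw [← map_mul, ← pow_two]; exact (QuotientGroup.eq_one_iff _).2 (hsqN x hx)
  have d4 : q x * q (φ x) ≠ 1 := fun h => d3 (mul_left_cancel (a := q x) (hx2.trans h.symm))
  have hall : ∀ y ∈ S.X, q y = 1 ∨ q y = q x ∨ q y = q (φ x) ∨ q y = q x * q (φ x) := by
    intro y hy
    let F : Finset Y := {1, ⟨q x, m1⟩, ⟨q (φ x), m2⟩, ⟨q x * q (φ x), mul_mem m1 m2⟩}
    have e1 : q x * q (φ x) ≠ q x := fun h => d2 (mul_eq_left.1 h)
    have e2 : q x * q (φ x) ≠ q (φ x) := fun h => d1 (mul_eq_right.1 h)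
    have hF : F.card = 4 := by
      simp [F, Finset.card_insert_of_notMem, Subtype.ext_iff, Ne.symm d1, Ne.symm d2, d3, Ne.symm d4, Ne.symm e1, Ne.symm e2]
    have hu : F = Finset.univ := Finset.eq_univ_of_card F (by rw [hF, ← Nat.card_eq_fintype_card, hY4])
    have h := Finset.mem_univ (⟨q y, y, hy, rfl⟩ : Y)
    rw [← hu] at h
    simpa [F, Subtype.ext_iff] using h
  have hall' : ∀ y ∈ S.X, y ∈ N ∨ x⁻¹ * y ∈ N ∨ (φ x)⁻¹ * y ∈ N ∨ (x * φ x)⁻¹ * y ∈ N := by
    intro y hy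
    rcases hall y hy with h | h | h | h
    · exact Or.inl ((QuotientGroup.eq_one_iff y).1 h)
    · exact Or.inr (Or.inl ((hqe _ _).1 h.symm))
    · exact Or.inr (Or.inr (Or.inl ((hqe _ _).1 h.symm)))
    · exact Or.inr (Or.inr (Or.inr ((hqe _ _).1 ((map_mul q x (φ x)).trans h.symm))))
  refine ⟨⟨x, hx, hx1, φ, hφ, hall'⟩, fun c hc => ?_⟩
  have hφ2 : (φ (φ x))⁻¹ * (x * φ x) ∈ N := by
    rw [← hqe, map_mul]
    rcases hall _ (S.X_inv φ hφ _ hφX) with h | h | h | h
    · exact absurd ((QuotientGroup.eq_one_iff _).1 h) (hne _ (hne x hx1))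
    · exfalso
      obtain ⟨m, hm⟩ := odd_orderOf S hφ
      have h2 : ∀ i : ℕ, q ((φ ^ (2 * i)) x) = q x := fun i => by
        induction i with
        | zero => simp
        | succ i ih =>
          rw [show 2 * (i + 1) = 2 + 2 * i by ring, pow_add, pow_two, MulAut.mul_apply, MulAut.mul_apply,
            ← h]
          exact (hqe _ _).2 (by
            rw [← map_inv, ← map_mul, ← map_inv, ← map_mul]
            exact hNi φ hφ _ (hNi φ hφ _ ((hqe _ _).1 ih)))
      have h3 := DFunLike.congr_fun (pow_orderOf_eq_one φ) x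
      rw [hm, pow_succ', MulAut.mul_apply, MulAut.one_apply] at h3
      apply d3
      rw [← (hqe _ _).2 (show (φ ((φ ^ (2 * m)) x))⁻¹ * φ x ∈ N by
        rw [← map_inv, ← map_mul]; exact hNi φ hφ _ ((hqe _ _).1 (h2 m))), h3]
    · exact absurd h (fun h => hxφ (by
        have := hNi φ⁻¹ (inv_mem hφ) _ ((hqe _ _).1 h.symm)
        rwa [map_mul, map_inv, MulAut.inv_apply_self, MulAut.inv_apply_self] at this))
    · exact h
  have hxc : x⁻¹ * (c * x * c⁻¹) ∈ N := by
    have hcx : c * x * c⁻¹ ∈ S.X := S.X_normal.conj_mem x hx c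
    rcases hall' _ hcx with h | h | h | h
    · exact absurd (by simpa [mul_assoc] using hN.conj_mem _ h c⁻¹) hx1
    · exact h
    · exact absurd (conj_class S hN hNi hc hφ h).1 hxφ
    · exact (conj_class S hN hNi hc (ψ := φ * φ) (mul_mem hφ hφ) (by
        rw [MulAut.mul_apply]
        have := mul_mem hφ2 h
        rwa [mul_assoc, mul_inv_cancel_left] at this)).2
  have hmul : ∀ u v : T, u⁻¹ * (c * u * c⁻¹) ∈ N → v⁻¹ * (c * v * c⁻¹) ∈ N →
      (u * v)⁻¹ * (c * (u * v) * c⁻¹) ∈ N := fun u v hu hv => by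
    have := mul_mem (hN.conj_mem _ hu v⁻¹) hv
    simpa [mul_assoc] using this
  have hn : ∀ n ∈ N, n⁻¹ * (c * n * c⁻¹) ∈ N := fun n hn => mul_mem (inv_mem hn) (hN.conj_mem n hn c)
  have hφc : (φ x)⁻¹ * (c * φ x * c⁻¹) ∈ N := by
    have := hNi φ hφ _ hxc
    rwa [map_mul, map_mul, map_mul, map_inv, map_inv, hc φ hφ] at this
  intro y hy
  rcases hall' y hy with h | h | h | h
  · exact hn y h
  · rw [show y = x * (x⁻¹ * y) by simp]; exact hmul _ _ hxc (hn _ h)
  · rw [show y = φ x * ((φ x)⁻¹ * y) by simp]; exact hmul _ _ hφc (hn _ h)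
  · rw [show y = x * φ x * ((x * φ x)⁻¹ * y) by simp [mul_assoc]]; exact hmul _ _ (hmul _ _ hxc hφc) (hn _ h)

end Cfsg.Agent.NormalTwo
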