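/-
The centre of a class two moved part.
-/
import Mathlib
import Cfsg.Agent.Lib.NormalTwo.Fixed
import Cfsg.Agent.Lib.Solvable.Structure

set_option autoImplicit false
set_option linter.style.haveILetI false
set_option linter.unusedSectionVars false

namespace Cfsg.Agent.NormalTwo

open scoped commutatorElement

variable {T : Type*} [Group T] [Finite T] (S : Setup T) (Q : ScnThreeTwo.Two S.X)

/-- The centre of the moved part. -/
def Setup.Z : Subgroup T := (Subgroup.center S.X).map S.X.subtype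

theorem mem_Z {x : T} : x ∈ S.Z ↔ x ∈ S.X ∧ ∀ y ∈ S.X, x * y = y * x := by
  constructor
  · rintro ⟨x, hx, rfl⟩
    exact ⟨x.2, fun y hy => (congrArg Subtype.val (Subgroup.mem_center_iff.1 hx ⟨y, hy⟩)).symm⟩
  · rintro ⟨hx, h⟩
    exact ⟨⟨x, hx⟩, Subgroup.mem_center_iff.2 fun y => Subtype.ext (h y y.2).symm, rfl⟩

theorem Z_le : S.Z ≤ S.X := Subgroup.map_subtype_le _

theorem Z_normal : S.Z.Normal := by
  haveI := S.X_normal
  refine ⟨?_⟩
  rintro _ ⟨x, hx, rfl⟩ g
  exact ⟨MulAut.conjNormal g x, ScnThreeTwo.map_center _ hx, MulAut.conjNormal_apply g x⟩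

theorem Z_inv : Inv S.A S.Z := by
  rintro ψ hψ _ ⟨x, hx, rfl⟩
  exact ⟨S.res ψ hψ x, ScnThreeTwo.map_center _ hx, rfl⟩

theorem mem_Z_coe {x : S.X} : (x : T) ∈ S.Z ↔ x ∈ Subgroup.center S.X :=
  Subgroup.mem_map_iff_mem S.X.subtype_injective

theorem card_Z : Nat.card S.Z = Nat.card (Subgroup.center S.X) :=
  Subgroup.card_map_of_injective S.X.subtype_injective

theorem Z_comm : ∀ a ∈ S.Z, ∀ b ∈ S.Z, a * b = b * a :=
  fun _ ha b hb => ((mem_Z S).1 ha).2 b (Z_le S hb)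

include Q

theorem Z_sq {z : T} (hz : z ∈ S.Z) : z ^ 2 = 1 := by
  obtain ⟨x, hx, rfl⟩ := hz
  exact congrArg Subtype.val (Q.zsq x hx)

theorem sq_mem {x : T} (hx : x ∈ S.X) : x ^ 2 ∈ S.Z := (mem_Z_coe S (x := ⟨x, hx⟩ ^ 2)).2 (Q.sq _)

theorem comm_mem {x y : T} (hx : x ∈ S.X) (hy : y ∈ S.X) : ⁅x, y⁆ ∈ S.Z :=
  (mem_Z_coe S (x := ⁅⟨x, hx⟩, ⟨y, hy⟩⁆)).2 (Q.mem _ _)

theorem Z_elem : Cfsg.IsElementaryAbelian 2 S.Z :=
  ⟨.of_setLike_mul_comm (Z_comm S), fun _ hz => Z_sq S Q hz⟩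

theorem Z_card_le : Nat.card S.Z ≤ 4 := S.hN8 _ (Z_normal S) (Z_elem S Q)

theorem Z_ne_bot : S.Z ≠ ⊥ := by
  obtain ⟨a, b, hab⟩ := Q.ne
  exact fun h => hab (commutatorElement_eq_one_iff_mul_comm.1 (Subtype.ext
    (Subgroup.mem_bot.1 (h ▸ comm_mem S Q a.2 b.2))))

/-- The order of the centre is two or four. -/
theorem Z_cases : Nat.card S.Z = 2 ∨ Nat.card S.Z = 4 := by
  haveI : Fact (Nat.Prime 2) := ⟨Nat.prime_two⟩
  obtain ⟨l, hl⟩ := IsPGroup.iff_card.1 (S.hT.to_subgroup S.Z)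
  have h4 := Z_card_le S Q
  rw [hl] at h4
  have hl2 : l ≤ 2 := (Nat.pow_le_pow_iff_right (a := 2) (by norm_num)).1 (by simpa using h4)
  have hl0 : l ≠ 0 := fun h => Z_ne_bot S Q (Subgroup.card_eq_one.1 (by rw [hl, h, pow_zero]))
  interval_cases l
  · exact absurd rfl hl0
  · exact Or.inl hl
  · exact Or.inr hl

theorem fixed_mem {x : T} (hx : x ∈ S.X) (h : ∀ φ ∈ S.A, x⁻¹ * φ x ∈ S.Z) : x ∈ S.Z :=
  (mem_Z_coe S (x := ⟨x, hx⟩)).2 (fixed_class S Q fun φ hφ => (mem_Z_coe S).1 (h φ hφ))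

theorem inf_fixed {x : T} (hx : x ∈ S.X) (hc : x ∈ S.C) : x ∈ S.Z :=
  fixed_mem S Q hx fun φ hφ => by rw [hc φ hφ, inv_mul_cancel]; exact one_mem _

/-- Commutators with the centre are central. -/
theorem Z_comm_central {s : T} (hs : s ∈ S.Z) (t : T) : ⁅t, s⁆ ∈ Subgroup.center T := by
  classical
  haveI : Fact (Nat.Prime 2) := ⟨Nat.prime_two⟩
  haveI : Group.IsNilpotent T := S.hT.isNilpotent
  haveI := Z_normal S
  obtain ⟨z0, ⟨hz0, hz0c⟩, hz01⟩ := (Subgroup.bot_or_exists_ne_one _).resolve_left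
    (SolvStruct.inf_center_ne_bot (Z_ne_bot S Q))
  by_cases h1 : t * s * t⁻¹ = s
  · rw [commutatorElement_def, h1, mul_inv_cancel]; exact one_mem _
  have hconj : t * s * t⁻¹ ∈ S.Z := (Z_normal S).conj_mem s hs t
  have hs1 : s ≠ 1 := fun h => h1 (by rw [h]; simp)
  have hfix : t * z0 * t⁻¹ = z0 := by rw [Subgroup.mem_center_iff.1 hz0c t, mul_inv_cancel_right]
  have hs0 : s ≠ z0 := fun h => h1 (h ▸ hfix)
  have ht1 : t * s * t⁻¹ ≠ 1 := fun h => hs1 (conj_eq_one_iff.1 h)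
  have ht0 : t * s * t⁻¹ ≠ z0 := fun h => hs0 (mul_left_cancel (mul_right_cancel (h.trans hfix.symm)))
  have hsz : s * z0 ≠ 1 := fun h => hs0 (by
    have := inv_eq_of_mul_eq_one_right h
    rwa [inv_eq_of_mul_eq_one_right (by rw [← pow_two]; exact Z_sq S Q hs)] at this)
  let F : Finset T := {1, z0, s, s * z0}
  have hF : F.card = 4 := by
    simp [F, Finset.card_insert_of_notMem, Ne.symm hz01, Ne.symm hs1, Ne.symm hs0, Ne.symm hsz,
      Ne.symm (fun h => hs1 (mul_eq_right.1 h) : s * z0 ≠ z0), Ne.symm (fun h => hz01 (mul_eq_left.1 h) : s * z0 ≠ s)]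
  have hsub : (F : Set T) = S.Z := Set.eq_of_subset_of_ncard_le (by
    intro u hu
    simp only [F, Finset.coe_insert, Finset.coe_singleton, Set.mem_insert_iff, Set.mem_singleton_iff] at hu
    rcases hu with rfl | rfl | rfl | rfl
    exacts [one_mem S.Z, hz0, hs, mul_mem hs hz0]) (by
      rw [Set.ncard_coe_finset, hF, ← Nat.card_coe_set_eq]; exact Z_card_le S Q)
  have h : t * s * t⁻¹ ∈ (F : Set T) := by rw [hsub]; exact hconj
  simp only [F, Finset.coe_insert, Finset.coe_singleton, Set.mem_insert_iff, Set.mem_singleton_iff] at h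
  rcases h with h | h | h | h
  · exact absurd h ht1
  · exact absurd h ht0
  · exact absurd h h1
  · rw [commutatorElement_def, h, show s * z0 * s⁻¹ = z0 by
      rw [Z_comm S s hs z0 hz0, mul_inv_cancel_right]]
    exact hz0c

/-- The number of classes is at most sixteen. -/
theorem relIndex_le : S.Z.relIndex S.X ≤ 16 := by
  haveI hn : (S.Z.subgroupOf S.X).Normal := (Z_normal S).subgroupOf S.X
  have e : S.Z.subgroupOf S.X = Subgroup.center S.X := by
    ext x; exact mem_Z_coe S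
  have h := S.sectional S.X (S.Z.subgroupOf S.X) ⊤ (.of_setLike_mul_comm (fun a _ b _ => by
    induction a using QuotientGroup.induction_on with | _ a => ?_
    induction b using QuotientGroup.induction_on with | _ b => ?_
    refine commutatorElement_eq_one_iff_mul_comm.1 ?_
    rw [← QuotientGroup.mk'_apply, ← QuotientGroup.mk'_apply, ← map_commutatorElement, QuotientGroup.mk'_apply,
      QuotientGroup.eq_one_iff, e]
    exact Q.mem a b)) (fun a _ => by
    induction a using QuotientGroup.induction_on with | _ a => ?_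
    rw [← QuotientGroup.mk_pow, QuotientGroup.eq_one_iff, e]
    exact Q.sq a)
  rw [Subgroup.card_top] at h
  exact h

/-- The moved part modulo its centre has four or sixteen classes. -/
theorem relIndex_cases : S.Z.relIndex S.X = 4 ∨ S.Z.relIndex S.X = 16 := by
  classical
  haveI : Fact (Nat.Prime 2) := ⟨Nat.prime_two⟩
  have e : S.Z.subgroupOf S.X = Subgroup.center S.X := by
    ext x; exact mem_Z_coe S
  have hr : S.Z.relIndex S.X = Nat.card (S.X ⧸ Subgroup.center S.X) := by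
    rw [Subgroup.relIndex, e, Subgroup.index]
  obtain ⟨d, hd⟩ := IsPGroup.iff_card.1 ((S.hT.to_subgroup S.X).to_quotient (Subgroup.center S.X))
  have hle := relIndex_le S Q
  rw [hr, hd] at hle ⊢
  have hd4 : d ≤ 4 := (Nat.pow_le_pow_iff_right (a := 2) (by norm_num)).1 (by simpa using hle)
  obtain ⟨a, b, hab⟩ := Q.ne
  have ha : a ∉ Subgroup.center S.X := fun h => hab (Subgroup.mem_center_iff.1 h b).symm
  have hd2 : 2 ≤ d := by
    by_contra hlt
    haveI : IsCyclic (S.X ⧸ Subgroup.center S.X) := by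
      interval_cases d
      · haveI : Subsingleton (S.X ⧸ Subgroup.center S.X) := (Nat.card_eq_one_iff_unique.1 hd).1
        infer_instance
      · exact isCyclic_of_prime_card (p := 2) hd
    haveI := (QuotientGroup.mk' (Subgroup.center S.X)).isMulCommutative_of_isCyclic_of_ker_le_center
      (by rw [QuotientGroup.ker_mk'])
    exact hab (mul_comm' a b)
  interval_cases d
  · exact Or.inl rfl
  · exfalso
    have h8 : 8 ≤ Nat.card (S.X ⧸ Subgroup.center S.X) := by rw [hd]; norm_num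
    have hq : ∀ x : S.X, x ∉ Subgroup.center S.X → ∃ φ ∈ S.A, (x : T) ^ 2 = φ ((a : T) ^ 2) := by
      intro x hx
      obtain ⟨φ, hφ, h⟩ := transitive S Q (by rw [hd]; norm_num) ha hx
      refine ⟨φ, hφ, ?_⟩
      have h2 := congrArg Subtype.val (Q.sq_congr h)
      simp only [Subgroup.coe_pow, Setup.res_coe] at h2
      rw [h2, map_pow]
    by_cases hfix : ∀ φ ∈ S.A, φ ((a : T) ^ 2) = (a : T) ^ 2
    · refine Q.not_const (t := a ^ 2) h8 fun x hx => ?_
      obtain ⟨φ, hφ, h⟩ := hq x hx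
      exact Subtype.ext (by simpa using h.trans (hfix φ hφ))
    push Not at hfix
    obtain ⟨φ, hφ, hm⟩ := hfix
    set e₀ := (a : T) ^ 2 with he₀
    have heZ : e₀ ∈ S.Z := sq_mem S Q a.2
    obtain ⟨hff, h3, hc4, hall, he1, hef⟩ := three S (Z_elem S Q) (Z_card_le S Q) (Z_inv S) hφ heZ hm
    let F : T → Set T := fun t => {x | x ∈ S.X ∧ x ∉ S.Z ∧ x ^ 2 = t}
    have hinj : ∀ t, (F t).ncard ≤ (F (φ t)).ncard := fun t => by
      refine Set.ncard_le_ncard_of_injOn φ (fun x hx => ⟨S.X_inv φ hφ x hx.1, fun h => hx.2.1 ?_, ?_⟩)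
        (φ.injective.injOn)
      · simpa using Z_inv S φ⁻¹ (inv_mem hφ) _ h
      · rw [← map_pow, hx.2.2]
    have k1 := hinj e₀
    have k2 := hinj (φ e₀)
    have k3 := hinj (φ (φ e₀))
    rw [h3] at k3
    have hne : e₀ ≠ φ e₀ := Ne.symm hm
    have hne2 : φ e₀ ≠ φ (φ e₀) := fun h => hm (φ.injective h).symm
    have hne3 : e₀ ≠ φ (φ e₀) := fun h => hm (no_swap S hφ h.symm)
    have hU : (S.X : Set T) \ (S.Z : Set T) = F e₀ ∪ F (φ e₀) ∪ F (φ (φ e₀)) := by
      ext x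
      refine ⟨fun ⟨hx, hxZ⟩ => ?_, ?_⟩
      · obtain ⟨ψ, hψ, h⟩ := hq ⟨x, hx⟩ fun h' => hxZ ((mem_Z_coe S).2 h')
        simp only at h
        rcases hall _ (Z_inv S ψ hψ _ heZ) with g | g | g | g
        · exact absurd (ψ.map_eq_one_iff.1 g) he1
        · exact Or.inl (Or.inl ⟨hx, hxZ, h.trans g⟩)
        · exact Or.inl (Or.inr ⟨hx, hxZ, h.trans g⟩)
        · exact Or.inr ⟨hx, hxZ, h.trans (g.trans hff.symm)⟩
      · rintro ((h | h) | h) <;> exact ⟨h.1, h.2.1⟩
    have hdj : ∀ s t, s ≠ t → Disjoint (F s) (F t) := fun s t hst =>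
      Set.disjoint_left.2 fun v h h' => hst (h.2.2.symm.trans h'.2.2)
    have htot : ((S.X : Set T) \ (S.Z : Set T)).ncard + 4 = 32 := by
      have h1 := Set.ncard_sdiff_add_ncard_of_subset (s := (S.Z : Set T)) (t := (S.X : Set T)) (Z_le S)
      have h2 : (S.Z : Set T).ncard = 4 := hc4
      have h3' : (S.X : Set T).ncard = 32 := by
        show Nat.card S.X = 32
        rw [Subgroup.card_eq_card_quotient_mul_card_subgroup (Subgroup.center S.X), hd, ← card_Z, hc4]
        norm_num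
      omega
    rw [hU, Set.ncard_union_eq (Disjoint.union_left (hdj _ _ hne3) (hdj _ _ hne2)),
      Set.ncard_union_eq (hdj _ _ hne)] at htot
    omega
  · exact Or.inr rfl

theorem card_X : Nat.card S.X = S.Z.relIndex S.X * Nat.card S.Z := by
  rw [← (S.Z.subgroupOf S.X).index_mul_card, Subgroup.relIndex,
    Nat.card_congr (Subgroup.subgroupOfEquivOfLe (Z_le S)).toEquiv]

end Cfsg.Agent.NormalTwo
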