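/-
The case of four classes modulo the centre: the moved part is a quaternion group centralized by the fixed part.
-/
import Mathlib
import Cfsg.Agent.Lib.NormalTwo.Center

set_option autoImplicit false
set_option linter.style.haveILetI false
set_option linter.unusedSectionVars false

namespace Cfsg.Agent.NormalTwo

open scoped commutatorElement

variable {T : Type*} [Group T] [Finite T]

/-- The moved part is quaternion with centre `z` and centralized by the fixed part. -/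
structure QuatData (S : Setup T) (z : T) : Prop where
  zX : z ∈ S.X
  zC : z ∈ S.C
  zc : z ∈ Subgroup.center T
  z1 : z ≠ 1
  z2 : z ^ 2 = 1
  zmem : ∀ y ∈ S.X, (∀ x ∈ S.X, y * x = x * y) → y = 1 ∨ y = z
  cent : ∀ c ∈ S.C, ∀ x ∈ S.X, c * x = x * c
  sq : ∀ x ∈ S.X, x = 1 ∨ x = z ∨ x ^ 2 = z
  inf : ∀ x ∈ S.X, x ∈ S.C → x = 1 ∨ x = z
  card : Nat.card S.X = 8

variable (S : Setup T) (Q : ScnThreeTwo.Two S.X)

include Q

theorem quat_case (h4 : S.Z.relIndex S.X = 4) : ∃ z, QuatData S z := by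
  classical
  haveI := Z_normal S
  obtain ⟨⟨a, ha, haZ, φ, hφ, hall⟩, htriv⟩ :=
    four_quot S (Z_normal S) (Z_inv S) (fun x hx => sq_mem S Q hx) h4
  have hφa : φ a ∈ S.X := S.X_inv φ hφ a ha
  set z := ⁅a, φ a⁆ with hz
  -- every commutator is a power of z
  have hzZ : z ∈ S.Z := comm_mem S Q ha hφa
  let Z1 : Subgroup T := Subgroup.zpowers z
  have hcent : ∀ w ∈ S.Z, ∀ x ∈ S.X, ⁅w, x⁆ = 1 := fun w hw x hx =>
    commutatorElement_eq_one_iff_mul_comm.2 (((mem_Z S).1 hw).2 x hx)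
  have hba : ⁅φ a, a⁆ ∈ Z1 := by
    rw [← commutatorElement_inv, ← hz]; exact inv_mem (Subgroup.mem_zpowers z)
  let Xs : Subgroup S.X := (Subgroup.center S.X)
  have hdec : ∀ x : S.X, ∃ w : S.X, w ∈ Subgroup.center S.X ∧
      (x = w ∨ x = ⟨a, ha⟩ * w ∨ x = ⟨φ a, hφa⟩ * w ∨ x = ⟨a, ha⟩ * ⟨φ a, hφa⟩ * w) := by
    intro x
    rcases hall x x.2 with h | h | h | h
    · exact ⟨x, (mem_Z_coe S).1 h, Or.inl rfl⟩
    · exact ⟨⟨a, ha⟩⁻¹ * x, (mem_Z_coe S).1 h, Or.inr (Or.inl (by simp))⟩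
    · exact ⟨⟨φ a, hφa⟩⁻¹ * x, (mem_Z_coe S).1 h, Or.inr (Or.inr (Or.inl (by simp)))⟩
    · exact ⟨(⟨a, ha⟩ * ⟨φ a, hφa⟩)⁻¹ * x, (mem_Z_coe S).1 h, Or.inr (Or.inr (Or.inr (by simp)))⟩
  set z' : S.X := ⁅(⟨a, ha⟩ : S.X), (⟨φ a, hφa⟩ : S.X)⁆ with hz'
  have hzc : Subgroup.center S.X ≤ Subgroup.zpowers z' := by
    rw [← Q.comm, commutator_def, Subgroup.commutator_le]
    intro g _ h _
    obtain ⟨w, hw, hg⟩ := hdec g
    obtain ⟨w', hw', hh⟩ := hdec h
    have hcz : ∀ u : S.X, ∀ v ∈ Subgroup.center S.X, ⁅u, v⁆ = 1 := fun u v hv =>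
      commutatorElement_eq_one_iff_mul_comm.2 (Subgroup.mem_center_iff.1 hv u)
    obtain ⟨A, hA⟩ : ∃ A : S.X, A = ⟨a, ha⟩ := ⟨_, rfl⟩
    obtain ⟨B, hB⟩ : ∃ B : S.X, B = ⟨φ a, hφa⟩ := ⟨_, rfl⟩
    rw [← hA, ← hB] at hg hh
    have hz'' : z' = ⁅A, B⁆ := by rw [hz', hA, hB]
    rw [hz'']
    have hba' : ⁅B, A⁆ ∈ Subgroup.zpowers ⁅A, B⁆ := by
      rw [← commutatorElement_inv A B]; exact inv_mem (Subgroup.mem_zpowers _)
    rcases hg with rfl | rfl | rfl | rfl <;> rcases hh with rfl | rfl | rfl | rfl <;>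
      simp [Q.mul_left, Q.mul_right, Q.center_comm _ _ hw, hcz _ _ hw', hba', Subgroup.mem_zpowers, mul_mem]
  have hcard : Nat.card S.Z = 2 := by
    rcases Z_cases S Q with h | h
    · exact h
    · exfalso
      have := Subgroup.card_le_of_le hzc
      rw [← card_Z S, h, Nat.card_zpowers] at this
      have h2 : orderOf z' ∣ 2 := orderOf_dvd_of_pow_eq_one (Q.zsq _ (Q.mem _ _))
      have := Nat.le_of_dvd two_pos h2
      omega
  obtain ⟨u, v, huv, huniv⟩ := Nat.card_eq_two_iff.1 hcard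
  have hmem : ∀ w ∈ S.Z, w = 1 ∨ w = z := by
    intro w hw
    have hz1 : z ≠ 1 := by
      intro h
      have h1 : z' = 1 := Subtype.ext h
      have := Subgroup.card_le_of_le hzc
      rw [← card_Z S, hcard, h1, Subgroup.zpowers_one_eq_bot, Subgroup.card_bot] at this
      omega
    have hc : ∀ p : S.Z, p = u ∨ p = v := fun p => by
      have : p ∈ ({u, v} : Set S.Z) := huniv ▸ Set.mem_univ p
      simpa using this
    rcases hc ⟨w, hw⟩ with g | g <;> rcases hc ⟨z, hzZ⟩ with g' | g' <;> rcases hc 1 with g'' | g''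
    all_goals first
      | exact Or.inr (congrArg Subtype.val (g.trans g'.symm))
      | exact Or.inl (congrArg Subtype.val (g.trans g''.symm))
      | exact absurd (congrArg Subtype.val (g'.trans g''.symm)) hz1
  have hz1 : z ≠ 1 := fun h => by
    obtain ⟨w, hw, hw1⟩ := (Subgroup.bot_or_exists_ne_one _).resolve_left (Z_ne_bot S Q)
    rcases hmem w hw with g | g
    · exact hw1 g
    · exact hw1 (g.trans h)
  have hzfix : ∀ ψ ∈ S.A, ψ z = z := fun ψ hψ =>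
    (hmem _ (Z_inv S ψ hψ z hzZ)).resolve_left fun h => hz1 (ψ.map_eq_one_iff.1 h)
  have hzcen : z ∈ Subgroup.center T := Subgroup.mem_center_iff.2 fun g => by
    have h := (hmem _ ((Z_normal S).conj_mem z hzZ g)).resolve_left fun h => hz1 (conj_eq_one_iff.1 h)
    exact mul_inv_eq_iff_eq_mul.1 h
  -- the fixed part centralizes
  have hcentX : ∀ c ∈ S.C, ∀ x ∈ S.X, c * x = x * c := by
    intro c hc x hx
    let f : S.X →* T := MonoidHom.mk' (fun y => (y : T)⁻¹ * (c * y * c⁻¹)) (fun y y' => by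
      have h1 : ((y * y' : S.X) : T)⁻¹ * (c * ((y * y' : S.X) : T) * c⁻¹) =
          (y' : T)⁻¹ * ((y : T)⁻¹ * (c * y * c⁻¹)) * (y' : T) * ((y' : T)⁻¹ * (c * y' * c⁻¹)) := by simp [mul_assoc]
      rw [h1]
      congr 1
      rw [mul_assoc _ _ (y' : T), ((mem_Z S).1 (htriv c hc y y.2)).2 y' y'.2, inv_mul_cancel_left])
    have h := S.hom_kill f (fun ψ hψ y => by
      show (ψ (y : T))⁻¹ * (c * ψ y * c⁻¹) = (y : T)⁻¹ * (c * y * c⁻¹)
      conv_rhs => rw [← (show ψ ((y : T)⁻¹ * (c * y * c⁻¹)) = (y : T)⁻¹ * (c * y * c⁻¹) by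
        rcases hmem _ (htriv c hc y y.2) with g | g <;> rw [g]
        · exact map_one ψ
        · exact hzfix ψ hψ)]
      rw [map_mul, map_inv, map_mul, map_mul, map_inv, hc ψ hψ]) ⟨x, hx⟩
    exact mul_inv_eq_iff_eq_mul.1 (inv_mul_eq_one.1 h).symm
  -- squares
  have hout : ∀ x ∈ S.X, x ∉ S.Z → x ^ 2 = a ^ 2 := by
    intro x hx hxZ
    have hfix2 : ∀ ψ ∈ S.A, ψ (a ^ 2) = a ^ 2 := fun ψ hψ => by
      rcases hmem _ (sq_mem S Q ha) with g | g <;> rw [g]
      · exact map_one ψ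
      · exact hzfix ψ hψ
    have h8 : Nat.card (S.X ⧸ Subgroup.center S.X) ≤ 8 := by
      have e : S.Z.subgroupOf S.X = Subgroup.center S.X := by ext y; exact mem_Z_coe S
      rw [Subgroup.relIndex, e, Subgroup.index] at h4
      omega
    obtain ⟨ψ, hψ, h⟩ := transitive S Q h8 (x := ⟨a, ha⟩) (y := ⟨x, hx⟩) (fun h => haZ ((mem_Z_coe S).2 h))
      (fun h => hxZ ((mem_Z_coe S).2 h))
    have := congrArg Subtype.val (Q.sq_congr h)
    simp only [Subgroup.coe_pow, Setup.res_coe] at this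
    rw [this, ← map_pow, hfix2 ψ hψ]
  have ha2 : a ^ 2 = z := by
    refine (hmem _ (sq_mem S Q ha)).resolve_left fun h => ?_
    have all : ∀ x : S.X, x ^ 2 = 1 := fun x => by
      by_cases hx : x ∈ Subgroup.center S.X
      · exact Q.zsq x hx
      · exact Subtype.ext (by rw [Subgroup.coe_pow, hout x x.2 (fun g => hx ((mem_Z_coe S).1 g)), h]; rfl)
    have h' := Q.sq_mul ⟨φ a, hφa⟩ ⟨a, ha⟩
    rw [all, all, all, one_mul, one_mul] at h'
    exact hz1 (congrArg Subtype.val h'.symm)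
  refine ⟨z, Z_le S hzZ, hzfix, hzcen, hz1, Z_sq S Q hzZ, fun y hy h => hmem y ((mem_Z S).2 ⟨hy, h⟩), hcentX,
    fun x hx => ?_, fun x hx hc => hmem x (inf_fixed S Q hx hc), by rw [card_X S Q, h4, hcard]⟩
  by_cases hxZ : x ∈ S.Z
  · exact (hmem x hxZ).imp id Or.inl
  · exact Or.inr (Or.inr ((hout x hx hxZ).trans ha2))

end Cfsg.Agent.NormalTwo
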