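/-
The quaternion case contradicts simplicity.
-/
import Mathlib
import Cfsg.Agent.Lib.NormalTwo.Quat
import Cfsg.Agent.Lib.AlperinRankTwo.Simple
import Cfsg.Agent.Lib.Transfer.Fusion

set_option autoImplicit false
set_option linter.style.haveILetI false
set_option linter.unusedSectionVars false

namespace Cfsg.Agent.NormalTwo

open scoped commutatorElement

variable {G : Type*} [Group G] [Finite G]

/-- Central elements of the Sylow group fixed by its normalizer are not fused in the centre. -/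
theorem central_conj (P : Sylow 2 G) {v z : (P : Subgroup G)} (hv : v ∈ Subgroup.center (P : Subgroup G))
    (hz : z ∈ Subgroup.center (P : Subgroup G))
    (hzn : ∀ n ∈ Subgroup.normalizer ((P : Subgroup G) : Set G), n * (z : G) * n⁻¹ = z)
    {g : G} (hg : g * (v : G) * g⁻¹ = z) : v = z := by
  haveI : Fact (Nat.Prime 2) := ⟨Nat.prime_two⟩
  have hfix : ∀ w : (P : Subgroup G), w ∈ Subgroup.center (P : Subgroup G) → ∀ x ∈ P,
      (fun y => x * y * x⁻¹) '' {(w : G)} = {(w : G)} := fun w hw x hx => by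
    have h := congrArg Subtype.val (Subgroup.mem_center_iff.1 hw ⟨x, hx⟩)
    simp only [Subgroup.coe_mul] at h
    rw [Set.image_singleton, Set.singleton_eq_singleton_iff, h, mul_inv_cancel_right]
  obtain ⟨n, hn, he⟩ := Fusion.conj_normalizer_of_conj P {(v : G)} {(z : G)} (hfix v hv) (hfix z hz) g
    (by rw [Set.image_singleton, hg])
  rw [Set.image_singleton, Set.singleton_eq_singleton_iff] at he
  exact Subtype.ext (mul_left_cancel (mul_right_cancel (he.trans (hzn n hn).symm)))

/-- An element conjugate to `z` has its centralizer moved into the Sylow group. -/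
theorem exists_move (P : Sylow 2 G) {v z : (P : Subgroup G)} (hz : z ∈ Subgroup.center (P : Subgroup G))
    {g₀ : G} (hg : g₀ * (v : G) * g₀⁻¹ = z) :
    ∃ (g : G) (μ : Subgroup.centralizer ({v} : Set (P : Subgroup G)) →* (P : Subgroup G)),
      (∀ t, ((μ t : (P : Subgroup G)) : G) = g * ((t : (P : Subgroup G)) : G) * g⁻¹) ∧ g * (v : G) * g⁻¹ = z := by
  set U := Subgroup.centralizer ({v} : Set (P : Subgroup G))
  set UG := (U.map (P : Subgroup G).subtype).map (MulAut.conj g₀).toMonoidHom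
  obtain ⟨c, hc, hcT⟩ := AlperinRankTwo.conj_into_sylow (S := P) (C := Subgroup.centralizer ({(z : G)} : Set G))
    (Q := UG) (AlperinRankTwo.le_centralizer_of_center P hz) (by
      rintro _ ⟨_, ⟨t, ht, rfl⟩, rfl⟩
      refine Subgroup.mem_centralizer_singleton_iff.2 ?_
      show g₀ * (t : G) * g₀⁻¹ * z = z * (g₀ * t * g₀⁻¹)
      rw [← hg]
      have h := congrArg Subtype.val (Subgroup.mem_centralizer_singleton_iff.1 ht)
      simp only [Subgroup.coe_mul] at h
      calc g₀ * (t : G) * g₀⁻¹ * (g₀ * v * g₀⁻¹) = g₀ * ((t : G) * v) * g₀⁻¹ := by simp [mul_assoc]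
        _ = _ := by rw [h]; simp [mul_assoc]) (((P.2.to_subgroup U).map _).map _)
  have hmem : ∀ t : U, c * g₀ * ((t : (P : Subgroup G)) : G) * (c * g₀)⁻¹ ∈ P := fun t => by
    have := hcT _ ⟨_, ⟨t, t.2, rfl⟩, rfl⟩
    simpa [mul_assoc] using this
  refine ⟨c * g₀, MonoidHom.mk' (fun t => ⟨_, hmem t⟩) (fun s t => Subtype.ext (by simp [mul_assoc])),
    fun t => rfl, ?_⟩
  rw [show c * g₀ * (v : G) * (c * g₀)⁻¹ = c * (g₀ * v * g₀⁻¹) * c⁻¹ by simp [mul_assoc], hg,
    Subgroup.mem_centralizer_singleton_iff.1 hc, mul_inv_cancel_right]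

/-- A product of three commuting quaternion groups has too large a sectional rank. -/
theorem three_quat {T : Type*} [Group T] [Finite T] (hsec : Cfsg.SectionalPRankLE 2 4 T) {X : Subgroup T}
    (hX8 : Nat.card X = 8) (hXsq : ∀ x : X, x ^ 2 ∈ Subgroup.center X) (hXc : Nat.card (Subgroup.center X) ≤ 2)
    (f g : X →* T) (hf : Function.Injective f) (hg : Function.Injective g)
    (h1 : ∀ x y : X, (x : T) * f y = f y * x) (h2 : ∀ x y : X, (x : T) * g y = g y * x)
    (h3 : ∀ x y : X, f x * g y = g y * f x) : False := by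
  classical
  let μ₀ : X × X →* T := MonoidHom.noncommCoprod f g fun x y => h3 x y
  let μ : X × (X × X) →* T := MonoidHom.noncommCoprod X.subtype μ₀ fun x p => by
    show Commute (x : T) (f p.1 * g p.2)
    exact (show Commute (x : T) (f p.1) from h1 x p.1).mul_right (h2 x p.2)
  have hμ : ∀ x y w : X, μ (x, (y, w)) = (x : T) * (f y * g w) := fun x y w => rfl
  set N₀ := (Subgroup.center X).prod ((Subgroup.center X).prod (Subgroup.center X)) with hN₀
  have hker : μ.ker ≤ N₀ := by
    rintro ⟨x, y, w⟩ h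
    rw [MonoidHom.mem_ker, hμ] at h
    refine Subgroup.mem_prod.2 ⟨?_, Subgroup.mem_prod.2 ⟨?_, ?_⟩⟩
    · refine Subgroup.mem_center_iff.2 fun u => Subtype.ext ?_
      have hc : Commute (u : T) (f y * g w) := (show Commute (u : T) (f y) from h1 u y).mul_right (h2 u w)
      rw [Subgroup.coe_mul, Subgroup.coe_mul]
      have e : (x : T) = (f y * g w)⁻¹ := eq_inv_of_mul_eq_one_left h
      rw [e]; exact hc.inv_right
    · refine Subgroup.mem_center_iff.2 fun u => hf ?_
      have hc : Commute (f u) ((x : T)⁻¹ * (g w)⁻¹) :=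
        (show Commute (f u) (x : T) from (h1 x u).symm).inv_right.mul_right (show Commute (f u) (g w) from h3 u w).inv_right
      have e : f y = (x : T)⁻¹ * (g w)⁻¹ := by
        rw [eq_mul_inv_iff_mul_eq, eq_inv_iff_mul_eq_one]
        rw [← (show Commute (x : T) (f y * g w) from (show Commute (x : T) (f y) from h1 x y).mul_right (h2 x w)).eq]
        exact h
      rw [map_mul, map_mul, e]; exact hc
    · refine Subgroup.mem_center_iff.2 fun u => hg ?_
      have hc : Commute (g u) ((f y)⁻¹ * (x : T)⁻¹) :=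
        (show Commute (g u) (f y) from (h3 y u).symm).inv_right.mul_right (show Commute (g u) (x : T) from (h2 x u).symm).inv_right
      have e : g w = (f y)⁻¹ * (x : T)⁻¹ := by
        rw [← mul_inv_rev, eq_inv_iff_mul_eq_one]
        have hc' : Commute (g w) ((x : T) * f y) :=
          (show Commute (g w) (x : T) from (h2 x w).symm).mul_right (show Commute (g w) (f y) from (h3 y w).symm)
        rw [hc'.eq, mul_assoc]
        exact h
      rw [map_mul, map_mul, e]; exact hc
  haveI : N₀.Normal := inferInstance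
  haveI : (N₀.map μ.rangeRestrict).Normal := Subgroup.Normal.map inferInstance _ μ.rangeRestrict_surjective
  have hsq : ∀ v : μ.range ⧸ N₀.map μ.rangeRestrict, v ^ 2 = 1 := by
    intro v
    induction v using QuotientGroup.induction_on with | _ v => ?_
    obtain ⟨⟨x, y, w⟩, rfl⟩ := μ.rangeRestrict_surjective v
    rw [← QuotientGroup.mk_pow, QuotientGroup.eq_one_iff, ← map_pow]
    exact Subgroup.mem_map_of_mem _ (Subgroup.mem_prod.2 ⟨hXsq x, Subgroup.mem_prod.2 ⟨hXsq y, hXsq w⟩⟩)
  have hinv : ∀ v : μ.range ⧸ N₀.map μ.rangeRestrict, v⁻¹ = v := fun v =>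
    inv_eq_of_mul_eq_one_right (by rw [← pow_two]; exact hsq v)
  have h := hsec μ.range (N₀.map μ.rangeRestrict) ⊤ (.of_setLike_mul_comm fun a _ b _ => by
    calc a * b = (a * b)⁻¹ := (hinv _).symm
      _ = b * a := by rw [mul_inv_rev, hinv, hinv]) (fun v _ => hsq v)
  have hi : (N₀.map μ.rangeRestrict).index = N₀.index :=
    Subgroup.index_map_eq _ μ.rangeRestrict_surjective (by rwa [μ.ker_rangeRestrict])
  rw [Subgroup.card_top, ← Subgroup.index, hi, hN₀, Subgroup.index_prod, Subgroup.index_prod] at h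
  have h4 : 4 ≤ (Subgroup.center X).index := by
    have := (Subgroup.center X).index_mul_card
    rw [hX8] at this
    nlinarith
  have h5 : 4 * (4 * 4) ≤ (Subgroup.center X).index * ((Subgroup.center X).index * (Subgroup.center X).index) :=
    Nat.mul_le_mul h4 (Nat.mul_le_mul h4 h4)
  omega

variable [IsSimpleGroup G]

/-- The quaternion case does not occur. -/
theorem quat_false (hG : ¬ IsMulCommutative G) (P : Sylow 2 G) (S : Setup (P : Subgroup G))
    {z : (P : Subgroup G)} (D : QuatData S z)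
    (hNfix : ∀ y : (P : Subgroup G), y ∈ S.C → y ∈ Subgroup.center (P : Subgroup G) →
      ∀ n ∈ Subgroup.normalizer ((P : Subgroup G) : Set G), n * (y : G) * n⁻¹ = y) : False := by
  classical
  haveI : Fact (Nat.Prime 2) := ⟨Nat.prime_two⟩
  haveI := S.X_normal
  have hzn := hNfix z D.zC D.zc
  obtain ⟨x₀, hx₀, hx₀z⟩ : ∃ x ∈ S.X, x ^ 2 = z := by
    by_contra h
    push Not at h
    have hsub : (S.X : Set (P : Subgroup G)) ⊆ ↑({1, z} : Finset (P : Subgroup G)) := fun x hx => by
      rcases D.sq x hx with g | g | g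
      · simp [g]
      · simp [g]
      · exact absurd g (h x hx)
    have h2 : (S.X : Set (P : Subgroup G)).ncard ≤ 2 := (Set.ncard_le_ncard hsub (Finset.finite_toSet _)).trans (by
      rw [Set.ncard_coe_finset]; exact Finset.card_le_two)
    rw [← Nat.card_coe_set_eq, SetLike.coe_sort_coe, D.card] at h2
    omega
  have hsqC : ∀ t : (P : Subgroup G), t ^ 2 ∈ S.C := by
    intro t
    obtain ⟨c, hc, x, hx, rfl⟩ := S.exists_dec t
    rw [(show Commute x c from (D.cent c hc x hx).symm).mul_pow]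
    refine mul_mem ?_ (pow_mem hc 2)
    rcases D.sq x hx with g | g | g
    · rw [g, one_pow]; exact one_mem _
    · rw [g, D.z2]; exact one_mem _
    · rw [g]; exact D.zC
  have claimA : ∀ v ∈ S.C, v ≠ z → ∀ g : G, g * (v : G) * g⁻¹ ≠ z := by
    by_contra hcon
    push Not at hcon
    obtain ⟨v₀, hv₀, hv₀z, g₀, hg₀⟩ := hcon
    obtain ⟨v, ⟨hv, hvz, g', hg'⟩, hmax⟩ := Set.exists_max_image
      {v : (P : Subgroup G) | v ∈ S.C ∧ v ≠ z ∧ ∃ g : G, g * (v : G) * g⁻¹ = z}
      (fun v => Nat.card (Subgroup.centralizer ({v} : Set (P : Subgroup G)))) (Set.toFinite _)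
      ⟨v₀, hv₀, hv₀z, g₀, hg₀⟩
    obtain ⟨g, μ, hμ, hgv⟩ := exists_move P D.zc hg'
    have hXU : S.X ≤ (Subgroup.centralizer ({v} : Set (P : Subgroup G))) := fun x hx => Subgroup.mem_centralizer_singleton_iff.2 (D.cent v hv x hx).symm
    have hμi : Function.Injective μ := fun s t h => Subtype.ext (Subtype.ext (mul_left_cancel (mul_right_cancel
      (((hμ s).symm.trans (congrArg Subtype.val h)).trans (hμ t)))))
    let f : S.X →* (P : Subgroup G) := μ.comp (Subgroup.inclusion hXU)
    have hfi : Function.Injective f := hμi.comp (Subgroup.inclusion_injective hXU)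
    set v' := f ⟨z, D.zX⟩ with hv'
    have hv'C : v' ∈ S.C := by
      have e : (⟨z, D.zX⟩ : S.X) = ⟨x₀, hx₀⟩ ^ 2 := Subtype.ext hx₀z.symm
      rw [hv', e, map_pow]
      exact hsqC _
    have hv'z : v' ≠ z := fun h => hvz (by
      have h1 : g * (z : G) * g⁻¹ = g * (v : G) * g⁻¹ := by
        rw [hgv]; exact ((hμ _).symm).trans (congrArg Subtype.val h)
      exact (Subtype.ext (mul_left_cancel (mul_right_cancel h1))).symm)
    have hv'g : g⁻¹ * (v' : G) * g⁻¹⁻¹ = z := by
      show g⁻¹ * ((μ _ : (P : Subgroup G)) : G) * _ = _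
      rw [hμ]; simp [mul_assoc]
    set U' := Subgroup.centralizer ({v'} : Set (P : Subgroup G))
    have hrange : μ.range ≤ U' := by
      rintro _ ⟨t, rfl⟩
      refine Subgroup.mem_centralizer_singleton_iff.2 ?_
      show μ t * μ _ = μ _ * μ t
      rw [← map_mul, ← map_mul]
      congr 1
      exact Subtype.ext (Subgroup.mem_center_iff.1 D.zc t)
    have hcardr : Nat.card μ.range = Nat.card (Subgroup.centralizer ({v} : Set (P : Subgroup G))) := Nat.card_congr (MonoidHom.ofInjective hμi).symm.toEquiv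
    have hU' : μ.range = U' := Subgroup.eq_of_le_of_card_ge hrange (by
      rw [hcardr]; exact hmax v' ⟨hv'C, hv'z, g⁻¹, hv'g⟩)
    set R := f.range
    have hRU : R ≤ U' := by
      rintro _ ⟨x, rfl⟩
      exact hrange ⟨_, rfl⟩
    have hRn : ∀ r ∈ R, ∀ p ∈ U', p * r * p⁻¹ ∈ R := by
      rintro _ ⟨x, rfl⟩ p hp
      rw [← hU'] at hp
      obtain ⟨t, rfl⟩ := hp
      refine ⟨⟨(t : (P : Subgroup G)) * x * (t : (P : Subgroup G))⁻¹, S.X_normal.conj_mem x x.2 t⟩, ?_⟩
      show μ _ = μ t * μ _ * (μ t)⁻¹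
      rw [← map_inv, ← map_mul, ← map_mul]
      rfl
    have hXU' : S.X ≤ U' := fun x hx => Subgroup.mem_centralizer_singleton_iff.2 (D.cent v' hv'C x hx).symm
    have hv'1 : v' ≠ 1 := fun h => D.z1 (congrArg Subtype.val (hfi (h.trans (map_one f).symm)))
    have hRel : ∀ r ∈ R, r = 1 ∨ r = v' ∨ r ^ 2 = v' := by
      rintro _ ⟨x, rfl⟩
      rcases D.sq x x.2 with h | h | h
      · left; rw [show x = 1 from Subtype.ext h, map_one]
      · right; left; rw [hv']; congr 1; exact Subtype.ext h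
      · right; right; rw [hv', ← map_pow]; congr 1; exact Subtype.ext h
    have hv'X : v' ∉ S.X := fun h => (D.inf v' h hv'C).elim hv'1 hv'z
    have hRX : ∀ r ∈ R, r ∈ S.X → r = 1 := by
      intro r hr hrX
      rcases hRel r hr with h | h | h
      · exact h
      · exact absurd (h ▸ hrX) hv'X
      · exact absurd (h ▸ pow_mem hrX 2) hv'X
    have hcomm : ∀ r ∈ R, ∀ x ∈ S.X, r * x = x * r := by
      intro r hr x hx
      refine commutatorElement_eq_one_iff_mul_comm.1 (hRX _ ?_ ?_)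
      · rw [show ⁅r, x⁆ = r * (x * r⁻¹ * x⁻¹) by simp [commutatorElement_def, mul_assoc]]
        exact mul_mem hr (hRn _ (inv_mem hr) x (hXU' hx))
      · exact mul_mem (S.X_normal.conj_mem x hx r) (inv_mem hx)
    have hinC : ∀ r : (P : Subgroup G), (∀ x ∈ S.X, r * x = x * r) → r ∈ S.C := by
      intro r hr
      obtain ⟨c, hc, x, hx, rfl⟩ := S.exists_dec r
      refine mul_mem ?_ hc
      rcases D.zmem x hx (fun y hy => by
        have h := hr y hy
        rw [mul_assoc, D.cent c hc y hy, ← mul_assoc, ← mul_assoc] at h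
        exact mul_right_cancel h) with g | g <;> rw [g]
      · exact one_mem _
      · exact D.zC
    -- a further conjugate
    have hU'top : U' ≠ ⊤ := fun h => hv'z (central_conj P
      (Subgroup.mem_center_iff.2 fun t => Subgroup.mem_centralizer_singleton_iff.1 (show t ∈ U' by rw [h]; trivial)) D.zc hzn hv'g)
    haveI : Group.IsNilpotent (P : Subgroup G) := S.hT.isNilpotent
    obtain ⟨x₁, hx₁, hx₁U⟩ := SetLike.exists_of_lt
      (Group.normalizerCondition_of_isNilpotent U' (lt_top_iff_ne_top.2 hU'top))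
    set v₁ := x₁ * v' * x₁⁻¹
    have hv₁ : v₁ ≠ v' := fun h => hx₁U (Subgroup.mem_centralizer_singleton_iff.2 (mul_inv_eq_iff_eq_mul.1 h))
    let f₁ : S.X →* (P : Subgroup G) := (MulAut.conj x₁).toMonoidHom.comp f
    have hf₁ : ∀ y, f₁ y = x₁ * f y * x₁⁻¹ := fun y => rfl
    have hfi₁ : Function.Injective f₁ := (MulAut.conj x₁).injective.comp hfi
    have hcomm₁ : ∀ y : S.X, ∀ x ∈ S.X, f₁ y * x = x * f₁ y := by
      intro y x hx
      have h := hcomm (f y) ⟨y, rfl⟩ (x₁⁻¹ * x * x₁) (by simpa using S.X_normal.conj_mem x hx x₁⁻¹)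
      rw [hf₁]
      calc x₁ * f y * x₁⁻¹ * x = x₁ * (f y * (x₁⁻¹ * x * x₁)) * x₁⁻¹ := by simp [mul_assoc]
        _ = x * (x₁ * f y * x₁⁻¹) := by rw [h]; simp [mul_assoc]
    have hR₁U : ∀ y, f₁ y ∈ U' := fun y => (Subgroup.mem_normalizer_iff.1 hx₁ _).1 (hRU ⟨y, rfl⟩)
    have hR₁n : ∀ y, ∀ p ∈ U', ∃ y', f₁ y' = p * f₁ y * p⁻¹ := by
      intro y p hp
      have hp' : x₁⁻¹ * p * x₁ ∈ U' := by
        have := (Subgroup.mem_normalizer_iff.1 (inv_mem hx₁) p).1 hp
        rwa [inv_inv] at this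
      obtain ⟨y', hy'⟩ := hRn (f y) ⟨y, rfl⟩ _ hp'
      exact ⟨y', by rw [hf₁, hf₁, hy']; simp [mul_assoc]⟩
    have h12 : ∀ y w : S.X, f y * f₁ w = f₁ w * f y := by
      intro y w
      refine commutatorElement_eq_one_iff_mul_comm.1 ?_
      have hin : ⁅f y, f₁ w⁆ ∈ R := by
        rw [show ⁅f y, f₁ w⁆ = f y * (f₁ w * (f y)⁻¹ * (f₁ w)⁻¹) by simp [commutatorElement_def, mul_assoc]]
        exact mul_mem ⟨y, rfl⟩ (hRn _ (inv_mem ⟨y, rfl⟩) _ (hR₁U w))
      have hin₁ : ∃ w', f₁ w' = ⁅f y, f₁ w⁆ := by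
        obtain ⟨w', hw'⟩ := hR₁n w (f y) (hRU ⟨y, rfl⟩)
        exact ⟨w' * w⁻¹, by rw [map_mul, map_inv, hw']; rfl⟩
      obtain ⟨w', hw'⟩ := hin₁
      by_contra hne
      have h1 : w' ≠ 1 := fun h => hne (by rw [← hw', h, map_one])
      have hv12 : f₁ ⟨z, D.zX⟩ = v₁ := rfl
      have hval : v₁ ^ 2 = 1 ∧ v' ^ 2 = 1 := by
        constructor
        · rw [← hv12, ← map_pow, show (⟨z, D.zX⟩ : S.X) ^ 2 = 1 from Subtype.ext D.z2, map_one]
        · rw [hv', ← map_pow, show (⟨z, D.zX⟩ : S.X) ^ 2 = 1 from Subtype.ext D.z2, map_one]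
      rcases D.sq w' w'.2 with g | g | g
      · exact h1 (Subtype.ext g)
      · rw [show w' = ⟨z, D.zX⟩ from Subtype.ext g, hv12] at hw'
        rw [← hw'] at hin hne
        rcases hRel _ hin with g' | g' | g'
        · exact hne g'
        · exact hv₁ g'
        · rw [hval.1] at g'; exact hv'1 g'.symm
      · have hsqw : ⁅f y, f₁ w⁆ ^ 2 = v₁ := by
          rw [← hw', ← map_pow, show w' ^ 2 = ⟨z, D.zX⟩ from Subtype.ext g, hv12]
        rcases hRel _ hin with g' | g' | g'
        · exact hne g'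
        · rw [g', hval.2] at hsqw
          exact absurd hsqw.symm (fun h => hv'1 (conj_eq_one_iff.1 h))
        · exact hv₁ (hsqw.symm.trans g')
    refine three_quat S.sectional D.card ?_ ?_ f f₁ hfi hfi₁ (fun x y => (hcomm (f y) ⟨y, rfl⟩ x x.2).symm)
      (fun x y => (hcomm₁ y x x.2).symm) h12
    · intro x
      refine Subgroup.mem_center_iff.2 fun y => Subtype.ext ?_
      rw [Subgroup.coe_mul, Subgroup.coe_mul, Subgroup.coe_pow]
      rcases D.sq x x.2 with g | g | g
      · rw [g]; simp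
      · rw [g, D.z2]; simp
      · rw [g]; exact Subgroup.mem_center_iff.1 D.zc _
    · have hsub : ((Subgroup.center S.X) : Set S.X) ⊆ ↑({1, ⟨z, D.zX⟩} : Finset S.X) := fun x hx => by
        rcases D.zmem x x.2 (fun y hy => (congrArg Subtype.val (Subgroup.mem_center_iff.1 hx ⟨y, hy⟩)).symm) with g | g
        · simp [show x = 1 from Subtype.ext g]
        · simp [show x = ⟨z, D.zX⟩ from Subtype.ext g]
      exact (Set.ncard_le_ncard hsub (Finset.finite_toSet _)).trans (by rw [Set.ncard_coe_finset]; exact Finset.card_le_two)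
  -- z is weakly closed
  have hzord : orderOf (z : G) = 2 := by
    rw [Subgroup.orderOf_coe]; exact orderOf_eq_prime D.z2 D.z1
  refine AlperinRankTwo.not_weakly_closed hG P hzord z.2 fun g₀ hg₀ => by_contra fun hne => ?_
  set w : (P : Subgroup G) := ⟨g₀ * (z : G) * g₀⁻¹, hg₀⟩ with hw
  have hwz : w ≠ z := fun h => hne (congrArg Subtype.val h)
  have hwg : g₀⁻¹ * (w : G) * g₀⁻¹⁻¹ = z := by simp [hw, mul_assoc]
  obtain ⟨c, hc, x, hx, hwxc⟩ := S.exists_dec w
  by_cases hxC : x ∈ S.C
  · exact claimA w (hwxc ▸ mul_mem hxC hc) hwz _ hwg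
  have hxsq : x ^ 2 = z := by
    rcases D.sq x hx with g | g | g
    · exact absurd (g ▸ one_mem _) hxC
    · exact absurd (g ▸ D.zC) hxC
    · exact g
  have hxw : x ∈ Subgroup.centralizer ({w} : Set (P : Subgroup G)) := by
    refine Subgroup.mem_centralizer_singleton_iff.2 ?_
    rw [hwxc, mul_assoc x c x, D.cent c hc x hx]
  obtain ⟨g, μ, hμ, hgw⟩ := exists_move P D.zc hwg
  have hzU : z ∈ Subgroup.centralizer ({w} : Set (P : Subgroup G)) :=
    Subgroup.mem_centralizer_singleton_iff.2 (Subgroup.mem_center_iff.1 D.zc w).symm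
  set v := μ ⟨z, hzU⟩ with hv
  have hvC : v ∈ S.C := by
    have e : (⟨z, hzU⟩ : Subgroup.centralizer ({w} : Set (P : Subgroup G))) = ⟨x, hxw⟩ ^ 2 := Subtype.ext hxsq.symm
    rw [hv, e, map_pow]
    exact hsqC _
  have hvz : v ≠ z := fun h => hwz (by
    have h1 : g * (z : G) * g⁻¹ = g * (w : G) * g⁻¹ := by
      rw [hgw]; exact ((hμ _).symm).trans (congrArg Subtype.val h)
    exact (Subtype.ext (mul_left_cancel (mul_right_cancel h1))).symm)
  refine claimA v hvC hvz g⁻¹ ?_
  rw [hv, hμ]; simp [mul_assoc]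

end Cfsg.Agent.NormalTwo
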