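/-
The extraspecial case of order thirty-two contradicts simplicity.
-/
import Mathlib
import Cfsg.Agent.Lib.NormalTwo.Weakly
import Cfsg.Agent.Lib.NormalTwo.Center

set_option autoImplicit false
set_option linter.style.haveILetI false
set_option linter.unusedSectionVars false

namespace Cfsg.Agent.NormalTwo

open scoped commutatorElement

variable {G : Type*} [Group G] [Finite G] [IsSimpleGroup G]

/-- An extraspecial Sylow group without normal `E₈` of order thirty-two does not occur. -/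
theorem extraspecial_false (hG : ¬ IsMulCommutative G) (P : Sylow 2 G) (S : Setup (P : Subgroup G))
    (Q : ScnThreeTwo.Two S.X) (h16 : S.Z.relIndex S.X = 16) (hZ : Nat.card S.Z = 2)
    (hP : Nat.card (P : Subgroup G) = 32) : False := by
  classical
  haveI : Fact (Nat.Prime 2) := ⟨Nat.prime_two⟩
  have hXtop : S.X = ⊤ := Subgroup.eq_top_of_card_eq _ (by rw [card_X S Q, h16, hZ, hP])
  have hX : ∀ t, t ∈ S.X := fun t => hXtop ▸ Subgroup.mem_top t
  obtain ⟨z, hz, hz1⟩ := (Subgroup.bot_or_exists_ne_one _).resolve_left (Z_ne_bot S Q)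
  have hzc : z ∈ Subgroup.center (P : Subgroup G) :=
    Subgroup.mem_center_iff.2 fun t => (((mem_Z S).1 hz).2 t (hX t)).symm
  have hmem : ∀ w ∈ S.Z, w = 1 ∨ w = z := by
    intro w hw
    by_contra h
    push Not at h
    let F : Finset (P : Subgroup G) := {1, z, w}
    have hF : F.card = 3 := by simp [F, Ne.symm hz1, Ne.symm h.1, Ne.symm h.2]
    have hsub : (F : Set (P : Subgroup G)) ⊆ S.Z := fun u hu => by
      simp only [F, Finset.coe_insert, Finset.coe_singleton, Set.mem_insert_iff, Set.mem_singleton_iff] at hu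
      rcases hu with rfl | rfl | rfl
      exacts [one_mem S.Z, hz, hw]
    have h3 := Set.ncard_le_ncard hsub (Set.toFinite _)
    rw [Set.ncard_coe_finset, hF, ← Nat.card_coe_set_eq, SetLike.coe_sort_coe, hZ] at h3
    omega
  have hzord : orderOf (z : G) = 2 := by
    rw [Subgroup.orderOf_coe]; exact orderOf_eq_prime (Z_sq S Q hz) hz1
  refine AlperinRankTwo.not_weakly_closed hG P hzord z.2 fun g₀ hg₀ => by_contra fun hne => ?_
  set w : (P : Subgroup G) := ⟨g₀ * (z : G) * g₀⁻¹, hg₀⟩ with hw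
  have hwz : w ≠ z := fun h => hne (congrArg Subtype.val h)
  have hwg : g₀⁻¹ * (w : G) * g₀⁻¹⁻¹ = z := by simp [hw, mul_assoc]
  have hwc : ∀ t, ⁅t, w⁆ ∈ S.Z := fun t => comm_mem S Q (hX t) (hX w)
  -- the centralizer
  set U := Subgroup.centralizer ({w} : Set (P : Subgroup G)) with hU
  let f : (P : Subgroup G) →* (P : Subgroup G) :=
    MonoidHom.mk' (fun t => ⁅t, w⁆) (fun a b => by
      have hc : a * ⁅b, w⁆ * a⁻¹ = ⁅b, w⁆ := by
        rw [(((mem_Z S).1 (hwc b)).2 a (hX a)).symm, mul_inv_cancel_right]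
      rw [show ⁅a * b, w⁆ = a * ⁅b, w⁆ * a⁻¹ * ⁅a, w⁆ by simp [commutatorElement_def, mul_assoc], hc]
      exact ((mem_Z S).1 (hwc b)).2 _ (hX _))
  have hker : f.ker = U := by
    ext t
    rw [MonoidHom.mem_ker, hU, Subgroup.mem_centralizer_singleton_iff]
    exact commutatorElement_eq_one_iff_mul_comm
  have hrange : Nat.card f.range ≤ 2 :=
    (Subgroup.card_le_of_le (show f.range ≤ S.Z by rintro _ ⟨t, rfl⟩; exact hwc t)).trans_eq hZ
  have hU16 : 16 ≤ Nat.card U := by
    have h1 := f.ker.index_mul_card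
    rw [Subgroup.index_ker, hker, hP] at h1
    nlinarith
  have hUn : U.Normal := ⟨fun t ht g => by
    rw [show g * t * g⁻¹ = ⁅g, t⁆ * t by simp [commutatorElement_def]]
    refine mul_mem (Subgroup.mem_centralizer_singleton_iff.2 ?_) ht
    exact ((mem_Z S).1 (comm_mem S Q (hX g) (hX t))).2 w (hX w)⟩
  obtain ⟨x, hx, hx2⟩ : ∃ x ∈ U, x ^ 2 ≠ 1 := by
    by_contra h
    push Not at h
    have hinv : ∀ a ∈ U, a⁻¹ = a := fun a ha => inv_eq_of_mul_eq_one_right (by rw [← pow_two]; exact h a ha)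
    have := S.hN8 U hUn ⟨.of_setLike_mul_comm (fun a ha b hb => by
      calc a * b = (a * b)⁻¹ := (hinv _ (mul_mem ha hb)).symm
        _ = b * a := by rw [mul_inv_rev, hinv a ha, hinv b hb]), h⟩
    omega
  have hxz : x ^ 2 = z := (hmem _ (sq_mem S Q (hX x))).resolve_left hx2
  obtain ⟨g, μ, hμ, hgw⟩ := exists_move P hzc hwg
  have hzU : z ∈ U := Subgroup.mem_centralizer_singleton_iff.2 (Subgroup.mem_center_iff.1 hzc w).symm
  have hv : μ ⟨z, hzU⟩ ∈ S.Z := by
    have e : (⟨z, hzU⟩ : U) = ⟨x, hx⟩ ^ 2 := Subtype.ext hxz.symm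
    rw [e, map_pow]
    exact sq_mem S Q (hX _)
  rcases hmem _ hv with h | h
  · have h1 : g * (z : G) * g⁻¹ = 1 := (hμ ⟨z, hzU⟩).symm.trans (congrArg Subtype.val h)
    exact hz1 (Subtype.ext (conj_eq_one_iff.1 h1))
  · refine hwz (Subtype.ext (mul_left_cancel (a := g) (mul_right_cancel (b := g⁻¹) ?_))).symm
    exact ((hμ ⟨z, hzU⟩).symm.trans (congrArg Subtype.val h)).trans hgw.symm

end Cfsg.Agent.NormalTwo
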