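/-
A homocyclic group of rank two extended by an inverting fixed element.
-/
import Mathlib
import Cfsg.Agent.Lib.NormalTwo.CaseOne

set_option autoImplicit false
set_option linter.style.haveILetI false
set_option linter.unusedSectionVars false

namespace Cfsg.Agent.NormalTwo

open scoped commutatorElement
open Matrix
open ScnThreeTwo (wmat red exists_two_mul smul_eq_zero_root red_of_smul_eq_zero two_pow_smul Red vec_root
  exists_inverse)

variable {T : Type*} [Group T] [Finite T] {S : Setup T} (M : Moved S)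

/-- The elements of exponent four in `D`. -/
def Moved.D4 : Subgroup T where
  carrier := {d | d ∈ M.D ∧ d ^ 4 = 1}
  one_mem' := ⟨one_mem _, one_pow _⟩
  mul_mem' := fun {a b} ha hb => ⟨mul_mem ha.1 hb.1, by
    rw [(show Commute a b from M.comm a ha.1 b hb.1).mul_pow, ha.2, hb.2, one_mul]⟩
  inv_mem' := fun {a} ha => ⟨inv_mem ha.1, by rw [inv_pow, ha.2, inv_one]⟩

theorem Moved.D4_le : M.D4 ≤ M.D := fun _ h => h.1

theorem Moved.card_D4 : Nat.card M.D4 = 16 := by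
  let f : M.D4 →* T :=
    { toFun := fun d => (d : T) ^ 2
      map_one' := by simp
      map_mul' := fun a b => (show Commute (a : T) b from M.comm _ a.2.1 _ b.2.1).mul_pow 2 }
  have hr : f.range = M.E := by
    ext l
    constructor
    · rintro ⟨⟨d, hd⟩, rfl⟩
      exact M.mem_E (pow_mem hd.1 2) (by show (d ^ 2) ^ 2 = 1; rw [← pow_mul]; exact hd.2)
    · intro hl
      obtain ⟨r, hr, hr2⟩ := M.sq_root hl.1 (by
        rw [show M.a - 1 = 1 + (M.a - 2) by have := M.two_le; omega, pow_add, pow_one, pow_mul, hl.2, one_pow])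
      exact ⟨⟨r, hr, by rw [show 4 = 2 * 2 from rfl, pow_mul, hr2, hl.2]⟩, hr2⟩
  have hk : Nat.card f.ker = Nat.card M.E := Nat.card_congr
    { toFun := fun d => ⟨((d : M.D4) : T), M.mem_E (d : M.D4).2.1 d.2⟩
      invFun := fun l => ⟨⟨l, l.2.1, by rw [show 4 = 2 * 2 from rfl, pow_mul, l.2.2, one_pow]⟩, l.2.2⟩
      left_inv := fun d => rfl
      right_inv := fun l => rfl }
  rw [← f.ker.index_mul_card, Subgroup.index_ker, hr, hk, M.E_card]

variable {M}
variable {u : T} (hXD : S.X ≤ M.D) (hu : u ∈ S.C) (hu1 : u ≠ 1)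

include hXD hu hu1

theorem Moved.u_not_mem : u ∉ M.D := fun h => hu1 (M.fpf (M.mem_E h (M.fixed_form hXD hu hu1).1) (hu M.φ M.hφ))

theorem Moved.cases (t : T) : t ∈ M.D ∨ ∃ d ∈ M.D, t = d * u := by
  obtain ⟨c, hc, x, hx, rfl⟩ := S.exists_dec t
  by_cases hc1 : c = 1
  · exact Or.inl (by rw [hc1, mul_one]; exact hXD hx)
  · exact Or.inr ⟨x, hXD hx, by rw [M.fixed_unique hXD hc hu hc1 hu1]⟩

theorem Moved.index_D : M.D.index = 2 := by
  have hu2 := (M.fixed_form hXD hu hu1).1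
  refine Subgroup.index_eq_two_iff.2 ⟨u, fun t => ?_⟩
  rcases M.cases hXD hu hu1 t with h | ⟨d, hd, rfl⟩
  · refine Or.inr ⟨h, fun h' => M.u_not_mem hXD hu hu1 ?_⟩
    have := mul_mem (inv_mem h) h'
    rwa [inv_mul_cancel_left] at this
  · refine Or.inl ⟨by rw [mul_assoc, ← pow_two, hu2, mul_one]; exact hd, fun h' => M.u_not_mem hXD hu hu1 ?_⟩
    have := mul_mem (inv_mem hd) h'
    rwa [inv_mul_cancel_left] at this

theorem Moved.fixed_by {d : T} (hd : d ∈ M.D) (h : ⁅u, d⁆ = 1) : d ∈ M.E := by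
  obtain ⟨-, -, V, hV, hR⟩ := M.fixed_form hXD hu hu1
  obtain ⟨V', hV'V, -⟩ := exists_inverse M.a_ne (V := V) (by rw [hR, Matrix.det_one])
  obtain ⟨v, rfl⟩ := M.f_surj hd
  rw [M.conj_comm v (k := 1) (by rw [pow_one]; exact hV), ← M.f_zero, pow_one] at h
  have h2 := congrArg (fun z => V' *ᵥ z) (M.f_inj h)
  simp only [Matrix.mulVec_smul, Matrix.mulVec_mulVec, hV'V, Matrix.one_mulVec, Matrix.mulVec_zero] at h2
  exact M.mem_E (M.f_mem v) (by rw [← M.f_nsmul, h2, M.f_zero])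

theorem Moved.four_of_comm {d : T} (hd : d ∈ M.D) (h : ⁅u, d⁆ ∈ M.E) : d ^ 4 = 1 := by
  obtain ⟨-, -, V, hV, hR⟩ := M.fixed_form hXD hu hu1
  obtain ⟨V', hV'V, -⟩ := exists_inverse M.a_ne (V := V) (by rw [hR, Matrix.det_one])
  obtain ⟨v, rfl⟩ := M.f_surj hd
  rw [M.conj_comm v (k := 1) (by rw [pow_one]; exact hV), pow_one] at h
  have h1 : (2 : ℕ) • ((2 : ℕ) • (V *ᵥ v)) = 0 := M.f_inj (by rw [M.f_nsmul, h.2, M.f_zero])
  have h2 := congrArg (fun z => V' *ᵥ z) h1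
  simp only [smul_smul, Matrix.mulVec_smul, Matrix.mulVec_mulVec, hV'V, Matrix.one_mulVec, Matrix.mulVec_zero] at h2
  rw [← M.f_nsmul, show (4 : ℕ) = 2 * 2 from rfl, h2, M.f_zero]

theorem Moved.comm_mem {d : T} (hd : d ∈ M.D4) : ⁅d, u⁆ ∈ M.E := by
  obtain ⟨-, -, V, hV, -⟩ := M.fixed_form hXD hu hu1
  obtain ⟨hdD, hd4⟩ := hd
  obtain ⟨v, rfl⟩ := M.f_surj hdD
  rw [← M.f_nsmul, ← M.f_zero] at hd4
  rw [← commutatorElement_inv, M.conj_comm v (k := 1) (by rw [pow_one]; exact hV), pow_one]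
  refine inv_mem (M.mem_E (M.f_mem _) ?_)
  rw [← M.f_nsmul, smul_smul, show 2 * 2 = 4 from rfl, ← Matrix.mulVec_smul, M.f_inj hd4,
    Matrix.mulVec_zero, M.f_zero]

theorem Moved.exists_comm {l : T} (hl : l ∈ M.E) : ∃ d ∈ M.D4, ⁅d, u⁆ = l := by
  obtain ⟨-, -, V, hV, hR⟩ := M.fixed_form hXD hu hu1
  obtain ⟨V', -, hVV'⟩ := exists_inverse M.a_ne (V := V) (by rw [hR, Matrix.det_one])
  obtain ⟨r, hr⟩ := M.f_surj (hl.1)
  have h2 : (2 ^ 1) • r = 0 := M.f_inj (by rw [M.f_nsmul, hr, pow_one, hl.2, M.f_zero])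
  obtain ⟨r', hr'⟩ := vec_root (show 1 ≤ M.a by have := M.two_le; omega) h2
  set v := (2 ^ (M.a - 2)) • (V' *ᵥ r') with hv
  refine ⟨M.f v, ⟨M.f_mem v, ?_⟩, ?_⟩
  · rw [← M.f_nsmul, hv, smul_smul, show (4 : ℕ) = 2 ^ 2 from rfl, ← pow_add,
      two_pow_smul (a := M.a) (by have := M.two_le; omega), M.f_zero]
  · have e : (2 : ℕ) • (V *ᵥ v) = r := by
      rw [hv, Matrix.mulVec_smul, Matrix.mulVec_mulVec, hVV', Matrix.one_mulVec, smul_smul, ← pow_succ',
        show M.a - 2 + 1 = M.a - 1 by have := M.two_le; omega, hr']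
    rw [← commutatorElement_inv, M.conj_comm v (k := 1) (by rw [pow_one]; exact hV), pow_one, e, hr]
    exact inv_eq_of_mul_eq_one_right (by rw [← pow_two]; exact hl.2)

/-- Conjugation of the outer elements. -/
theorem Moved.comm_outer {n d : T} (hn : n ∈ M.D) (hd : d ∈ M.D) : ⁅n, d * u⁆ = ⁅n, u⁆ := by
  have h1 : ⁅n, u⁆ ∈ M.D := by
    rw [commutatorElement_def, show n * u * n⁻¹ * u⁻¹ = n * (u * n⁻¹ * u⁻¹) by simp [mul_assoc]]
    exact mul_mem hn (M.normal.conj_mem _ (inv_mem hn) u)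
  have h2 : ⁅n, d⁆ = 1 := commutatorElement_eq_one_iff_mul_comm.2 (M.comm n hn d hd)
  rw [show ⁅n, d * u⁆ = ⁅n, d⁆ * (d * ⁅n, u⁆ * d⁻¹) by simp [commutatorElement_def, mul_assoc], h2, one_mul,
    M.comm d hd _ h1, mul_inv_cancel_right]

/-- The elementary abelian subgroups of order eight. -/
theorem Moved.eight {W : Subgroup T} (hW2 : ∀ w ∈ W, w ^ 2 = 1) (hW : Nat.card W = 8) :
    M.E ≤ W ∧ ∃ d ∈ M.D, d * u ∈ W ∧ ∀ w ∈ W, w ∈ M.E ∨ w * (d * u) ∈ M.E := by
  have hWE : W ⊓ M.D ≤ M.E := fun w hw => M.mem_E hw.2 (hW2 w hw.1)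
  haveI := M.normal
  have hrel : M.D.relIndex W ∣ 2 := M.index_D hXD hu hu1 ▸ Subgroup.relIndex_dvd_index_of_normal M.D W
  have hmul : Nat.card (W ⊓ M.D : Subgroup T) * M.D.relIndex W = 8 := by
    rw [← hW, Subgroup.relIndex, ← (M.D.subgroupOf W).index_mul_card, mul_comm]
    congr 1
    rw [← Subgroup.inf_subgroupOf_right, Nat.card_congr (Subgroup.subgroupOfEquivOfLe inf_le_right).toEquiv, inf_comm]
  have hle : Nat.card (W ⊓ M.D : Subgroup T) ≤ 4 := (Subgroup.card_le_of_le hWE).trans M.E_card.le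
  have hge : 4 ≤ Nat.card (W ⊓ M.D : Subgroup T) := by
    rcases (Nat.dvd_prime Nat.prime_two).1 hrel with h | h <;> rw [h] at hmul <;> omega
  have he : W ⊓ M.D = M.E := Subgroup.eq_of_le_of_card_ge hWE (by rw [M.E_card]; exact hge)
  have hEW : M.E ≤ W := he ▸ inf_le_left
  refine ⟨hEW, ?_⟩
  obtain ⟨w, hw, hwD⟩ : ∃ w ∈ W, w ∉ M.D := by
    by_contra h
    push Not at h
    rw [inf_eq_left.2 h] at he
    rw [he, M.E_card] at hW
    omega
  obtain ⟨d, hd, rfl⟩ := (M.cases hXD hu hu1 w).resolve_left hwD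
  refine ⟨d, hd, hw, fun x hx => ?_⟩
  by_cases hxD : x ∈ M.D
  · exact Or.inl (he.le ⟨hx, hxD⟩)
  · refine Or.inr (he.le ⟨mul_mem hx hw, ?_⟩)
    exact (Subgroup.mul_mem_iff_of_index_two (M.index_D hXD hu hu1)).2 (iff_of_false hxD hwD)

/-- Elements of exponent four normalize the elementary subgroups of order eight. -/
theorem Moved.D4_normalize {W : Subgroup T} (hW2 : ∀ w ∈ W, w ^ 2 = 1) (hW : Nat.card W = 8) {n : T}
    (hn : n ∈ M.D4) {w : T} (hw : w ∈ W) : n * w * n⁻¹ ∈ W := by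
  obtain ⟨hEW, d, hd, hdW, hcase⟩ := M.eight hXD hu hu1 hW2 hW
  have hz : ∀ {l : T}, l ∈ M.E → ∀ g : T, g * l * g⁻¹ = l := fun {l} hl g => by
    rw [Subgroup.mem_center_iff.1 (M.E_central hl) g, mul_inv_cancel_right]
  have h1 : n * (d * u) * n⁻¹ ∈ W := by
    rw [show n * (d * u) * n⁻¹ = ⁅n, d * u⁆ * (d * u) by simp [commutatorElement_def, mul_assoc],
      M.comm_outer hXD hu hu1 hn.1 hd]
    exact mul_mem (hEW (M.comm_mem hXD hu hu1 hn)) hdW
  rcases hcase w hw with h | h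
  · rw [hz h]; exact hw
  · rw [show n * w * n⁻¹ = n * (w * (d * u)) * n⁻¹ * (n * (d * u) * n⁻¹)⁻¹ by simp [mul_assoc], hz h]
    exact mul_mem (hEW h) (inv_mem h1)

theorem Moved.normalizer_le {W : Subgroup T} (hW2 : ∀ w ∈ W, w ^ 2 = 1) (hW : Nat.card W = 8) :
    Nat.card (Subgroup.normalizer (W : Set T)) ≤ 32 := by
  obtain ⟨hEW, d, hd, hdW, hcase⟩ := M.eight hXD hu hu1 hW2 hW
  set N := Subgroup.normalizer (W : Set T)
  have hle : N ⊓ M.D ≤ M.D4 := by
    rintro n ⟨hn, hnD⟩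
    refine ⟨hnD, M.four_of_comm hXD hu hu1 hnD ?_⟩
    have h1 : n * (d * u) * n⁻¹ ∈ W := (Subgroup.mem_normalizer_iff.1 hn _).1 hdW
    have h2 : ⁅n, u⁆ ∈ W := by
      have := mul_mem h1 (inv_mem hdW)
      rwa [show n * (d * u) * n⁻¹ * (d * u)⁻¹ = ⁅n, d * u⁆ from rfl, M.comm_outer hXD hu hu1 hnD hd] at this
    have h3 : ⁅n, u⁆ ∈ M.D := by
      rw [commutatorElement_def, show n * u * n⁻¹ * u⁻¹ = n * (u * n⁻¹ * u⁻¹) by simp [mul_assoc]]
      exact mul_mem hnD (M.normal.conj_mem _ (inv_mem hnD) u)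
    rw [← commutatorElement_inv]
    exact inv_mem (M.mem_E h3 (hW2 _ h2))
  haveI := M.normal
  have hrel : M.D.relIndex N ∣ 2 := M.index_D hXD hu hu1 ▸ Subgroup.relIndex_dvd_index_of_normal M.D N
  rw [← (M.D.subgroupOf N).index_mul_card]
  have h1 : Nat.card (M.D.subgroupOf N) ≤ 16 := by
    rw [← Subgroup.inf_subgroupOf_right, Nat.card_congr (Subgroup.subgroupOfEquivOfLe inf_le_right).toEquiv,
      inf_comm, ← M.card_D4]
    exact Subgroup.card_le_of_le hle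
  have h2 : (M.D.subgroupOf N).index ≤ 2 := Nat.le_of_dvd two_pos hrel
  calc _ ≤ 2 * 16 := Nat.mul_le_mul h2 h1
    _ = 32 := rfl

/-- The centralizer of the fixed involution. -/
theorem Moved.card_centralizer : Nat.card (Subgroup.centralizer ({u} : Set T)) = 8 := by
  set U := Subgroup.centralizer ({u} : Set T) with hU
  have huU : u ∈ U := Subgroup.mem_centralizer_singleton_iff.2 rfl
  have he : U ⊓ M.D = M.E := le_antisymm
    (fun d hd => M.fixed_by hXD hu hu1 hd.2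
      (commutatorElement_eq_one_iff_mul_comm.2 (Subgroup.mem_centralizer_singleton_iff.1 hd.1).symm))
    (fun l hl => ⟨Subgroup.mem_centralizer_singleton_iff.2 (Subgroup.mem_center_iff.1 (M.E_central hl) u).symm, hl.1⟩)
  haveI := M.normal
  have hrel : M.D.relIndex U ∣ 2 := M.index_D hXD hu hu1 ▸ Subgroup.relIndex_dvd_index_of_normal M.D U
  have hne : M.D.relIndex U ≠ 1 := fun h =>
    M.u_not_mem hXD hu hu1 (Subgroup.relIndex_eq_one.1 h huU)
  rw [← (M.D.subgroupOf U).index_mul_card, ← Subgroup.relIndex,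
    ((Nat.dvd_prime Nat.prime_two).1 hrel).resolve_left hne, ← Subgroup.inf_subgroupOf_right,
    Nat.card_congr (Subgroup.subgroupOfEquivOfLe inf_le_right).toEquiv, inf_comm, he, M.E_card]

theorem Moved.centralizer_sq {w : T} (hw : w ∈ Subgroup.centralizer ({u} : Set T)) : w ^ 2 = 1 := by
  have hc := Subgroup.mem_centralizer_singleton_iff.1 hw
  rcases M.cases hXD hu hu1 w with h | ⟨d, hd, rfl⟩
  · exact (M.fixed_by hXD hu hu1 h (commutatorElement_eq_one_iff_mul_comm.2 hc.symm)).2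
  · have hdu : u * d = d * u := mul_right_cancel (b := u) (by rw [mul_assoc]; exact hc.symm)
    have hdE := M.fixed_by hXD hu hu1 hd (commutatorElement_eq_one_iff_mul_comm.2 hdu)
    rw [(show Commute d u from hdu.symm).mul_pow, hdE.2, (M.fixed_form hXD hu hu1).1, one_mul]

end Cfsg.Agent.NormalTwo
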