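/-
The Sylow group is not an extension of a homocyclic group by fixed elements.
-/
import Mathlib
import Cfsg.Agent.Lib.NormalTwo.Inverting
import Cfsg.Agent.Lib.AlperinRankTwo.Simple
import Cfsg.Agent.Lib.ZStarApps.CommTwo
import Cfsg.Agent.S0111

set_option autoImplicit false
set_option linter.style.haveILetI false
set_option linter.unusedSectionVars false

namespace Cfsg.Agent.NormalTwo

open scoped commutatorElement

variable {G : Type*} [Group G] [Finite G]

theorem mem_normalizer_of_conj_mem {U : Subgroup G} {n : G} (h : ∀ x ∈ U, n * x * n⁻¹ ∈ U) :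
    n ∈ Subgroup.normalizer (U : Set G) := by
  have hsurj : Function.Surjective (fun x : U => (⟨n * x * n⁻¹, h x x.2⟩ : U)) :=
    Finite.surjective_of_injective fun a b e =>
      Subtype.ext (mul_left_cancel (mul_right_cancel (congrArg Subtype.val e)))
  refine Subgroup.mem_normalizer_iff.2 fun x => ⟨h x, fun hx => ?_⟩
  obtain ⟨y, hy⟩ := hsurj ⟨_, hx⟩
  rw [← mul_left_cancel (mul_right_cancel (congrArg Subtype.val hy))]
  exact y.2

theorem homocyclic_false [IsSimpleGroup G] (hG : ¬ IsMulCommutative G) (P : Sylow 2 G)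
    (S : Setup (P : Subgroup G)) (M : Moved S) (hXD : S.X ≤ M.D) : False := by
  classical
  haveI : Fact (Nat.Prime 2) := ⟨Nat.prime_two⟩
  haveI : NeZero (2 ^ M.a) := ⟨by positivity⟩
  by_cases hC : ∀ c ∈ S.C, c = 1
  · have hD : ∀ t, t ∈ M.D := fun t => by
      obtain ⟨c, hc, x, hx, rfl⟩ := S.exists_dec t
      rw [hC c hc, mul_one]; exact hXD hx
    let g : Multiplicative (ZMod (2 ^ M.a) × ZMod (2 ^ M.a)) →* (P : Subgroup G) :=
      MonoidHom.mk' (fun p => M.f ![p.toAdd.1, p.toAdd.2]) fun p q => by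
        rw [← M.f_add]; congr 1; funext i; fin_cases i <;> rfl
    refine AlperinRankTwo.not_homocyclic hG P M.two_le (MulEquiv.ofBijective g ⟨fun p q h => ?_, fun t => ?_⟩).symm
    · have h1 := M.f_inj h
      exact Multiplicative.toAdd.injective (Prod.ext (congrFun h1 0) (congrFun h1 1))
    · obtain ⟨v, hv⟩ := M.f_surj (hD t)
      exact ⟨Multiplicative.ofAdd (v 0, v 1), (congrArg M.f (by funext i; fin_cases i <;> rfl)).trans hv⟩
  push Not at hC
  obtain ⟨u, hu, hu1⟩ := hC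
  obtain ⟨hu2, -⟩ := M.fixed_form hXD hu hu1
  -- transfer
  set ι := (P : Subgroup G).subtype
  have hinj : Function.Injective ι := Subgroup.subtype_injective _
  have hord : orderOf (u : G) = 2 := by
    rw [Subgroup.orderOf_coe]; exact orderOf_eq_prime hu2 hu1
  obtain ⟨g₀, hg₀⟩ : ∃ g : G, g * u * g⁻¹ ∈ M.D.map ι := by
    refine (S0111.result P (M.D.map ι) (Subgroup.map_subtype_le _) ?_ u hord u.2 ?_).resolve_left ?_
    · rw [Subgroup.relIndex, Subgroup.subgroupOf, Subgroup.comap_map_eq_self_of_injective hinj]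
      exact M.index_D hXD hu hu1
    · rintro ⟨d, hd, he⟩
      exact M.u_not_mem hXD hu hu1 (hinj he ▸ hd)
    · rintro ⟨N, hN, hi, -⟩
      exact ZStarApps.no_index_two hG N hN hi
  obtain ⟨e, heD, he⟩ := hg₀
  have he2 : e ^ 2 = 1 := hinj (by rw [map_pow, he, conj_pow, map_one]; simp [← Subgroup.coe_pow, hu2])
  have heE : e ∈ M.E := M.mem_E heD he2
  -- move the centralizer
  set U := Subgroup.centralizer ({u} : Set (P : Subgroup G))
  set UG := U.map ι with hUG
  have hUp : IsPGroup 2 ↥(UG.map (MulAut.conj g₀).toMonoidHom) := ((S.hT.to_subgroup U).map ι).map _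
  obtain ⟨c, hc, hcT⟩ := AlperinRankTwo.conj_into_sylow (S := P) (C := Subgroup.centralizer ({(e : G)} : Set G))
    (AlperinRankTwo.le_centralizer_of_center P (M.E_central heE)) (by
      rintro _ ⟨_, ⟨t, ht, rfl⟩, rfl⟩
      refine Subgroup.mem_centralizer_singleton_iff.2 ?_
      show g₀ * (t : G) * g₀⁻¹ * e = e * (g₀ * t * g₀⁻¹)
      rw [show (e : G) = g₀ * u * g₀⁻¹ from he]
      have h := congrArg Subtype.val (Subgroup.mem_centralizer_singleton_iff.1 ht)
      simp only [Subgroup.coe_mul] at h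
      calc g₀ * (t : G) * g₀⁻¹ * (g₀ * u * g₀⁻¹) = g₀ * ((t : G) * u) * g₀⁻¹ := by simp [mul_assoc]
        _ = _ := by rw [h]; simp [mul_assoc]) hUp
  set g := c * g₀ with hg
  have hgu : g * u * g⁻¹ = e := by
    have h1 : g₀ * u * g₀⁻¹ = e := he.symm
    rw [hg, show c * g₀ * u * (c * g₀)⁻¹ = c * (g₀ * u * g₀⁻¹) * c⁻¹ by simp [mul_assoc], h1,
      Subgroup.mem_centralizer_singleton_iff.1 hc, mul_inv_cancel_right]
  have hgT : ∀ x ∈ UG, g * x * g⁻¹ ∈ (P : Subgroup G) := fun x hx => by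
    have := hcT _ ⟨x, hx, rfl⟩
    show _ ∈ P
    simpa [hg, mul_assoc] using this
  have hU2 : ∀ x ∈ UG, x ^ 2 = 1 := by
    rintro _ ⟨t, ht, rfl⟩
    rw [← map_pow, M.centralizer_sq hXD hu hu1 ht, map_one]
  have hU8 : Nat.card UG = 8 := by
    rw [hUG, Subgroup.card_map_of_injective hinj]; exact M.card_centralizer hXD hu hu1
  -- the transported subgroup
  have transport : ∀ c' : G, (∀ x ∈ UG, c' * x * c'⁻¹ ∈ (P : Subgroup G)) →
      (∀ w ∈ (UG.map (MulAut.conj c').toMonoidHom).comap ι, w ^ 2 = 1) ∧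
      Nat.card ((UG.map (MulAut.conj c').toMonoidHom).comap ι) = 8 := by
    intro c' hc'
    refine ⟨fun w hw => ?_, ?_⟩
    · obtain ⟨x, hx, hxw⟩ := hw
      refine hinj ?_
      rw [map_pow, ← hxw, ← map_pow, hU2 x hx, map_one, map_one]
    · rw [show (UG.map (MulAut.conj c').toMonoidHom).comap ι = (UG.map (MulAut.conj c').toMonoidHom).subgroupOf P
        from rfl, Nat.card_congr (Subgroup.subgroupOfEquivOfLe (by rintro _ ⟨x, hx, rfl⟩; exact hc' x hx)).toEquiv,
        Subgroup.card_map_of_injective (MulAut.conj c').injective, hU8]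
  set W := (UG.map (MulAut.conj g).toMonoidHom).comap ι
  obtain ⟨hW2, hW8⟩ := transport g hgT
  obtain ⟨hEW, d₀, hd₀, hd₀W, hcase⟩ := M.eight hXD hu hu1 hW2 hW8
  have hEU : ∀ a ∈ M.E, (a : G) ∈ UG := fun a ha =>
    ⟨a, Subgroup.mem_centralizer_singleton_iff.2 (Subgroup.mem_center_iff.1 (M.E_central ha) u).symm, rfl⟩
  let gm : ∀ a ∈ M.E, (P : Subgroup G) := fun a ha => ⟨g * a * g⁻¹, hgT _ (hEU a ha)⟩
  have hgW : ∀ a (ha : a ∈ M.E), gm a ha ∈ W := fun a ha => ⟨a, hEU a ha, rfl⟩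
  have hgmul : ∀ a b (ha : a ∈ M.E) (hb : b ∈ M.E), gm (a * b) (mul_mem ha hb) = gm a ha * gm b hb :=
    fun a b ha hb => Subtype.ext (by simp [gm, mul_assoc])
  have hEW' : ∀ w ∈ M.E, ∀ g' : (P : Subgroup G), g' * w * g'⁻¹ = w := fun w hw g' => by
    rw [Subgroup.mem_center_iff.1 (M.E_central hw) g', mul_inv_cancel_right]
  obtain ⟨a, ha, haE⟩ : ∃ a, ∃ ha : a ∈ M.E, gm a ha ∉ M.E := by
    by_contra h
    push Not at h
    obtain ⟨⟨b, hb⟩, hb'⟩ := Finite.surjective_of_injective (f := fun x : M.E => (⟨gm x x.2, h x x.2⟩ : M.E))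
      (fun x y hxy => Subtype.ext (Subtype.ext (mul_left_cancel (mul_right_cancel
        (congrArg (fun z : M.E => ((z : (P : Subgroup G)) : G)) hxy))))) ⟨e, heE⟩
    have h1 : g * (b : G) * g⁻¹ = g * u * g⁻¹ := by
      rw [hgu]; exact congrArg (fun z : M.E => ((z : (P : Subgroup G)) : G)) hb'
    exact M.u_not_mem hXD hu hu1 (hinj (mul_left_cancel (mul_right_cancel h1)) ▸ hb.1)
  have ha1 : a ≠ 1 := fun h => haE (by
    have : gm a ha = 1 := Subtype.ext (by simp [gm, h])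
    rw [this]; exact one_mem _)
  obtain ⟨b, hb, hb1, hba⟩ : ∃ b ∈ M.E, b ≠ 1 ∧ b ≠ a := by
    obtain ⟨-, -, -, hall, he1, hef⟩ := M.three'
    by_cases h : M.e = a
    · refine ⟨M.φ M.e, M.E_facts.2.1 M.φ M.hφ _ M.eE, fun h' => he1 (M.φ.map_eq_one_iff.1 h'), fun h' => M.hm (h' ▸ h.symm)⟩
    · exact ⟨M.e, M.eE, he1, h⟩
  obtain ⟨p, hp, hp1, hpE⟩ : ∃ p, ∃ hp : p ∈ M.E, p ≠ 1 ∧ gm p hp ∈ M.E := by
    by_cases hbE : gm b hb ∈ M.E
    · exact ⟨b, hb, hb1, hbE⟩
    · refine ⟨a * b, mul_mem ha hb, fun h => hba ?_, ?_⟩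
      · rw [← inv_eq_of_mul_eq_one_right h]
        exact inv_eq_of_mul_eq_one_right (by rw [← pow_two]; exact ha.2)
      · rw [hgmul a b ha hb]
        have h1 := (hcase _ (hgW a ha)).resolve_left haE
        have h2 := (hcase _ (hgW b hb)).resolve_left hbE
        have h3 := mul_mem h1 (inv_mem h2)
        rw [mul_inv_rev, mul_assoc, mul_inv_cancel_left] at h3
        rwa [inv_eq_of_mul_eq_one_right (by rw [← pow_two]; exact hW2 _ (hgW b hb))] at h3
  have hap : a ≠ p := fun h => haE (by subst h; exact hpE)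
  have hEfour : ∀ x ∈ M.E, x = 1 ∨ x = p ∨ x = a ∨ x = p * a := by
    intro x hx
    have hm : M.φ p ≠ p := fun h => hp1 (M.fpf hp h)
    obtain ⟨-, -, -, hall, -, -⟩ := three S M.E_facts.2.2.1 M.E_facts.2.2.2 M.E_facts.2.1 M.hφ hp hm
    have sq : ∀ r : (P : Subgroup G), p * (p * r) = r := fun r => by
      rw [← mul_assoc, ← pow_two, hp.2, one_mul]
    rcases hall a ha with h | h | h | h
    · exact absurd h ha1
    · exact absurd h hap
    · subst h; exact hall x hx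
    · subst h
      rcases hall x hx with h' | h' | h' | h'
      · exact Or.inl h'
      · exact Or.inr (Or.inl h')
      · exact Or.inr (Or.inr (Or.inr (by rw [h', sq])))
      · exact Or.inr (Or.inr (Or.inl h'))
  -- the element n
  obtain ⟨d, hd, hdl⟩ := M.exists_comm hXD hu hu1 hpE
  obtain ⟨d', hd', hd'a⟩ := (M.cases hXD hu hu1 (gm a ha)).resolve_left fun h => haE (M.mem_E h (hW2 _ (hgW a ha)))
  have hdw : d * gm a ha * d⁻¹ = gm p hp * gm a ha := by
    rw [show d * gm a ha * d⁻¹ = ⁅d, gm a ha⁆ * gm a ha by simp [commutatorElement_def, mul_assoc], hd'a,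
      M.comm_outer hXD hu hu1 hd.1 hd', hdl]
  set n := g⁻¹ * (d : G) * g with hn
  have hna : n * (a : G) * n⁻¹ = p * a := by
    have h := congrArg Subtype.val hdw
    simp only [Subgroup.coe_mul, Subgroup.coe_inv, gm] at h
    calc n * (a : G) * n⁻¹ = g⁻¹ * ((d : G) * (g * a * g⁻¹) * (d : G)⁻¹) * g := by simp [hn, mul_assoc]
      _ = p * a := by rw [h]; simp [mul_assoc]
  have hnp : n * (p : G) * n⁻¹ = p := by
    have h := congrArg Subtype.val (hEW' _ hpE d)
    simp only [Subgroup.coe_mul, Subgroup.coe_inv, gm] at h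
    calc n * (p : G) * n⁻¹ = g⁻¹ * ((d : G) * (g * p * g⁻¹) * (d : G)⁻¹) * g := by simp [hn, mul_assoc]
      _ = p := by rw [h]; simp [mul_assoc]
  set EG := M.E.map ι with hEG
  have hnE : n ∈ Subgroup.normalizer (EG : Set G) := mem_normalizer_of_conj_mem (by
    rintro _ ⟨x, hx, rfl⟩
    rcases hEfour x hx with rfl | rfl | rfl | rfl
    · simp
    · exact ⟨x, hx, hnp.symm⟩
    · exact ⟨p * x, mul_mem hp hx, hna.symm⟩
    · refine ⟨a, ha, ?_⟩
      have h2 : ((p : (P : Subgroup G)) : G) * p = 1 := by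
        rw [← Subgroup.coe_mul, ← pow_two, hp.2, Subgroup.coe_one]
      show (a : G) = n * ((p * a : (P : Subgroup G)) : G) * n⁻¹
      rw [Subgroup.coe_mul, show n * ((p : G) * a) * n⁻¹ = (n * p * n⁻¹) * (n * a * n⁻¹) by simp [mul_assoc],
        hnp, hna, ← mul_assoc, h2, one_mul])
  have hnU : n ∈ Subgroup.normalizer (UG : Set G) := mem_normalizer_of_conj_mem fun x hx => by
    obtain ⟨y, hy, hyw⟩ := M.D4_normalize hXD hu hu1 hW2 hW8 hd (w := ⟨g * x * g⁻¹, hgT x hx⟩) ⟨x, hx, rfl⟩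
    have h : g * y * g⁻¹ = (d : G) * (g * x * g⁻¹) * (d : G)⁻¹ := hyw
    rw [show n * x * n⁻¹ = g⁻¹ * ((d : G) * (g * x * g⁻¹) * (d : G)⁻¹) * g by simp [hn, mul_assoc], ← h]
    simpa [mul_assoc] using hy
  set K := Subgroup.normalizer (UG : Set G) ⊓ Subgroup.normalizer (EG : Set G)
  set L := (Subgroup.centralizer (EG : Set G)).subgroupOf K
  haveI hLn : L.Normal := ⟨fun x hx k => by
    refine Subgroup.mem_centralizer_iff.2 fun y hy => ?_
    have hy' : (k : G)⁻¹ * y * k ∈ EG := by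
      have := (Subgroup.mem_normalizer_iff.1 (inv_mem k.2.2) y).1 hy
      rwa [inv_inv] at this
    have hx' : (k : G)⁻¹ * y * k * (x : G) = (x : G) * ((k : G)⁻¹ * y * k) :=
      Subgroup.mem_centralizer_iff.1 hx _ hy'
    simp only [Subgroup.coe_subtype, Subgroup.coe_mul, Subgroup.coe_inv]
    calc y * ((k : G) * x * (k : G)⁻¹) = k * ((k : G)⁻¹ * y * k * x) * (k : G)⁻¹ := by simp [mul_assoc]
      _ = _ := by rw [hx']; simp [mul_assoc]⟩
  set nK : K := ⟨n, hnU, hnE⟩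
  have hnL : nK ∉ L := fun h => hp1 (by
    have h1 : (a : G) * n = n * a := Subgroup.mem_centralizer_iff.1 h _ ⟨a, ha, rfl⟩
    rw [← h1, mul_inv_cancel_right] at hna
    exact hinj (mul_eq_right.1 hna.symm))
  have hn2 : nK ^ 2 ∈ L := by
    refine Subgroup.mem_centralizer_iff.2 ?_
    have hfix : ∀ x ∈ EG, n * (n * x * n⁻¹) * n⁻¹ = x := by
      have h2 : ((p : (P : Subgroup G)) : G) * p = 1 := by
        rw [← Subgroup.coe_mul, ← pow_two, hp.2, Subgroup.coe_one]
      have hna2 : n * (n * (a : G) * n⁻¹) * n⁻¹ = a := by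
        rw [hna, show n * ((p : G) * a) * n⁻¹ = (n * p * n⁻¹) * (n * a * n⁻¹) by simp [mul_assoc],
          hnp, hna, ← mul_assoc, h2, one_mul]
      rintro _ ⟨x, hx, rfl⟩
      rcases hEfour x hx with rfl | rfl | rfl | rfl
      · simp
      · show n * (n * (x : G) * n⁻¹) * n⁻¹ = x
        rw [hnp, hnp]
      · exact hna2
      · show n * (n * ((p * a : (P : Subgroup G)) : G) * n⁻¹) * n⁻¹ = ((p * a : (P : Subgroup G)) : G)
        rw [Subgroup.coe_mul, show n * (n * ((p : G) * a) * n⁻¹) * n⁻¹ = n * (n * p * n⁻¹) * n⁻¹ * (n * (n * a * n⁻¹) * n⁻¹)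
          by simp [mul_assoc], hnp, hnp, hna2]
    intro x hx
    simp only [Subgroup.coe_subtype, nK, pow_two]
    conv_lhs => rw [← hfix x hx]
    simp [mul_assoc]
  have h2dvd : 2 ∣ L.index := by
    have h1 : orderOf (nK : K ⧸ L) = 2 := orderOf_eq_prime
      (by rw [← QuotientGroup.mk_pow, QuotientGroup.eq_one_iff]; exact hn2)
      (fun h => hnL ((QuotientGroup.eq_one_iff _).1 h))
    rw [Subgroup.index, ← h1]
    exact orderOf_dvd_natCard _
  -- the two-part of the kernel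
  set N₀ := Subgroup.normalizer (U : Set (P : Subgroup G))
  have hN₀ : 32 ∣ Nat.card N₀ := by
    have hle : M.D4 < N₀ := by
      refine lt_of_le_of_ne (fun d hd => mem_normalizer_of_conj_mem fun w hw =>
        M.D4_normalize hXD hu hu1 (fun w' hw' => M.centralizer_sq hXD hu hu1 hw') (M.card_centralizer hXD hu hu1) hd hw)
        fun h => M.u_not_mem hXD hu hu1 (M.D4_le (h ▸ Subgroup.le_normalizer (Subgroup.mem_centralizer_singleton_iff.2 rfl)))
    have h1 : 16 < Nat.card N₀ := M.card_D4 ▸ Set.ncard_lt_ncard hle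
    obtain ⟨k, hk⟩ := IsPGroup.iff_card.1 (S.hT.to_subgroup N₀)
    rw [hk] at h1 ⊢
    exact Nat.pow_dvd_pow 2 (show 5 ≤ k from (Nat.pow_lt_pow_iff_right (a := 2) (by norm_num)).1 (show 2 ^ 4 < 2 ^ k from h1))
  have hNK : ∀ t ∈ N₀, (t : G) ∈ K ∧ (t : G) ∈ Subgroup.centralizer (EG : Set G) := by
    intro t ht
    refine ⟨⟨mem_normalizer_of_conj_mem ?_, mem_normalizer_of_conj_mem ?_⟩, Subgroup.mem_centralizer_iff.2 ?_⟩
    · rintro _ ⟨x, hx, rfl⟩
      exact ⟨t * x * t⁻¹, (Subgroup.mem_normalizer_iff.1 ht x).1 hx, by simp [ι]⟩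
    · rintro _ ⟨x, hx, rfl⟩
      exact ⟨x, hx, by conv_lhs => rw [← hEW' x hx t]
                       simp [ι]⟩
    · rintro _ ⟨x, hx, rfl⟩
      exact (congrArg Subtype.val (Subgroup.mem_center_iff.1 (M.E_central hx) t)).symm
  have h32 : 32 ∣ Nat.card L := by
    refine hN₀.trans (Subgroup.card_dvd_of_injective
      (MonoidHom.mk' (fun t : N₀ => (⟨⟨((t : (P : Subgroup G)) : G), (hNK t t.2).1⟩, (hNK t t.2).2⟩ : L))
        fun s t => Subtype.ext (Subtype.ext rfl)) fun s t h => ?_)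
    exact Subtype.ext (Subtype.ext (congrArg (fun z : L => ((z : K) : G)) h))
  have h64 : 2 ^ 6 ∣ Nat.card K := by
    rw [← L.index_mul_card]
    exact (show 2 ^ 6 = 2 * 32 by norm_num) ▸ Nat.mul_dvd_mul h2dvd h32
  obtain ⟨Q, hQ⟩ := Sylow.exists_subgroup_card_pow_prime 2 h64
  have hUK : UG ≤ K := by
    rintro _ ⟨t, ht, rfl⟩
    exact (hNK t (Subgroup.le_normalizer ht)).1
  haveI hUn : (UG.subgroupOf K).Normal := Subgroup.normal_subgroupOf_of_le_normalizer inf_le_left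
  obtain ⟨R, hR⟩ := (IsPGroup.of_card hQ).exists_le_sylow
  have hUR : UG.subgroupOf K ≤ R :=
    @IsPGroup.le_sylow_of_normal _ _ _ _ hUn (((S.hT.to_subgroup U).map ι).comap_subtype) R
  obtain ⟨c₂, -, hc₂⟩ := AlperinRankTwo.conj_into_sylow (S := P) (C := ⊤) le_top le_top (R.2.map K.subtype)
  have hc₂U : ∀ x ∈ UG, c₂ * x * c₂⁻¹ ∈ (P : Subgroup G) := fun x hx =>
    hc₂ x ⟨⟨x, hUK hx⟩, hUR hx, rfl⟩
  obtain ⟨hV2, hV8⟩ := transport c₂ hc₂U
  set V := (UG.map (MulAut.conj c₂).toMonoidHom).comap ι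
  have hcard := M.normalizer_le hXD hu hu1 hV2 hV8
  let em : Q →* (P : Subgroup G) :=
    MonoidHom.mk' (fun q => ⟨c₂ * ((q : K) : G) * c₂⁻¹, hc₂ _ ⟨q, hR q.2, rfl⟩⟩)
      fun s t => Subtype.ext (by simp [mul_assoc])
  have hem : Function.Injective em := fun s t h =>
    Subtype.ext (Subtype.ext (mul_left_cancel (mul_right_cancel (congrArg Subtype.val h))))
  have hle : em.range ≤ Subgroup.normalizer (V : Set (P : Subgroup G)) := by
    rintro _ ⟨q, rfl⟩
    refine mem_normalizer_of_conj_mem ?_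
    rintro v ⟨x, hx, hxv⟩
    refine ⟨((q : K) : G) * x * ((q : K) : G)⁻¹, (Subgroup.mem_normalizer_iff.1 (q : K).2.1 x).1 hx, ?_⟩
    have h : c₂ * x * c₂⁻¹ = (v : G) := hxv
    show c₂ * _ * c₂⁻¹ = c₂ * ((q : K) : G) * c₂⁻¹ * (v : G) * (c₂ * ((q : K) : G) * c₂⁻¹)⁻¹
    rw [← h]
    simp [mul_assoc]
  have := (Subgroup.card_le_of_le hle)
  rw [Nat.card_congr (MonoidHom.ofInjective hem).symm.toEquiv, hQ] at this
  omega

end Cfsg.Agent.NormalTwo
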