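/-
The case of sixteen classes modulo the centre.
-/
import Mathlib
import Cfsg.Agent.Lib.NormalTwo.Center

set_option autoImplicit false
set_option linter.style.haveILetI false
set_option linter.unusedSectionVars false

namespace Cfsg.Agent.NormalTwo

open scoped commutatorElement

variable {T : Type*} [Group T] [Finite T] (S : Setup T) (Q : ScnThreeTwo.Two S.X)

include Q

/-- A fixed element trivial on the classes lies in the moved part. -/
theorem trivial_le (h16 : S.Z.relIndex S.X = 16) {b : T} (hb : b ∈ S.C)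
    (h : ∀ x ∈ S.X, x⁻¹ * (b * x * b⁻¹) ∈ S.Z) : b ∈ S.X := by
  classical
  haveI := Z_normal S
  set q := QuotientGroup.mk' S.Z with hq
  have hcomm : ∀ x ∈ S.X, q b * q x = q x * q b := by
    intro x hx
    have h1 : q (x⁻¹ * (b * x * b⁻¹)) = 1 := (QuotientGroup.eq_one_iff _).2 (h x hx)
    simp only [map_mul, map_inv] at h1
    exact (eq_mul_inv_iff_mul_eq.1 (inv_mul_eq_one.1 h1)).symm
  -- powers of b keep the property
  by_contra hbX
  obtain ⟨k, hk⟩ := S.hT b
  have hex : ∃ j, b ^ 2 ^ j ∈ S.X := ⟨k, by rw [hk]; exact one_mem _⟩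
  obtain ⟨i, hi, hi1⟩ : ∃ i, b ^ 2 ^ i ∉ S.X ∧ b ^ 2 ^ (i + 1) ∈ S.X := by
    obtain ⟨i, hi⟩ : ∃ i, Nat.find hex = i + 1 := Nat.exists_eq_succ_of_ne_zero fun h0 => hbX (by
      have := Nat.find_spec hex; rwa [h0, pow_zero, pow_one] at this)
    exact ⟨i, Nat.find_min hex (by omega), hi ▸ Nat.find_spec hex⟩
  set b₁ := b ^ 2 ^ i with hb₁
  have hb1C : b₁ ∈ S.C := pow_mem hb _
  have hb12 : b₁ ^ 2 ∈ S.Z := inf_fixed S Q (by rw [hb₁, ← pow_mul, ← pow_succ]; exact hi1) (pow_mem hb1C 2)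
  have hcomm1 : ∀ x ∈ S.X, q b₁ * q x = q x * q b₁ := fun x hx => by
    rw [hb₁, map_pow]; exact (show Commute (q b) (q x) from hcomm x hx).pow_left _
  set H := S.X ⊔ Subgroup.zpowers b₁ with hH
  have hgen : H = Subgroup.closure ((S.X : Set T) ∪ {b₁}) := by
    rw [hH, Subgroup.zpowers_eq_closure, Subgroup.closure_union, Subgroup.closure_eq]
  have hH' : H.map q = Subgroup.closure (q '' ((S.X : Set T) ∪ {b₁})) := by rw [hgen, MonoidHom.map_closure]
  haveI hc : IsMulCommutative (H.map q) := by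
    rw [hH']
    refine Subgroup.isMulCommutative_closure ?_
    rintro _ ⟨u, hu, rfl⟩ _ ⟨v, hv, rfl⟩
    rcases hu with hu | hu <;> rcases hv with hv | hv
    · refine commutatorElement_eq_one_iff_mul_comm.1 ?_
      rw [← map_commutatorElement]
      exact (QuotientGroup.eq_one_iff _).2 (comm_mem S Q hu hv)
    · rw [Set.mem_singleton_iff.1 hv]; exact (hcomm1 u hu).symm
    · rw [Set.mem_singleton_iff.1 hu]; exact hcomm1 v hv
    · rw [Set.mem_singleton_iff.1 hu, Set.mem_singleton_iff.1 hv]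
  have hsq : ∀ w ∈ H.map q, w ^ 2 = 1 := by
    intro w hw
    rw [hH'] at hw
    induction hw using Subgroup.closure_induction with
    | mem w hw =>
      obtain ⟨u, hu, rfl⟩ := hw
      rw [← map_pow]
      refine (QuotientGroup.eq_one_iff _).2 ?_
      rcases hu with hu | hu
      · exact sq_mem S Q hu
      · rw [Set.mem_singleton_iff.1 hu]; exact hb12
    | one => exact one_pow _
    | mul u v hu hv ihu ihv =>
      rw [← hH'] at hu hv
      rw [(show Commute u v from congrArg Subtype.val (mul_comm' (⟨u, hu⟩ : H.map q) ⟨v, hv⟩)).mul_pow, ihu, ihv,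
        one_mul]
    | inv u _ ihu => rw [inv_pow, ihu, inv_one]
  haveI : (S.Z.subgroupOf H).Normal := (Z_normal S).subgroupOf H
  have h4 := S.sectional H (S.Z.subgroupOf H) ⊤ (.of_setLike_mul_comm (fun a _ c _ => by
    induction a using QuotientGroup.induction_on with | _ a => ?_
    induction c using QuotientGroup.induction_on with | _ c => ?_
    refine commutatorElement_eq_one_iff_mul_comm.1 ?_
    rw [← QuotientGroup.mk'_apply, ← QuotientGroup.mk'_apply, ← map_commutatorElement, QuotientGroup.mk'_apply,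
      QuotientGroup.eq_one_iff, Subgroup.mem_subgroupOf]
    refine (QuotientGroup.eq_one_iff _).1 ?_
    show q (((⁅a, c⁆ : H)) : T) = 1
    rw [← Subgroup.coe_subtype, map_commutatorElement, map_commutatorElement, commutatorElement_eq_one_iff_mul_comm]
    exact congrArg Subtype.val (mul_comm' (⟨q a, _, a.2, rfl⟩ : H.map q) ⟨q c, _, c.2, rfl⟩))) (fun a _ => by
    induction a using QuotientGroup.induction_on with | _ a => ?_
    rw [← QuotientGroup.mk_pow, QuotientGroup.eq_one_iff, Subgroup.mem_subgroupOf, Subgroup.coe_pow]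
    refine (QuotientGroup.eq_one_iff _).1 ?_
    show q ((a : T) ^ 2) = 1
    rw [map_pow]; exact hsq _ ⟨_, a.2, rfl⟩)
  rw [Subgroup.card_top] at h4
  have hrel : S.Z.relIndex H ≤ 16 := h4
  rw [← Subgroup.relIndex_mul_relIndex S.Z S.X H (Z_le S) le_sup_left, h16] at hrel
  have h1 : S.X.relIndex H ≠ 1 := fun h1 =>
    hi (Subgroup.relIndex_eq_one.1 h1 (Subgroup.mem_sup_right (Subgroup.mem_zpowers b₁)))
  have h0 : 0 < S.X.relIndex H := Nat.pos_of_ne_zero (Subgroup.index_ne_zero_of_finite (H := S.X.subgroupOf H))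
  nlinarith [show 2 ≤ S.X.relIndex H by omega]

/-- The classes fixed by the fixed part. -/
def Setup.W : Subgroup T where
  carrier := {y | y ∈ S.X ∧ ∀ c ∈ S.C, y⁻¹ * (c * y * c⁻¹) ∈ S.Z}
  one_mem' := ⟨one_mem _, fun c _ => by simp⟩
  mul_mem' := fun {u v} hu hv => ⟨mul_mem hu.1 hv.1, fun c hc => by
    have := mul_mem ((Z_normal S).conj_mem _ (hu.2 c hc) v⁻¹) (hv.2 c hc)
    simpa [mul_assoc] using this⟩
  inv_mem' := fun {u} hu => ⟨inv_mem hu.1, fun c hc => by
    have := (Z_normal S).conj_mem _ (inv_mem (hu.2 c hc)) u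
    simpa [mul_assoc] using this⟩

omit Q in
theorem W_inv : Inv S.A S.W := by
  rintro ψ hψ y ⟨hy, hyc⟩
  refine ⟨S.X_inv ψ hψ y hy, fun c hc => ?_⟩
  have := Z_inv S ψ hψ _ (hyc c hc)
  rwa [map_mul, map_inv, map_mul, map_mul, map_inv, hc ψ hψ] at this

theorem W_Z : S.Z ≤ S.W := fun z hz => ⟨Z_le S hz, fun c _ => mul_mem (inv_mem hz) ((Z_normal S).conj_mem z hz c)⟩

theorem W_normal : S.W.Normal := by
  refine ⟨fun y hy t => ?_⟩
  obtain ⟨c, hc, x, hx, rfl⟩ := S.exists_dec t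
  have h1 : c * y * c⁻¹ ∈ S.W := by
    have := mul_mem hy (W_Z S Q (hy.2 c hc))
    rwa [mul_inv_cancel_left] at this
  rw [show x * c * y * (x * c)⁻¹ = ⁅x, c * y * c⁻¹⁆ * (c * y * c⁻¹) by simp [commutatorElement_def, mul_assoc]]
  exact mul_mem (W_Z S Q (comm_mem S Q hx h1.1)) h1

set_option maxHeartbeats 800000 in
/-- The order of the Sylow group. -/
theorem sixteen (h16 : S.Z.relIndex S.X = 16)
    (hcentral : ∀ B : Subgroup T, B.Normal → B ≤ S.X → Inv S.A B → (∀ a ∈ B, ∀ b ∈ B, a * b = b * a) →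
      ∀ b ∈ B, ∀ x ∈ S.X, b * x = x * b) :
    Nat.card T = 64 ∨ Nat.card T = 128 ∨ (Nat.card S.Z = 2 ∧ Nat.card T = 32) := by
  classical
  haveI : Fact (Nat.Prime 2) := ⟨Nat.prime_two⟩
  haveI := Z_normal S
  haveI := W_normal S Q
  haveI := S.X_normal
  have hXc : Nat.card S.X = 16 * Nat.card S.Z := h16 ▸ card_X S Q
  suffices hidx : S.X.index ≤ 2 by
    have hTc : Nat.card T = S.X.index * Nat.card S.X := (S.X.index_mul_card).symm
    have h0 : 0 < S.X.index := Nat.pos_of_ne_zero Subgroup.index_ne_zero_of_finite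
    rw [hXc] at hTc
    rcases Z_cases S Q with h | h <;> rw [h] at hTc ⊢ <;> interval_cases S.X.index <;> omega
  have hmk : ∀ t : T, ∃ c ∈ S.C, (t : T ⧸ S.X) = c := fun t => by
    obtain ⟨c, hc, x, hx, rfl⟩ := S.exists_dec t
    exact ⟨c, hc, by rw [QuotientGroup.mk_mul, (QuotientGroup.eq_one_iff x).2 hx, one_mul]⟩
  by_cases hWX : S.X ≤ S.W
  · have hle : ∀ c ∈ S.C, c ∈ S.X := fun c hc => trivial_le S Q h16 hc fun x hx => (hWX hx).2 c hc
    have : S.X = ⊤ := eq_top_iff.2 fun t _ => by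
      obtain ⟨c, hc, x, hx, rfl⟩ := S.exists_dec t
      exact mul_mem hx (hle c hc)
    rw [this, Subgroup.index_top]; norm_num
  have hWle : S.W ≤ S.X := fun y hy => hy.1
  -- a fixed class
  have hnot : ¬ S.W ≤ S.Z := by
    intro hle
    set q := QuotientGroup.mk' S.Z
    haveI : Group.IsNilpotent (T ⧸ S.Z) := (S.hT.to_quotient S.Z).isNilpotent
    haveI : (S.X.map q).Normal := S.X_normal.map _ (QuotientGroup.mk'_surjective _)
    have hne : S.X.map q ≠ ⊥ := fun h => by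
      have h1 : S.Z.relIndex S.X = 1 := Subgroup.relIndex_eq_one.2 fun x hx =>
        (QuotientGroup.eq_one_iff x).1 (Subgroup.mem_bot.1 (h ▸ Subgroup.mem_map_of_mem q hx))
      omega
    obtain ⟨w, hw, hw1⟩ := (Subgroup.bot_or_exists_ne_one _).resolve_left (SolvStruct.inf_center_ne_bot hne)
    obtain ⟨⟨y, hy, rfl⟩, hyc⟩ := hw
    refine hw1 ((QuotientGroup.eq_one_iff y).2 (hle ⟨hy, fun c _ => ?_⟩))
    refine (QuotientGroup.eq_one_iff _).1 ?_
    show q (y⁻¹ * (c * y * c⁻¹)) = 1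
    rw [map_mul, map_inv, map_mul, map_mul, map_inv, Subgroup.mem_center_iff.1 hyc (q c), mul_inv_cancel_right,
      inv_mul_cancel]
  have hmul : S.Z.relIndex S.W * S.W.relIndex S.X = 16 :=
    (Subgroup.relIndex_mul_relIndex S.Z S.W S.X (W_Z S Q) hWle).trans h16
  obtain ⟨j, hj, hj'⟩ := (Nat.dvd_prime_pow Nat.prime_two).1 (show S.Z.relIndex S.W ∣ 2 ^ 4 from ⟨_, hmul.symm⟩)
  have h2 : S.Z.relIndex S.W = 4 ∧ S.W.relIndex S.X = 4 := by
    interval_cases j <;> rw [hj'] at hmul ⊢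
    · exact absurd (Subgroup.relIndex_eq_one.1 (hj'.trans (pow_zero 2))) hnot
    · exfalso
      haveI : (S.Z.subgroupOf S.W).Normal := (Z_normal S).subgroupOf S.W
      obtain ⟨y, hy, hyZ⟩ := SetLike.not_le_iff_exists.1 hnot
      refine hyZ (fixed_mem S Q hy.1 fun φ hφ => ?_)
      have hi : (S.Z.subgroupOf S.W).index = 2 := hj'.trans (pow_one 2)
      have hm := (Subgroup.mul_mem_iff_of_index_two hi (a := (⟨y, hy⟩ : S.W)⁻¹) (b := ⟨φ y, W_inv S φ hφ y hy⟩)).2
      simp only [inv_mem_iff, Subgroup.mem_subgroupOf, Subgroup.coe_mul, Subgroup.coe_inv] at hm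
      exact hm (iff_of_false hyZ fun h => hyZ (by simpa using Z_inv S φ⁻¹ (inv_mem hφ) _ h))
    · exact ⟨by norm_num, by norm_num at hmul ⊢; omega⟩
    · exfalso
      obtain ⟨a, ha, haW⟩ := SetLike.not_le_iff_exists.1 hWX
      refine no_half S (W_normal S Q) (W_inv S) ha haW fun x hx => ?_
      haveI : (S.W.subgroupOf S.X).Normal := (W_normal S Q).subgroupOf S.X
      have hi : (S.W.subgroupOf S.X).index = 2 := by show S.W.relIndex S.X = 2; norm_num at hmul; omega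
      by_cases hxW : x ∈ S.W
      · exact Or.inl hxW
      · refine Or.inr ?_
        have hm := (Subgroup.mul_mem_iff_of_index_two hi (a := (⟨a, ha⟩ : S.X)⁻¹) (b := ⟨x, hx⟩)).2
        simp only [inv_mem_iff, Subgroup.mem_subgroupOf, Subgroup.coe_mul, Subgroup.coe_inv] at hm
        exact hm (iff_of_false haW hxW)
    · exact absurd (Subgroup.relIndex_eq_one.1 (Nat.eq_of_mul_eq_mul_left (show 0 < 2 ^ 4 by norm_num) (hmul.trans (by norm_num)))) hWX
  obtain ⟨⟨x, hx, hxW, φ, hφ, hall⟩, htriv⟩ := four_quot S (W_normal S Q) (W_inv S)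
    (fun x hx => W_Z S Q (sq_mem S Q hx)) h2.2
  -- the homomorphism of the fixed part
  set q := QuotientGroup.mk' S.Z with hq
  let κ : S.C →* T ⧸ S.Z := MonoidHom.mk' (fun c => q (x⁻¹ * ((c : T) * x * (c : T)⁻¹))) (fun c d => by
    have h1 : x⁻¹ * (((c * d : S.C) : T) * x * ((c * d : S.C) : T)⁻¹) =
        (x⁻¹ * ((c : T) * x * (c : T)⁻¹)) * ((c : T) * (x⁻¹ * ((d : T) * x * (d : T)⁻¹)) * (c : T)⁻¹) := by
      simp [mul_assoc]
    rw [h1, map_mul]
    congr 1
    exact ((QuotientGroup.eq).2 ((htriv d d.2 x hx).2 c c.2)).symm)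
  have hker : ∀ c : S.C, κ c = 1 → (c : T) ∈ S.X := by
    intro c hc
    have h0 : x⁻¹ * ((c : T) * x * (c : T)⁻¹) ∈ S.Z := (QuotientGroup.eq_one_iff _).1 hc
    have hm : ∀ u v : T, u⁻¹ * ((c : T) * u * (c : T)⁻¹) ∈ S.Z → v⁻¹ * ((c : T) * v * (c : T)⁻¹) ∈ S.Z →
        (u * v)⁻¹ * ((c : T) * (u * v) * (c : T)⁻¹) ∈ S.Z := fun u v hu hv => by
      have := mul_mem ((Z_normal S).conj_mem _ hu v⁻¹) hv
      simpa [mul_assoc] using this
    have h1 : (φ x)⁻¹ * ((c : T) * φ x * (c : T)⁻¹) ∈ S.Z := by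
      have := Z_inv S φ hφ _ h0
      rwa [map_mul, map_mul, map_mul, map_inv, map_inv, c.2 φ hφ] at this
    refine trivial_le S Q h16 c.2 fun y hy => ?_
    rcases hall y hy with h | h | h | h
    · exact h.2 c c.2
    · rw [show y = x * (x⁻¹ * y) by simp]; exact hm _ _ h0 (h.2 c c.2)
    · rw [show y = φ x * ((φ x)⁻¹ * y) by simp]; exact hm _ _ h1 (h.2 c c.2)
    · rw [show y = x * φ x * ((x * φ x)⁻¹ * y) by simp [mul_assoc]]; exact hm _ _ (hm _ _ h0 h1) (h.2 c c.2)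
  have hrng : κ.range ≤ S.W.map q := by
    rintro _ ⟨c, rfl⟩
    exact ⟨_, htriv c c.2 x hx, rfl⟩
  have hcW : Nat.card (S.W.map q) = 4 := by
    let f : S.W →* T ⧸ S.Z := q.comp S.W.subtype
    have hr : f.range = S.W.map q := by rw [MonoidHom.range_comp, Subgroup.range_subtype]
    rw [← hr, ← Subgroup.index_ker, show f.ker = S.Z.subgroupOf S.W by ext y; exact QuotientGroup.eq_one_iff _]
    exact h2.1
  have hidx : S.X.index ∣ Nat.card κ.range := by
    let g : S.C →* T ⧸ S.X := (QuotientGroup.mk' S.X).comp S.C.subtype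
    have hg : Function.Surjective g := fun t => by
      induction t using QuotientGroup.induction_on with | _ t => ?_
      obtain ⟨c, hc, e⟩ := hmk t
      exact ⟨⟨c, hc⟩, e.symm⟩
    rw [← Subgroup.index_ker, Subgroup.index, ← Nat.card_congr (QuotientGroup.quotientKerEquivOfSurjective g hg).toEquiv]
    exact Subgroup.index_dvd_of_le fun c hc => (QuotientGroup.eq_one_iff _).2 (hker c hc)
  have hdvd : Nat.card κ.range ∣ 4 := hcW ▸ Subgroup.card_dvd_of_le hrng
  have hne4 : Nat.card κ.range ≠ 4 := by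
    intro h
    have he : κ.range = S.W.map q := Subgroup.eq_of_le_of_card_ge hrng (by omega)
    letI : CommGroup ↥(Subgroup.center S.X) :=
      { (inferInstance : Group ↥(Subgroup.center S.X)) with
        mul_comm := fun u w => Subtype.ext (Subgroup.mem_center_iff.1 w.2 u.1) }
    -- the parameters
    let w : S.C → S.X := fun c => ⟨x⁻¹ * ((c : T) * x * (c : T)⁻¹), (htriv c c.2 x hx).1⟩
    let xs : S.X := ⟨x, hx⟩
    have hs : x ^ 2 ∈ S.Z := sq_mem S Q hx
    have hval : ∀ c : S.C, ((w c ^ 2 * ⁅w c, xs⁆ : S.X) : T) = ⁅(c : T), x ^ 2⁆ := by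
      intro c
      have h1 := congrArg Subtype.val (Q.sq_mul xs (w c))
      simp only [Subgroup.coe_mul, Subgroup.coe_pow, xs] at h1
      have h3 : (x * (w c : T)) ^ 2 = (c : T) * x ^ 2 * (c : T)⁻¹ := by
        rw [show x * (w c : T) = (c : T) * x * (c : T)⁻¹ by simp [w], conj_pow]
      rw [h3] at h1
      have h4 : ⁅(c : T), x ^ 2⁆ = (c : T) * x ^ 2 * (c : T)⁻¹ * (x ^ 2)⁻¹ := rfl
      rw [h4, h1]
      have hzm : ((w c ^ 2 * ⁅w c, xs⁆ : S.X) : T) ∈ S.Z := (mem_Z_coe S).2 (mul_mem (Q.sq _) (Q.mem _ _))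
      have e := Z_comm S _ hs _ hzm
      have e2 : x ^ 2 * (w c : T) ^ 2 * ((⁅w c, xs⁆ : S.X) : T) = x ^ 2 * ((w c ^ 2 * ⁅w c, xs⁆ : S.X) : T) := by
        rw [Subgroup.coe_mul, Subgroup.coe_pow, mul_assoc]
      simp only [xs] at e2 e ⊢
      rw [e2, e, mul_inv_cancel_right]
    have hprod : ∀ c d : S.C, ⁅w d, w c⁆ = 1 := by
      intro c d
      have h1 : (w c * w d)⁻¹ * w (c * d) ∈ Subgroup.center S.X := by
        rw [← mem_Z_coe S]
        have h2 := (htriv d d.2 x hx).2 c c.2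
        simp only [w, Subgroup.coe_mul, Subgroup.coe_inv]
        have e : ∀ (a b c' x' : T), (x'⁻¹ * (a * x' * a⁻¹) * (x'⁻¹ * (b * x' * b⁻¹)))⁻¹ * (x'⁻¹ * (a * b * x' * (a * b)⁻¹)) =
            (x'⁻¹ * (b * x' * b⁻¹))⁻¹ * (a * (x'⁻¹ * (b * x' * b⁻¹)) * a⁻¹) := fun a b _ x' => by simp [mul_assoc]
        rw [e _ _ x x]
        exact h2
      have hsq2 := Q.sq_congr h1
      have hcm : ⁅w (c * d), xs⁆ = ⁅w c, xs⁆ * ⁅w d, xs⁆ := by
        rw [show w (c * d) = w c * w d * ((w c * w d)⁻¹ * w (c * d)) by simp [mul_assoc], Q.mul_left, Q.mul_left,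
          Q.center_comm _ _ h1, mul_one]
      have hδ : (w (c * d) ^ 2 * ⁅w (c * d), xs⁆ : S.X) = (w d ^ 2 * ⁅w d, xs⁆) * (w c ^ 2 * ⁅w c, xs⁆) := by
        refine Subtype.ext ?_
        rw [Subgroup.coe_mul (H := S.X) (w d ^ 2 * ⁅w d, xs⁆), hval, hval, hval, Subgroup.coe_mul,
          show ⁅(c : T) * d, x ^ 2⁆ = (c : T) * ⁅(d : T), x ^ 2⁆ * (c : T)⁻¹ * ⁅(c : T), x ^ 2⁆ by
            simp [commutatorElement_def, mul_assoc],
          Subgroup.mem_center_iff.1 (Z_comm_central S Q hs d) c, mul_inv_cancel_right]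
      rw [hsq2, Q.sq_mul, hcm] at hδ
      let A : Subgroup.center S.X := ⟨_, Q.sq (w c)⟩
      let B : Subgroup.center S.X := ⟨_, Q.sq (w d)⟩
      let E : Subgroup.center S.X := ⟨_, Q.mem (w d) (w c)⟩
      let P : Subgroup.center S.X := ⟨_, Q.mem (w c) xs⟩
      let R : Subgroup.center S.X := ⟨_, Q.mem (w d) xs⟩
      have hABE : A * B * E * (P * R) = B * R * (A * P) := Subtype.ext hδ
      have : E = 1 := by
        have h5 : A * B * E * (P * R) = A * B * (P * R) * E := mul_right_comm _ _ _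
        have h6 : B * R * (A * P) = A * B * (P * R) := (mul_comm _ _).trans (mul_mul_mul_comm A P B R)
        rw [h5, h6] at hABE
        exact mul_eq_left.1 hABE
      exact congrArg Subtype.val this
    have hab : ∀ u ∈ S.W, ∀ v ∈ S.W, u * v = v * u := by
      intro u hu v hv
      have key : ∀ y, y ∈ S.W → ∃ c : S.C, (w c : T)⁻¹ * y ∈ S.Z := fun y hy => by
        obtain ⟨c, hc⟩ : q y ∈ κ.range := he ▸ Subgroup.mem_map_of_mem q hy
        exact ⟨c, (QuotientGroup.eq).1 hc⟩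
      obtain ⟨c, hc⟩ := key u hu
      obtain ⟨d, hd⟩ := key v hv
      refine congrArg Subtype.val ((commutatorElement_eq_one_iff_mul_comm.1 ?_) :
        (⟨u, hu.1⟩ : S.X) * ⟨v, hv.1⟩ = ⟨v, hv.1⟩ * ⟨u, hu.1⟩)
      have hcz : (w c)⁻¹ * ⟨u, hu.1⟩ ∈ Subgroup.center S.X := (mem_Z_coe S).1 hc
      have hdz : (w d)⁻¹ * ⟨v, hv.1⟩ ∈ Subgroup.center S.X := (mem_Z_coe S).1 hd
      rw [show (⟨u, hu.1⟩ : S.X) = w c * ((w c)⁻¹ * ⟨u, hu.1⟩) by simp,
        show (⟨v, hv.1⟩ : S.X) = w d * ((w d)⁻¹ * ⟨v, hv.1⟩) by simp, Q.mul_left, Q.center_comm _ _ hcz, mul_one,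
        Q.mul_right, hprod, one_mul, ← commutatorElement_inv, Q.center_comm _ _ hdz, inv_one]
    refine hnot fun y hy => (mem_Z S).2 ⟨hy.1, hcentral _ (W_normal S Q) hWle (W_inv S) hab y hy⟩
  have : Nat.card κ.range ∣ 2 := by
    obtain ⟨i, hi, hi'⟩ := (Nat.dvd_prime_pow Nat.prime_two).1 (show Nat.card κ.range ∣ 2 ^ 2 from hdvd)
    rcases (show i = 0 ∨ i = 1 ∨ i = 2 by omega) with rfl | rfl | rfl
    · rw [hi']; norm_num
    · rw [hi']; norm_num
    · exact absurd (show Nat.card κ.range = 4 by rw [hi']; norm_num) hne4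
  exact Nat.le_of_dvd two_pos (hidx.trans this)

end Cfsg.Agent.NormalTwo
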