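/-
Sylow 2-subgroups of normal rank two with extra normalizer in simple groups.
-/
import Mathlib
import Cfsg.Agent.Lib.NormalTwo.CaseOneSpecial
import Cfsg.Agent.Lib.NormalTwo.Homocyclic
import Cfsg.Agent.Lib.NormalTwo.Sixteen
import Cfsg.Agent.Lib.NormalTwo.Extraspecial
import Cfsg.Agent.Lib.Solvable.Coprime

set_option autoImplicit false
set_option linter.style.haveILetI false
set_option linter.unusedSectionVars false

namespace Cfsg.Agent.NormalTwo

open scoped commutatorElement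

variable {G : Type*} [Group G] [Finite G]

/-- The odd automorphisms induced by the normalizer of a Sylow 2-subgroup. -/
theorem exists_setup (P : Sylow 2 G)
    (hd2 : ∀ A : Subgroup (P : Subgroup G), A.Normal → IsMulCommutative A →
      ∃ a b : (P : Subgroup G), Subgroup.closure {a, b} = A)
    (hN : ¬ Subgroup.normalizer ((P : Subgroup G) : Set G) ≤
      (P : Subgroup G) ⊔ Subgroup.centralizer ((P : Subgroup G) : Set G)) :
    ∃ S : Setup (P : Subgroup G), S.X ≠ ⊥ ∧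
      ∀ y : (P : Subgroup G), y ∈ S.C → y ∈ Subgroup.center (P : Subgroup G) →
        ∀ n ∈ Subgroup.normalizer ((P : Subgroup G) : Set G), n * (y : G) * n⁻¹ = y := by
  classical
  haveI : Fact (Nat.Prime 2) := ⟨Nat.prime_two⟩
  set T := (P : Subgroup G) with hT
  set N := Subgroup.normalizer (T : Set G)
  haveI hTn : (T.subgroupOf N).Normal := Subgroup.normal_subgroupOf_of_le_normalizer le_rfl
  let T' : Sylow 2 N := P.subtype Subgroup.le_normalizer
  have hT' : (T' : Subgroup N) = T.subgroupOf N := Sylow.coe_subtype ..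
  have hcop : Nat.Coprime (Nat.card (T.subgroupOf N)) (T.subgroupOf N).index := by
    rw [← hT']; exact T'.card_coprime_index
  obtain ⟨H', hH'⟩ := Subgroup.exists_right_complement'_of_coprime hcop
  set H := H'.map N.subtype
  have hHN : H ≤ N := Subgroup.map_subtype_le _
  have hcard : Nat.card H = (T.subgroupOf N).index := by
    rw [Subgroup.card_map_of_injective N.subtype_injective, ← hH'.symm.index_eq_card]
  have hTN : Nat.card (T.subgroupOf N) = Nat.card T :=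
    Nat.card_congr (Subgroup.subgroupOfEquivOfLe Subgroup.le_normalizer).toEquiv
  have hcopHT : (Nat.card H).Coprime (Nat.card T) := by rw [hcard, ← hTN]; exact hcop.symm
  have hodd : Odd (Nat.card H) := by
    rw [Nat.odd_iff, ← Nat.two_dvd_ne_zero, hcard, ← hT']
    exact T'.not_dvd_index
  have hdecN : ∀ n ∈ N, ∃ t ∈ T, ∃ h ∈ H, n = t * h := by
    intro n hn
    have hm : (⟨n, hn⟩ : N) ∈ T.subgroupOf N ⊔ H' := by rw [hH'.sup_eq_top]; trivial
    obtain ⟨t, ht, h, hh, e⟩ := Subgroup.mem_sup_of_normal_left.1 hm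
    exact ⟨t, ht, h, ⟨h, hh, rfl⟩, congrArg Subtype.val e.symm⟩
  let ψ : H →* MulAut T := T.normalizerMonoidHom.comp (Subgroup.inclusion hHN)
  have hψ : ∀ (h : H) (t : T), ((ψ h t : T) : G) = (h : G) * t * (h : G)⁻¹ := fun h t => rfl
  set A := ψ.range
  have hA : Odd (Nat.card A) := hodd.of_dvd_nat (Subgroup.card_range_dvd ψ)
  have hconjT : ∀ h ∈ H, ∀ t ∈ T, h * t * h⁻¹ ∈ T := fun h hh t ht =>
    (Subgroup.mem_normalizer_iff.1 (hHN hh) t).1 ht
  have hHT : H ≤ Subgroup.normalizer (T : Set G) := hHN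
  haveI : Group.IsNilpotent T := P.2.isNilpotent
  have hsol : Group.IsSolvable T := inferInstance
  have hcomm : ⁅T, H⁆ ≤ (moved A).map T.subtype := by
    rw [Subgroup.commutator_le]
    intro t ht h hh
    refine ⟨(⟨t, ht⟩ : T)⁻¹⁻¹ * ψ ⟨h, hh⟩ (⟨t, ht⟩ : T)⁻¹, Subgroup.subset_closure ⟨ψ ⟨h, hh⟩, ⟨_, rfl⟩, _, rfl⟩, ?_⟩
    rw [Subgroup.coe_subtype, Subgroup.coe_mul, hψ]
    simp [commutatorElement_def, mul_assoc]
  have hdec : ∀ t : T, ∃ c ∈ fixed A, c⁻¹ * t ∈ moved A := by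
    intro t
    obtain ⟨c, hc, hkc⟩ := CoprimeAct.exists_mem_centralizer hHT hcopHT (Or.inr hsol)
      (CoprimeAct.commutator_le_left hHT) (Subgroup.normalizer_commutator_ge_left T H)
      (Subgroup.normalizer_commutator_ge_right T H) t.2 (fun a ha => by
        rw [← commutatorElement_def, ← commutatorElement_inv]
        exact inv_mem (Subgroup.commutator_mem_commutator t.2 ha))
    refine ⟨⟨c, hc.1⟩, ?_, ?_⟩
    · rintro φ ⟨h, rfl⟩
      refine Subtype.ext ?_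
      rw [hψ, Subgroup.mem_centralizer_iff.1 hc.2 h h.2, mul_inv_cancel_right]
    · obtain ⟨m, hm, e⟩ := hcomm hkc
      have e' : m = t⁻¹ * ⟨c, hc.1⟩ := Subtype.ext e
      have : (⟨c, hc.1⟩ : T)⁻¹ * t = m⁻¹ := by rw [e']; simp
      rw [this]
      exact inv_mem hm
  refine ⟨⟨A, P.2, hA, hd2, hdec⟩, fun hX => hN ?_, fun y hy hyc n hn => ?_⟩
  · intro n hn
    obtain ⟨t, ht, h, hh, rfl⟩ := hdecN n hn
    refine mul_mem (Subgroup.mem_sup_left ht) (Subgroup.mem_sup_right (Subgroup.mem_centralizer_iff.2 fun s hs => ?_))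
    have h1 : (⟨s, hs⟩ : T)⁻¹ * ψ ⟨h, hh⟩ ⟨s, hs⟩ ∈ moved A :=
      Subgroup.subset_closure ⟨ψ ⟨h, hh⟩, ⟨_, rfl⟩, _, rfl⟩
    change _ ∈ moved A at h1
    rw [show moved A = ⊥ from hX, Subgroup.mem_bot, inv_mul_eq_one] at h1
    have h2 := congrArg Subtype.val h1
    rw [hψ] at h2
    exact (mul_inv_eq_iff_eq_mul.1 h2.symm).symm
  · obtain ⟨t, ht, h, hh, rfl⟩ := hdecN n hn
    have h1 : (h : G) * y * h⁻¹ = y := by
      have := congrArg Subtype.val (hy (ψ ⟨h, hh⟩) ⟨_, rfl⟩)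
      rwa [hψ] at this
    have h2 := congrArg Subtype.val (Subgroup.mem_center_iff.1 hyc ⟨t, ht⟩)
    simp only [Subgroup.coe_mul] at h2
    calc t * h * (y : G) * (t * h)⁻¹ = t * (h * y * h⁻¹) * t⁻¹ := by simp [mul_assoc]
      _ = y := by rw [h1, h2, mul_inv_cancel_right]

variable {T : Type*} [Group T] [Finite T]

/-- The alternatives for an abelian moved part. -/
theorem abelian_case (S : Setup T) (hX : S.X ≠ ⊥) (hab : ∀ a ∈ S.X, ∀ b ∈ S.X, a * b = b * a)
    (hsmall : ∀ B : Subgroup T, B.Normal → B ≤ S.X → Inv S.A B → (∀ a ∈ B, ∀ b ∈ B, a * b = b * a) →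
      (∃ φ ∈ S.A, ∃ b ∈ B, φ b ≠ b) → ∀ b ∈ B, b ^ 2 = 1) : Nat.card T = 4 := by
  have hmv : ∃ φ ∈ S.A, ∃ b ∈ S.X, φ b ≠ b := by
    by_contra h
    push Not at h
    refine hX ((Subgroup.eq_bot_iff_forall _).2 fun x hx => ?_)
    letI : CommGroup S.X :=
      { (inferInstance : Group S.X) with mul_comm := fun a b => Subtype.ext (hab a a.2 b b.2) }
    exact congrArg Subtype.val (S.hom_kill (MonoidHom.id S.X) (fun φ hφ y => Subtype.ext (h φ hφ y y.2)) ⟨x, hx⟩)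
  obtain ⟨φ, hφ, b, hb, hm⟩ := hmv
  have hEl : Cfsg.IsElementaryAbelian 2 S.X :=
    ⟨.of_setLike_mul_comm hab, hsmall S.X S.X_normal le_rfl S.X_inv hab ⟨φ, hφ, b, hb, hm⟩⟩
  have h4 := S.hN8 _ S.X_normal hEl
  have hcen := central_small S S.X_normal hEl h4 S.X_inv ⟨φ, hφ, b, hb, hm⟩
  obtain ⟨-, -, hc4, -, -, -⟩ := three S hEl h4 S.X_inv hφ hb hm
  have htop : S.X = ⊤ := eq_top_iff.2 fun t _ => by
    obtain ⟨c, hc, x, hx, rfl⟩ := S.exists_dec t
    rw [fixed_centralizing S hEl S.X_inv hcen hc4 hφ hb hm hc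
      (fun y hy => (Subgroup.mem_center_iff.1 (hcen hy) c).symm), mul_one]
    exact hx
  rw [htop, Subgroup.card_top] at hc4
  exact hc4

/-- The order of a Sylow 2-subgroup of normal rank two with extra normalizer in a simple group. -/
theorem main [IsSimpleGroup G] (hG : ¬ IsMulCommutative G) (P : Sylow 2 G)
    (hd2 : ∀ A : Subgroup (P : Subgroup G), A.Normal → IsMulCommutative A →
      ∃ a b : (P : Subgroup G), Subgroup.closure {a, b} = A)
    (hN : ¬ Subgroup.normalizer ((P : Subgroup G) : Set G) ≤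
      (P : Subgroup G) ⊔ Subgroup.centralizer ((P : Subgroup G) : Set G)) :
    Nat.card (P : Subgroup G) = 4 ∨ Nat.card (P : Subgroup G) = 64 ∨ Nat.card (P : Subgroup G) = 128 := by
  classical
  obtain ⟨S, hX, hNfix⟩ := exists_setup P hd2 hN
  by_cases hbig : ∃ B : Subgroup (P : Subgroup G), B.Normal ∧ B ≤ S.X ∧ Inv S.A B ∧
      (∀ a ∈ B, ∀ b ∈ B, a * b = b * a) ∧ (∃ φ ∈ S.A, ∃ b ∈ B, φ b ≠ b) ∧ ∃ b ∈ B, b ^ 2 ≠ 1
  · obtain ⟨B, hBn, hBX, hBi, hBc, ⟨φ, hφ, b, hb, hm⟩, hB2⟩ := hbig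
    obtain ⟨D, hBD, hD⟩ := (Set.toFinite {N : Subgroup (P : Subgroup G) | N.Normal ∧ N ≤ S.X ∧ Inv S.A N ∧
      ∀ a ∈ N, ∀ b ∈ N, a * b = b * a}).exists_le_maximal (show B ∈ _ from ⟨hBn, hBX, hBi, hBc⟩)
    obtain ⟨hDn, hDX, hDi, hDc⟩ := hD.prop
    obtain ⟨e, he, he2, hem⟩ : ∃ e ∈ B, e ^ 2 = 1 ∧ φ e ≠ e := by
      by_contra h
      push Not at h
      exact hm (trivial_of_omega S hBc hφ (hBi φ hφ) h b hb)
    obtain ⟨d, hd, hd2'⟩ := hB2
    let M : Moved S :=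
      { D := D, normal := hDn, inv := hDi, leX := hDX, comm := hDc
        max := fun N h1 h2 h3 h4 h5 => hD.le_of_ge ⟨h1, h2, h3, h4⟩ h5
        φ := φ, hφ := hφ, e := e, he := hBD he, he2 := he2, hm := hem, big := ⟨d, hBD hd, hd2'⟩ }
    by_cases hXD : S.X ≤ M.D
    · exact (homocyclic_false hG P S M hXD).elim
    · exact Or.inr (M.special hXD)
  push Not at hbig
  have hsmall : ∀ B : Subgroup (P : Subgroup G), B.Normal → B ≤ S.X → Inv S.A B →
      (∀ a ∈ B, ∀ b ∈ B, a * b = b * a) → (∃ φ ∈ S.A, ∃ b ∈ B, φ b ≠ b) → ∀ b ∈ B, b ^ 2 = 1 := hbig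
  have hcentral : ∀ B : Subgroup (P : Subgroup G), B.Normal → B ≤ S.X → Inv S.A B →
      (∀ a ∈ B, ∀ b ∈ B, a * b = b * a) → ∀ b ∈ B, ∀ x ∈ S.X, b * x = x * b := by
    intro B hBn hBX hBi hBc
    by_cases hmv : ∀ φ ∈ S.A, ∀ b ∈ B, φ b = b
    · exact S.centralized_of_fixed hBn hmv
    push Not at hmv
    have hEl : Cfsg.IsElementaryAbelian 2 B := ⟨.of_setLike_mul_comm hBc, hsmall B hBn hBX hBi hBc hmv⟩
    intro b hb x _
    exact (Subgroup.mem_center_iff.1 (central_small S hBn hEl (S.hN8 B hBn hEl) hBi hmv hb) x).symm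
  by_cases hab : ∀ a ∈ S.X, ∀ b ∈ S.X, a * b = b * a
  · exact Or.inl (abelian_case S hX hab hsmall)
  push Not at hab
  obtain ⟨a, ha, b, hb, hne⟩ := hab
  have Q : ScnThreeTwo.Two S.X :=
    two_of_central S ⟨⟨a, ha⟩, ⟨b, hb⟩, fun h => hne (congrArg Subtype.val h)⟩ hcentral hsmall
  rcases relIndex_cases S Q with h | h
  · obtain ⟨z, hz⟩ := quat_case S Q h
    exact (quat_false hG P S hz hNfix).elim
  · rcases sixteen S Q h hcentral with g | g | ⟨g1, g2⟩
    · exact Or.inr (Or.inl g)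
    · exact Or.inr (Or.inr g)
    · exact (extraspecial_false hG P S Q h g1 g2).elim

end Cfsg.Agent.NormalTwo
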